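import Mathlib.Algebra.Category.ModuleCat.Presheaf.Monoidal
import Mathlib.Algebra.Category.ModuleCat.Presheaf.Limits
import Mathlib.RingTheory.Flat.CategoryTheory

set_option autoImplicit false

namespace Groth.Agent.Lib.Helper42.PreFlat

universe u
open CategoryTheory MonoidalCategory Limits Opposite

variable {C : Type u} [SmallCategory C] (O : Cᵒᵖ ⥤ CommRingCat.{u})

theorem preservesFiniteLimits_tensorRight_of_flat
    (F : PresheafOfModules.{u} (O ⋙ forget₂ CommRingCat.{u} RingCat.{u}))
    (hF : ∀ X : Cᵒᵖ, Module.Flat (O.obj X) (F.obj X)) :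
    PreservesFiniteLimits (tensorRight F) := by
  constructor
  intro K _ _
  constructor
  intro D
  constructor
  intro c hc
  constructor
  apply PresheafOfModules.evaluationJointlyReflectsLimits
  intro X
  have := hF X
  exact isLimitOfPreserves (tensorRight (show ModuleCat (O.obj X) from F.obj X))
    (isLimitOfPreserves (PresheafOfModules.evaluation _ X) hc)

end Groth.Agent.Lib.Helper42.PreFlat
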