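import Mathlib.Algebra.Homology.ShortComplex.SnakeLemma
import Mathlib.Algebra.Homology.ShortComplex.Limits
import Mathlib.Algebra.Homology.ShortComplex.ExactFunctor
import Mathlib.CategoryTheory.Abelian.Exact
import Mathlib.CategoryTheory.Preadditive.AdditiveFunctor
import Mathlib.CategoryTheory.Limits.ExactFunctor

set_option autoImplicit false

namespace Groth.Agent.Lib.Helper42.Snake

universe v u
open CategoryTheory Limits ShortComplex

variable {A : Type u} [Category.{v} A] [Abelian A]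

/-- special case of the snake lemma -/
theorem mono_cokernel_map (L₁ L₂ : ShortComplex A) (φ : L₁ ⟶ L₂)
    (h₁ : L₁.Exact) [Epi L₁.g] (h₂ : L₂.Exact) [Mono L₂.f] [Mono φ.τ₃]
    {Q₁ Q₂ : A} (q₁ : L₂.X₁ ⟶ Q₁) (q₂ : L₂.X₂ ⟶ Q₂) (w₁ : φ.τ₁ ≫ q₁ = 0) (w₂ : φ.τ₂ ≫ q₂ = 0)
    (hq₁ : IsColimit (CokernelCofork.ofπ q₁ w₁)) (hq₂ : IsColimit (CokernelCofork.ofπ q₂ w₂))
    (b : Q₁ ⟶ Q₂) (hb : q₁ ≫ b = L₂.f ≫ q₂) : Mono b := by
  let S : SnakeInput A :=
    { L₀ := kernel φ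
      L₁ := L₁
      L₂ := L₂
      L₃ := cokernel φ
      v₀₁ := kernel.ι φ
      v₁₂ := φ
      v₂₃ := cokernel.π φ
      w₀₂ := kernel.condition φ
      w₁₃ := cokernel.condition φ
      h₀ := kernelIsKernel φ
      h₃ := cokernelIsCokernel φ
      L₁_exact := h₁
      epi_L₁_g := inferInstance
      L₂_exact := h₂
      mono_L₂_f := inferInstance }
  have hz : IsZero S.L₀.X₃ := by
    have h0 : S.v₀₁.τ₃ = 0 := by
      rw [← cancel_mono φ.τ₃, zero_comp]
      exact S.w₀₂_τ₃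
    have := S.mono_v₀₁_τ₃
    exact IsZero.of_mono_eq_zero _ h0
  have hm : Mono S.L₃.f := S.L₂'_exact.mono_g (hz.eq_of_src _ _)
  let e₁ : S.L₃.X₁ ≅ Q₁ := S.h₃τ₁.coconePointUniqueUpToIso hq₁
  let e₂ : S.L₃.X₂ ≅ Q₂ := S.h₃τ₂.coconePointUniqueUpToIso hq₂
  have he₁ : S.v₂₃.τ₁ ≫ e₁.hom = q₁ :=
    S.h₃τ₁.comp_coconePointUniqueUpToIso_hom hq₁ WalkingParallelPair.one
  have he₂ : S.v₂₃.τ₂ ≫ e₂.hom = q₂ :=
    S.h₃τ₂.comp_coconePointUniqueUpToIso_hom hq₂ WalkingParallelPair.one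
  have hcomm : e₁.hom ≫ b = S.L₃.f ≫ e₂.hom := by
    have := S.epi_v₂₃_τ₁
    rw [← cancel_epi S.v₂₃.τ₁, reassoc_of% he₁, hb]
    have hc := S.v₂₃.comm₁₂
    rw [reassoc_of% hc, he₂]
  have : b = e₁.inv ≫ S.L₃.f ≫ e₂.hom := by
    rw [← hcomm, Iso.inv_hom_id_assoc]
  rw [this]
  infer_instance

theorem additive_of_preservesFiniteColimits {B : Type*} [Category* B] [Abelian B]
    (F : A ⥤ B) [PreservesFiniteColimits F] : F.Additive :=
  rightExactFunctor_le_additiveFunctor A B F ((rightExactFunctor_iff F).mpr inferInstance)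

section Bifunctor

variable (T : A ⥤ A ⥤ A) [∀ G, PreservesFiniteColimits (T.obj G)]
  [∀ M, PreservesFiniteColimits (T.flip.obj M)]

include T in
theorem mono_map_of_resolution (S R : ShortComplex A) (hS : S.ShortExact) (hR : R.ShortExact)
    (h1 : Mono ((T.obj R.X₂).map S.f)) (h2 : Mono ((T.flip.obj S.X₃).map R.f)) :
    Mono ((T.obj R.X₃).map S.f) := by
  have hadd : ∀ G, (T.obj G).Additive := fun G => additive_of_preservesFiniteColimits _
  have hadd' : ∀ M, (T.flip.obj M).Additive := fun M => additive_of_preservesFiniteColimits _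
  have hex : ∀ G, (S.map (T.obj G)).Exact ∧ Epi ((T.obj G).map S.g) := fun G =>
    (Functor.preservesFiniteColimits_iff_forall_exact_map_and_epi (T.obj G)).mp inferInstance S hS
  have hex' : ∀ M, (R.map (T.flip.obj M)).Exact ∧ Epi ((T.flip.obj M).map R.g) := fun M =>
    (Functor.preservesFiniteColimits_iff_forall_exact_map_and_epi (T.flip.obj M)).mp
      inferInstance R hR
  let L₁ := S.map (T.obj R.X₁)
  let L₂ := S.map (T.obj R.X₂)
  let φ : L₁ ⟶ L₂ := S.mapNatTrans (T.map R.f)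
  have : Epi L₁.g := (hex R.X₁).2
  have : Mono L₂.f := h1
  have : Mono φ.τ₃ := h2
  have w : ∀ M, (T.map R.f).app M ≫ (T.map R.g).app M = 0 := by
    intro M
    exact (R.map (T.flip.obj M)).zero
  have hq : ∀ M, IsColimit (CokernelCofork.ofπ ((T.map R.g).app M) (w M)) := by
    intro M
    have : Epi (R.map (T.flip.obj M)).g := (hex' M).2
    exact (hex' M).1.gIsCokernel
  refine mono_cokernel_map L₁ L₂ φ (hex R.X₁).1 (hex R.X₂).1
    ((T.map R.g).app S.X₁) ((T.map R.g).app S.X₂) (w S.X₁) (w S.X₂) (hq S.X₁) (hq S.X₂)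
    ((T.obj R.X₃).map S.f) ?_
  exact ((T.map R.g).naturality S.f).symm

end Bifunctor

end Groth.Agent.Lib.Helper42.Snake
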