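import Groth.Agent.Lib.Helper42.Flat
import Groth.Agent.Lib.Helper42.PreFlat
import Groth.Agent.Lib.Helper42.Snake
import Mathlib.Algebra.Category.ModuleCat.Presheaf.Free
import Mathlib.RingTheory.Flat.Basic

set_option autoImplicit false

namespace Groth.Agent.Lib.Helper42.Flat2

universe u
open CategoryTheory MonoidalCategory Limits Opposite ModSite
open Groth.Agent.Lib.Helper42.TensorSheaf Groth.Agent.Lib.Helper42.ModSiteLib
open Groth.Agent.Lib.Helper42.TensorColim Groth.Agent.Lib.Helper42.ModSheaf
open Groth.Agent.Lib.Helper42.Flat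

variable {C : Type u} [SmallCategory C] {J : GrothendieckTopology C} (O : Sheaf J CommRingCat.{u})

noncomputable def pfree (U : C) : PMod O := PresheafOfModules.freeObj (yoneda.obj U)

noncomputable def pfreeHomEquiv (U : C) (M : Mod O) :
    ((shf O).obj (pfree O U) ⟶ M) ≃ M.val.obj (op U) :=
  ((adjS O).homEquiv (pfree O U) M).trans
    (PresheafOfModules.freeHomEquiv.trans yonedaEquiv)

lemma pfreeHomEquiv_comp (U : C) {M N : Mod O} (h : (shf O).obj (pfree O U) ⟶ M) (f : M ⟶ N) :
    pfreeHomEquiv O U N (h ≫ f) = f.val.app (op U) (pfreeHomEquiv O U M h) := by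
  unfold pfreeHomEquiv
  simp only [Equiv.trans_apply]
  rw [Adjunction.homEquiv_naturality_right]
  rfl

noncomputable def pfreeCorep (U : C) :
    (sectFunctor O U).CorepresentableBy ((shf O).obj (pfree O U)) where
  homEquiv {M} := pfreeHomEquiv O U M
  homEquiv_comp g f := pfreeHomEquiv_comp O U f g

noncomputable def shfPfreeIso (U : C) : (shf O).obj (pfree O U) ≅ freeOn O U :=
  (pfreeCorep O U).uniqueUpToIso (freeOnCorep O U)

instance pfree_flat (U : C) (X : Cᵒᵖ) : Module.Flat (O.obj.obj X) ((pfree O U).obj X) :=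
  inferInstanceAs (Module.Flat (O.obj.obj X) ((yoneda.obj U).obj X →₀ O.obj.obj X))

theorem isFlat_shf_pfree (U : C) : IsFlat ((shf O).obj (pfree O U)) := by
  rw [isFlat_iff]
  have h1 : PreservesFiniteLimits (tensorRight (pfree O U)) :=
    Groth.Agent.Lib.Helper42.PreFlat.preservesFiniteLimits_tensorRight_of_flat O.obj (pfree O U)
      (fun X => pfree_flat O U X)
  have h2 : PreservesFiniteLimits (fgt O) :=
    inferInstanceAs (PreservesFiniteLimits (SheafOfModules.forget (ringSh O)))
  have h3 : PreservesFiniteLimits (shf O) :=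
    inferInstanceAs (PreservesFiniteLimits
      (PresheafOfModules.sheafification (𝟙 (ringSh O).obj)))
  have : PreservesFiniteLimits (tensorRight (pfree O U) ⋙ shf O) := comp_preservesFiniteLimits _ _
  have : PreservesFiniteLimits (fgt O ⋙ tensorRight (pfree O U) ⋙ shf O) :=
    comp_preservesFiniteLimits _ _
  exact preservesFiniteLimits_of_natIso (tensRShfIso O (pfree O U))

theorem isFlat_of_iso {F G : Mod O} (e : F ≅ G) (h : IsFlat F) : IsFlat G := by
  rw [isFlat_iff] at h ⊢
  have e' : tensR O F ≅ tensR O G := (tensorBi O).flip.mapIso e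
  exact preservesFiniteLimits_of_natIso e' 

theorem isFlat_freeOn (U : C) : IsFlat (freeOn O U) :=
  isFlat_of_iso O (shfPfreeIso O U) (isFlat_shf_pfree O U)

theorem exists_flat_epi (F : Mod O) : ∃ (G : Mod O) (π : G ⟶ F), IsFlat G ∧ Epi π := by
  let ι : Type u := Σ U : C, F.val.obj (op U)
  let fam : ι → Mod O := fun i => freeOn O i.1
  let π : ∐ fam ⟶ F := Sigma.desc (fun i => (freeOnHomEquiv O i.1 F).symm i.2)
  refine ⟨∐ fam, π, ?_, ?_⟩
  · have : HasExactColimitsOfShape (Discrete ι) (Mod O) := hasExactColimitsOfShape O (Discrete ι)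
    exact isFlat_of_isColimit O (Discrete.functor fam) (fun k => isFlat_freeOn O k.as.1) _
      (colimit.isColimit _)
  · constructor
    intro Z u v huv
    apply freeOn_isSeparating O
    rintro _ ⟨U⟩ h
    have hh : h = Sigma.ι fam ⟨U, freeOnHomEquiv O U F h⟩ ≫ π := by
      simp only [π, colimit.ι_desc, Cofan.mk_ι_app]
      exact ((freeOnHomEquiv O U F).symm_apply_apply h).symm
    rw [hh, Category.assoc, Category.assoc, huv]

instance tensR_preservesFiniteColimits (G : Mod O) : PreservesFiniteColimits (tensR O G) :=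
  PreservesColimitsOfSize.preservesFiniteColimits _

instance tensL_preservesFiniteColimits (M : Mod O) : PreservesFiniteColimits (tensL O M) :=
  PreservesColimitsOfSize.preservesFiniteColimits _

instance tensR_additive (G : Mod O) : (tensR O G).Additive :=
  Groth.Agent.Lib.Helper42.Snake.additive_of_preservesFiniteColimits _

instance tensL_additive (M : Mod O) : (tensL O M).Additive :=
  Groth.Agent.Lib.Helper42.Snake.additive_of_preservesFiniteColimits _

theorem preservesMono_tensL_iff (F : Mod O) :
    (tensL O F).PreservesMonomorphisms ↔ (tensR O F).PreservesMonomorphisms :=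
  Functor.PreservesMonomorphisms.iso_iff (tensLRIso O F)

theorem isFlat_iff_preservesMono (F : Mod O) :
    IsFlat F ↔ (tensR O F).PreservesMonomorphisms := by
  rw [isFlat_iff]
  constructor
  · intro h
    infer_instance
  · intro h
    rw [Functor.preservesFiniteLimits_iff_forall_exact_map_and_mono]
    intro S hS
    have := hS.mono_f
    exact ⟨((Functor.preservesFiniteColimits_iff_forall_exact_map_and_epi (tensR O F)).mp
      inferInstance S hS).1, inferInstance⟩

theorem isFlat_iff_preservesMono' (F : Mod O) :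
    IsFlat F ↔ (tensL O F).PreservesMonomorphisms := by
  rw [isFlat_iff_preservesMono, preservesMono_tensL_iff]

theorem mono_tensR_map_of_flat (S : ShortComplex (Mod O)) (hS : S.ShortExact)
    (hF : IsFlat S.X₃) (G : Mod O) : Mono ((tensR O G).map S.f) := by
  obtain ⟨L, π, hL, hπ⟩ := exists_flat_epi O G
  let R : ShortComplex (Mod O) := ShortComplex.mk (kernel.ι π) π (kernel.condition π)
  have hR : R.ShortExact :=
    { exact := ShortComplex.exact_kernel π
      mono_f := inferInstanceAs (Mono (kernel.ι π))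
      epi_g := hπ }
  let T : Mod O ⥤ Mod O ⥤ Mod O := (tensorBi O).flip
  have i1 : ∀ G, PreservesFiniteColimits (T.obj G) := fun G =>
    inferInstanceAs (PreservesFiniteColimits (tensR O G))
  have i2 : ∀ M, PreservesFiniteColimits (T.flip.obj M) := fun M =>
    inferInstanceAs (PreservesFiniteColimits (tensL O M))
  have := hS.mono_f
  have h1 : Mono ((T.obj R.X₂).map S.f) := by
    have := (isFlat_iff_preservesMono O L).mp hL
    exact inferInstanceAs (Mono ((tensR O L).map S.f))
  have h2 : Mono ((T.flip.obj S.X₃).map R.f) := by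
    have := (isFlat_iff_preservesMono' O S.X₃).mp hF
    exact inferInstanceAs (Mono ((tensL O S.X₃).map (kernel.ι π)))
  exact Groth.Agent.Lib.Helper42.Snake.mono_map_of_resolution T S R hS hR h1 h2

theorem shortExact_map_tensR_of_flat (S : ShortComplex (Mod O)) (hS : S.ShortExact)
    (hF : IsFlat S.X₃) (G : Mod O) : (S.map (tensR O G)).ShortExact := by
  have h := (Functor.preservesFiniteColimits_iff_forall_exact_map_and_epi (tensR O G)).mp
      inferInstance S hS
  exact
    { exact := h.1
      mono_f := mono_tensR_map_of_flat O S hS hF G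
      epi_g := h.2 }

noncomputable def rowMap (S : ShortComplex (Mod O)) {M' M : Mod O} (i : M' ⟶ M) :
    S.map (tensR O M') ⟶ S.map (tensR O M) :=
  S.mapNatTrans ((tensorBi O).flip.map i)

lemma rowMap_τ₁ (S : ShortComplex (Mod O)) {M' M : Mod O} (i : M' ⟶ M) :
    (rowMap O S i).τ₁ = (tensL O S.X₁).map i := rfl

lemma rowMap_τ₂ (S : ShortComplex (Mod O)) {M' M : Mod O} (i : M' ⟶ M) :
    (rowMap O S i).τ₂ = (tensL O S.X₂).map i := rfl

lemma rowMap_τ₃ (S : ShortComplex (Mod O)) {M' M : Mod O} (i : M' ⟶ M) :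
    (rowMap O S i).τ₃ = (tensL O S.X₃).map i := rfl

theorem isFlat_X₂ (S : ShortComplex (Mod O)) (hS : S.ShortExact)
    (h₁ : IsFlat S.X₁) (h₃ : IsFlat S.X₃) : IsFlat S.X₂ := by
  rw [isFlat_iff_preservesMono']
  constructor
  intro M' M i hi
  have p1 := (isFlat_iff_preservesMono' O S.X₁).mp h₁
  have p3 := (isFlat_iff_preservesMono' O S.X₃).mp h₃
  have e1 := shortExact_map_tensR_of_flat O S hS h₃ M'
  have e2 := shortExact_map_tensR_of_flat O S hS h₃ M
  have := e1.mono_f
  have := e2.mono_f
  have m1 : Mono ((tensL O S.X₁).map i) := inferInstance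
  have m3 : Mono ((tensL O S.X₃).map i) := inferInstance
  have : Mono (rowMap O S i).τ₁ := m1
  have : Mono (rowMap O S i).τ₃ := m3
  exact ShortComplex.mono_τ₂_of_exact_of_mono (rowMap O S i) e1.exact

theorem isFlat_X₁ (S : ShortComplex (Mod O)) (hS : S.ShortExact)
    (h₂ : IsFlat S.X₂) (h₃ : IsFlat S.X₃) : IsFlat S.X₁ := by
  rw [isFlat_iff_preservesMono']
  constructor
  intro M' M i hi
  have p2 := (isFlat_iff_preservesMono' O S.X₂).mp h₂
  have e1 := shortExact_map_tensR_of_flat O S hS h₃ M'
  have := e1.mono_f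
  have hc := (rowMap O S i).comm₁₂
  have m2 : Mono ((tensL O S.X₂).map i) := inferInstance
  have : Mono (rowMap O S i).τ₂ := m2
  have : Mono ((S.map (tensR O M')).f ≫ (rowMap O S i).τ₂) := mono_comp _ _
  have : Mono ((rowMap O S i).τ₁ ≫ (S.map (tensR O M)).f) := hc ▸ this
  exact mono_of_mono (rowMap O S i).τ₁ (S.map (tensR O M)).f

end Groth.Agent.Lib.Helper42.Flat2
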