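import Groth.Agent.Lib.Helper42.ExtPre
import Groth.Agent.Lib.Helper42.Flat2
import Mathlib.CategoryTheory.Adjunction.Restrict
import Mathlib.CategoryTheory.Adjunction.Unique
import Mathlib.Algebra.Category.ModuleCat.Presheaf.EpiMono

set_option autoImplicit false

namespace Groth.Agent.Lib.Helper42.ExtZero

universe u
open CategoryTheory MonoidalCategory Limits Opposite ModSite
open Groth.Agent.Lib.Helper42.TensorSheaf Groth.Agent.Lib.Helper42.RestrTensor
open Groth.Agent.Lib.Helper42.ExtPre

variable {C : Type u} [SmallCategory C] {J : GrothendieckTopology C} (O : Sheaf J CommRingCat.{u})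
  (U : C)

noncomputable def L : Mod (O.over U) ⥤ Mod O := fgt (O.over U) ⋙ extPre O U ⋙ shf O

noncomputable def adj' : (extPre O U ⋙ shf O) ⊣ (fgt O ⋙ pushPre O U) :=
  (adjPre O U).comp (adjS O)

noncomputable def comm2 : fgt O ⋙ pushPre O U ≅ restr O U ⋙ fgt (O.over U) :=
  NatIso.ofComponents (fun M => Iso.refl _) (by
    intro M N f
    rfl)

noncomputable def fgtFF : (fgt (O.over U)).FullyFaithful :=
  SheafOfModules.fullyFaithfulForget (ringSh (O.over U))

noncomputable def adjL : L O U ⊣ restr O U :=
  (adj' O U).restrictFullyFaithful (fgtFF O U) (Functor.FullyFaithful.id _)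
    (Iso.refl _ : fgt (O.over U) ⋙ (extPre O U ⋙ shf O) ≅ L O U ⋙ 𝟭 _)
    (Functor.leftUnitor _ ≪≫ comm2 O U)

noncomputable def extZeroIso : extZero O U ≅ L O U :=
  (extZeroAdj O U).leftAdjointUniq (adjL O U)

noncomputable def shfExtIso : extPre O U ⋙ shf O ≅ shf (O.over U) ⋙ extZero O U :=
  ((adj' O U).ofNatIsoRight (comm2 O U)).leftAdjointUniq ((adjS (O.over U)).comp (extZeroAdj O U))

lemma extPre_W {P Q : PMod (O.over U)} (ψ : P ⟶ Q) (h : W ψ) : W ((extPre O U).map ψ) := by
  unfold W at h ⊢
  have : IsIso ((shf (O.over U) ⋙ extZero O U).map ψ) := by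
    rw [Functor.comp_map]
    infer_instance
  exact (NatIso.isIso_map_iff (shfExtIso O U) ψ).mpr this

lemma L_map_mono {G G' : Mod (O.over U)} (f : G ⟶ G') [Mono f] : Mono ((L O U).map f) := by
  have h2 : PreservesFiniteLimits (fgt (O.over U)) :=
    inferInstanceAs (PreservesFiniteLimits (SheafOfModules.forget (ringSh (O.over U))))
  have h3 : PreservesFiniteLimits (shf O) :=
    inferInstanceAs (PreservesFiniteLimits
      (PresheafOfModules.sheafification (𝟙 (ringSh O).obj)))
  have m1 : Mono ((fgt (O.over U)).map f) := inferInstance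
  have m2 : Mono ((extPre O U).map ((fgt (O.over U)).map f)) :=
    PresheafOfModules.mono_of_injective (fun X =>
      extMap_app_injective _ (fun Y => PresheafOfModules.injective_of_mono _ Y) X)
  exact inferInstanceAs (Mono ((shf O).map ((extPre O U).map ((fgt (O.over U)).map f))))

instance extZero_preservesMonomorphisms : (extZero O U).PreservesMonomorphisms := by
  have : (L O U).PreservesMonomorphisms := ⟨fun f _ => L_map_mono O U f⟩
  exact (Functor.PreservesMonomorphisms.iso_iff (extZeroIso O U)).mpr this

instance extZero_preservesFiniteColimits : PreservesFiniteColimits (extZero O U) := by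
  have : PreservesColimitsOfSize.{u, u} (extZero O U) := (extZeroAdj O U).leftAdjoint_preservesColimits
  exact PreservesColimitsOfSize.preservesFiniteColimits _

instance extZero_additive : (extZero O U).Additive :=
  Groth.Agent.Lib.Helper42.Snake.additive_of_preservesFiniteColimits _

theorem extZero_preservesFiniteLimits : PreservesFiniteLimits (extZero O U) := by
  rw [Functor.preservesFiniteLimits_iff_forall_exact_map_and_mono]
  intro S hS
  have := hS.mono_f
  exact ⟨((Functor.preservesFiniteColimits_iff_forall_exact_map_and_epi (extZero O U)).mp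
    inferInstance S hS).1, inferInstance⟩

lemma L_map_eq_zero {G G' : Mod (O.over U)} (f : G ⟶ G') (h : (L O U).map f = 0) : f = 0 := by
  apply SheafOfModules.hom_ext
  apply PresheafOfModules.hom_ext
  intro X
  ext x
  let G₀ := (fgt (O.over U)).obj G
  let G₀' := (fgt (O.over U)).obj G'
  let ψ : extObj G₀ ⟶ extObj G₀' := (extPre O U).map ((fgt (O.over U)).map f)
  have hψ : (shf O).map ψ = 0 := h
  have hu : ψ ≫ (adjS O).unit.app (extObj G₀') = 0 := by
    have := (adjS O).unit.naturality ψ
    simp only [Functor.id_map, Functor.comp_map] at this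
    rw [this, hψ]
    have : (fgt O).map (0 : (shf O).obj (extObj G₀) ⟶ (shf O).obj (extObj G₀')) = 0 := rfl
    rw [this, Limits.comp_zero]
  let V := X.unop.left
  let φ : V ⟶ U := X.unop.hom
  let y : G₀'.obj X := f.val.app X x
  have h1 : ψ.app (op V) (ι G₀ φ x) = ι G₀' φ y := extMap_app_ι _ φ x
  have h2 : ((adjS O).unit.app (extObj G₀')).app (op V) (ι G₀' φ y) = 0 := by
    rw [← h1]
    exact CategoryTheory.congr_fun (congrArg (fun t => t.app (op V)) hu) (ι G₀ φ x)
  have hinj : Presheaf.IsLocallyInjective J
      ((PresheafOfModules.toPresheaf _).map ((adjS O).unit.app (extObj G₀'))) :=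
    ((W_iff _).mp (W_unit (extObj G₀'))).1
  have hS := Presheaf.equalizerSieve_mem J
    ((PresheafOfModules.toPresheaf _).map ((adjS O).unit.app (extObj G₀')))
    (X := op V) (ι G₀' φ y) 0 (h2.trans (map_zero _).symm)
  have hcov := J.overEquiv_symm_mem_over X.unop _ hS
  refine G'.isSheaf.isSeparated _ _ hcov _ _ ?_
  intro Z a ha
  rw [Sieve.overEquiv_symm_iff] at ha
  have h3 : (extObj G₀').map a.left.op (ι G₀' φ y) = 0 := ha.trans (map_zero _)
  rw [extObj_map_ι] at h3
  have h4 := ι_congr G₀' (Over.w a).symm a (Over.homMk a.left) rfl y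
  have h5 : ι G₀' Z.hom (G₀'.map a.op y) = 0 := h4.trans h3
  have h6 : G₀'.map a.op y = 0 := ι_injective G₀' Z.hom (h5.trans (map_zero _).symm)
  exact h6.trans (map_zero _).symm

instance extZero_faithful : (extZero O U).Faithful where
  map_injective := by
    intro G G' f g hfg
    have h0 : (extZero O U).map (f - g) = 0 := by
      rw [Functor.map_sub, hfg, sub_self]
    have h1 : (L O U).map (f - g) = 0 := by
      have := (extZeroIso O U).hom.naturality (f - g)
      rw [h0, Limits.zero_comp] at this
      rw [← cancel_epi ((extZeroIso O U).hom.app G), ← this, Limits.comp_zero]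
    exact sub_eq_zero.mp (L_map_eq_zero O U _ h1)

theorem exact_of_exact_map_extZero (S : ShortComplex (Mod (O.over U)))
    (h : (S.map (extZero O U)).Exact) : S.Exact :=
  (extZero O U).reflects_exact_of_faithful S h

end Groth.Agent.Lib.Helper42.ExtZero
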