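import Mathlib.Algebra.Category.ModuleCat.Sheaf.Colimits
import Mathlib.Algebra.Category.ModuleCat.Sheaf.Abelian
import Mathlib.Algebra.Category.ModuleCat.Sheaf.ChangeOfRings
import Mathlib.Algebra.Category.ModuleCat.Presheaf.Colimits
import Mathlib.Algebra.Category.ModuleCat.Presheaf.Sheafification
import Mathlib.Algebra.Category.Grp.FilteredColimits
import Mathlib.CategoryTheory.Sites.Limits
import Mathlib.CategoryTheory.Abelian.GrothendieckAxioms.Sheaf
import Mathlib.Algebra.Category.Grp.AB

set_option autoImplicit false

namespace Groth.Agent.Lib.Helper42.ModSheaf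

universe u
open CategoryTheory Limits

variable {C : Type u} [SmallCategory C] {J : GrothendieckTopology C} (R : Sheaf J RingCat.{u})

theorem toSheaf_preservesColimit {K : Type u} [SmallCategory K] (F : K ⥤ SheafOfModules.{u} R) :
    PreservesColimit F (SheafOfModules.toSheaf.{u} R) := by
  let G := F ⋙ SheafOfModules.forget R
  let e : F ≅ G ⋙ PresheafOfModules.sheafification (𝟙 R.obj) :=
    Functor.isoWhiskerLeft F
      (asIso (PresheafOfModules.sheafificationAdjunction (𝟙 R.obj)).counit).symm
  have h1 : PreservesColimit G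
      (PresheafOfModules.sheafification (𝟙 R.obj) ⋙ SheafOfModules.toSheaf.{u} R) :=
    preservesColimit_of_natIso G (PresheafOfModules.sheafificationCompToSheaf (𝟙 R.obj)).symm
  have : PreservesColimit (G ⋙ PresheafOfModules.sheafification (𝟙 R.obj))
      (SheafOfModules.toSheaf.{u} R) := by
    apply preservesColimit_of_preserves_colimit_cocone
      (isColimitOfPreserves (PresheafOfModules.sheafification (𝟙 R.obj)) (colimit.isColimit G))
    exact isColimitOfPreserves
      (PresheafOfModules.sheafification (𝟙 R.obj) ⋙ SheafOfModules.toSheaf.{u} R)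
      (colimit.isColimit G)
  exact preservesColimit_of_iso_diagram _ e.symm

instance toSheaf_preservesColimitsOfSize :
    PreservesColimitsOfSize.{u, u} (SheafOfModules.toSheaf.{u} R) where
  preservesColimitsOfShape := ⟨fun {F} => toSheaf_preservesColimit R F⟩

instance toSheaf_reflectsColimitsOfSize :
    ReflectsColimitsOfSize.{u, u} (SheafOfModules.toSheaf.{u} R) where
  reflectsColimitsOfShape := ⟨fun {_} => reflectsColimit_of_reflectsIsomorphisms _ _⟩

instance toSheaf_preservesLimitsOfSize :
    PreservesLimitsOfSize.{u, u} (SheafOfModules.toSheaf.{u} R) := by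
  have : PreservesLimitsOfSize.{u, u}
      (SheafOfModules.toSheaf.{u} R ⋙ sheafToPresheaf J AddCommGrpCat.{u}) :=
    inferInstanceAs (PreservesLimitsOfSize.{u, u}
      (SheafOfModules.forget.{u} R ⋙ PresheafOfModules.toPresheaf R.obj))
  exact preservesLimits_of_reflects_of_preserves _ (sheafToPresheaf J AddCommGrpCat.{u})

instance toSheaf_reflectsLimitsOfSize :
    ReflectsLimitsOfSize.{u, u} (SheafOfModules.toSheaf.{u} R) where
  reflectsLimitsOfShape := ⟨fun {_} => reflectsLimit_of_reflectsIsomorphisms _ _⟩

theorem hasExactColimitsOfShape_of_isFiltered (Λ : Type u) [SmallCategory Λ] [IsFiltered Λ] :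
    HasExactColimitsOfShape Λ (SheafOfModules.{u} R) :=
  HasExactColimitsOfShape.domain_of_functor Λ (SheafOfModules.toSheaf.{u} R)

end Groth.Agent.Lib.Helper42.ModSheaf
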