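import Groth.Agent.Lib.Helper42.TensorColim
import Mathlib.CategoryTheory.Limits.FunctorCategory.Basic
import Mathlib.Algebra.Category.Grp.AB

set_option autoImplicit false

namespace Groth.Agent.Lib.Helper42.Flat

universe u
open CategoryTheory MonoidalCategory Limits Opposite ModSite
open Groth.Agent.Lib.Helper42.TensorSheaf Groth.Agent.Lib.Helper42.ModSiteLib
open Groth.Agent.Lib.Helper42.TensorColim Groth.Agent.Lib.Helper42.ModSheaf

variable {C : Type u} [SmallCategory C] {J : GrothendieckTopology C} (O : Sheaf J CommRingCat.{u})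

noncomputable def tensL (M : Mod O) : Mod O ⥤ Mod O := (tensorBi O).obj M

noncomputable def tensLRIso (M : Mod O) : tensL O M ≅ tensR O M :=
  NatIso.ofComponents
    (fun N => (shf O).mapIso (β_ ((fgt O).obj M) ((fgt O).obj N)))
    (by
      intro N N' f
      change (shf O).map ((fgt O).obj M ◁ (fgt O).map f) ≫
          (shf O).map (β_ ((fgt O).obj M) ((fgt O).obj N')).hom =
        (shf O).map (β_ ((fgt O).obj M) ((fgt O).obj N)).hom ≫
          (shf O).map ((fgt O).map f ▷ (fgt O).obj M)
      rw [← Functor.map_comp, ← Functor.map_comp, BraidedCategory.braiding_naturality_right])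

instance tensL_preservesColimits (M : Mod O) : PreservesColimitsOfSize.{u, u} (tensL O M) :=
  preservesColimits_of_natIso (tensLRIso O M).symm

instance tensorBi_flip_preservesColimits :
    PreservesColimitsOfSize.{u, u} (tensorBi O).flip :=
  preservesColimits_of_evaluation _ (fun M =>
    inferInstanceAs (PreservesColimitsOfSize.{u, u} (tensL O M)))

theorem isFlat_iff (F : Mod O) : IsFlat F ↔ PreservesFiniteLimits (tensR O F) := by
  constructor
  · intro h
    exact h.1
  · intro h
    exact ⟨h, PreservesColimitsOfSize.preservesFiniteColimits (tensR O F)⟩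

theorem hasExactColimitsOfShape (K : Type u) [SmallCategory K]
    [HasExactColimitsOfShape K (Sheaf J AddCommGrpCat.{u})] :
    HasExactColimitsOfShape K (Mod O) :=
  HasExactColimitsOfShape.domain_of_functor K (SheafOfModules.toSheaf.{u} (ringSh O))

theorem isFlat_of_isColimit {K : Type u} [SmallCategory K] [HasExactColimitsOfShape K (Mod O)]
    (D : K ⥤ Mod O) (hD : ∀ k, IsFlat (D.obj k)) (c : Cocone D) (hc : IsColimit c) :
    IsFlat c.pt := by
  rw [isFlat_iff]
  let B : Mod O ⥤ (Mod O ⥤ Mod O) := (tensorBi O).flip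
  have hc' : IsColimit (B.mapCocone c) := isColimitOfPreserves B hc
  let e : tensR O c.pt ≅ (D ⋙ B).flip ⋙ colim :=
    (hc'.coconePointUniqueUpToIso (colimit.isColimit (D ⋙ B))) ≪≫ colimitIsoFlipCompColim (D ⋙ B)
  have h1 : PreservesFiniteLimits (D ⋙ B).flip := by
    constructor
    intro K' _ _
    apply preservesLimitsOfShape_of_evaluation
    intro k
    have := ((isFlat_iff O (D.obj k)).mp (hD k))
    exact (inferInstanceAs (PreservesLimitsOfShape K' (tensR O (D.obj k))))
  have h2 : PreservesFiniteLimits (colim : (K ⥤ Mod O) ⥤ Mod O) :=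
    HasExactColimitsOfShape.preservesFiniteLimits
  have : PreservesFiniteLimits ((D ⋙ B).flip ⋙ colim) := comp_preservesFiniteLimits _ _
  exact preservesFiniteLimits_of_natIso e.symm

noncomputable def tensRShfIso (X : PMod O) :
    fgt O ⋙ tensorRight X ⋙ shf O ≅ tensR O ((shf O).obj X) :=
  NatIso.ofComponents
    (fun M => @asIso _ _ _ _ ((shf O).map ((fgt O).obj M ◁ (adjS O).unit.app X))
      (W_whiskerLeft _ (W_unit X) _))
    (by
      intro M M' f
      change (shf O).map ((fgt O).map f ▷ X) ≫
          (shf O).map ((fgt O).obj M' ◁ (adjS O).unit.app X) =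
        (shf O).map ((fgt O).obj M ◁ (adjS O).unit.app X) ≫
          (shf O).map ((fgt O).map f ▷ (fgt O).obj ((shf O).obj X))
      rw [← Functor.map_comp, ← Functor.map_comp]
      congr 1
      exact (whisker_exchange ((fgt O).map f) ((adjS O).unit.app X)).symm)

noncomputable def tensRTensorIso (G F : Mod O) :
    tensR O (((tensorBi O).obj G).obj F) ≅ tensR O G ⋙ tensR O F :=
  (tensRShfIso O ((fgt O).obj G ⊗ (fgt O).obj F)).symm ≪≫
    Functor.isoWhiskerLeft (fgt O)
      (Functor.isoWhiskerRight (tensorRightTensor ((fgt O).obj G) ((fgt O).obj F)) (shf O)) ≪≫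
    Functor.isoWhiskerLeft (fgt O ⋙ tensorRight ((fgt O).obj G)) (shfTensRIso O F)

theorem isFlat_tensor (G F : Mod O) (hG : IsFlat G) (hF : IsFlat F) :
    IsFlat (((tensorBi O).obj G).obj F) := by
  rw [isFlat_iff] at hG hF ⊢
  have : PreservesFiniteLimits (tensR O G ⋙ tensR O F) := comp_preservesFiniteLimits _ _
  exact preservesFiniteLimits_of_natIso (tensRTensorIso O G F).symm

end Groth.Agent.Lib.Helper42.Flat
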