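import Groth.Agent.Lib.Helper42.Flat2
import Mathlib.Algebra.Homology.ShortComplex.HomologicalComplex
import Mathlib.Algebra.Homology.Additive

set_option autoImplicit false
universe u
open CategoryTheory CategoryTheory.Limits
open ModSite

namespace Groth.Agent.Lib.Helper42.FlatCx

open Groth.Agent.Lib.Helper42.TensorSheaf Groth.Agent.Lib.Helper42.TensorColim
open Groth.Agent.Lib.Helper42.Flat Groth.Agent.Lib.Helper42.Flat2

variable {C : Type u} [SmallCategory C] {J : GrothendieckTopology C} (O : Sheaf J CommRingCat.{u})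

theorem isFlat_of_isZero (F : Mod O) (h : IsZero F) : IsFlat F := by
  rw [isFlat_iff_preservesMono']
  constructor
  intro X Y f hf
  have hz : IsZero ((tensL O F).obj X) := by
    have : IsZero ((tensR O X).obj F) := Functor.map_isZero (tensR O X) h
    exact this
  exact ⟨fun g h _ => hz.eq_of_tgt _ _⟩

variable (M : ChainComplex (Mod O) ℤ)

noncomputable def Z (j : ℤ) : Mod O := kernel (M.d j (j - 1))

noncomputable def ι (j : ℤ) : Z O M j ⟶ M.X j := kernel.ι _

noncomputable def e (j : ℤ) : M.X j ⟶ Z O M (j - 1) :=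
  kernel.lift _ (M.d j (j - 1)) (M.d_comp_d _ _ _)

instance (j : ℤ) : Mono (ι O M j) := inferInstanceAs (Mono (kernel.ι _))

lemma e_ι (j : ℤ) : e O M j ≫ ι O M (j - 1) = M.d j (j - 1) := kernel.lift_ι _ _ _

lemma ι_e (j : ℤ) : ι O M j ≫ e O M j = 0 := by
  rw [← cancel_mono (ι O M (j - 1)), Category.assoc, e_ι, zero_comp]
  exact kernel.condition _

lemma d_e (j : ℤ) : M.d (j + 1) j ≫ e O M j = 0 := by
  rw [← cancel_mono (ι O M (j - 1)), Category.assoc, e_ι, zero_comp]
  exact M.d_comp_d _ _ _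

noncomputable def S (j : ℤ) : ShortComplex (Mod O) :=
  ShortComplex.mk (ι O M j) (e O M j) (ι_e O M j)

noncomputable def R (j : ℤ) : ShortComplex (Mod O) :=
  ShortComplex.mk (M.d (j + 1) j) (e O M j) (d_e O M j)

noncomputable def Sφ (j : ℤ) :
    S O M j ⟶ ShortComplex.mk (kernel.ι (M.d j (j - 1))) (M.d j (j - 1)) (kernel.condition _) where
  τ₁ := 𝟙 _
  τ₂ := 𝟙 _
  τ₃ := ι O M (j - 1)
  comm₁₂ := (Category.id_comp _).trans (Category.comp_id _).symm
  comm₂₃ := (Category.id_comp _).trans (e_ι O M j).symm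

noncomputable def Rφ (j : ℤ) : R O M j ⟶ M.sc' (j + 1) j (j - 1) where
  τ₁ := 𝟙 _
  τ₂ := 𝟙 _
  τ₃ := ι O M (j - 1)
  comm₁₂ := (Category.id_comp _).trans (Category.comp_id _).symm
  comm₂₃ := (Category.id_comp _).trans (e_ι O M j).symm

lemma sc'_exact (hac : M.Acyclic) (j : ℤ) : (M.sc' (j + 1) j (j - 1)).Exact :=
  (M.exactAt_iff' (j + 1) j (j - 1) (by simp) (by simp)).mp (hac j)

lemma epi_e (hac : M.Acyclic) (j : ℤ) : Epi (e O M j) := by
  have h : (M.sc' j (j - 1) (j - 1 - 1)).Exact :=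
    (M.exactAt_iff' j (j - 1) (j - 1 - 1) (by simp) (by simp)).mp (hac (j - 1))
  exact (ShortComplex.exact_iff_epi_kernel_lift _).mp h

lemma S_shortExact (hac : M.Acyclic) (j : ℤ) : (S O M j).ShortExact := by
  have h1 : (S O M j).Exact := by
    have : Epi (Sφ O M j).τ₁ := inferInstanceAs (Epi (𝟙 (Z O M j)))
    have : IsIso (Sφ O M j).τ₂ := inferInstanceAs (IsIso (𝟙 (M.X j)))
    have : Mono (Sφ O M j).τ₃ := inferInstanceAs (Mono (ι O M (j - 1)))
    exact (ShortComplex.exact_iff_of_epi_of_isIso_of_mono (Sφ O M j)).mpr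
      (ShortComplex.exact_kernel _)
  exact
    { exact := h1
      mono_f := by dsimp [S]; infer_instance
      epi_g := epi_e O M hac j }

lemma R_exact (hac : M.Acyclic) (j : ℤ) : (R O M j).Exact := by
  have : Epi (Rφ O M j).τ₁ := inferInstanceAs (Epi (𝟙 (M.X (j + 1))))
  have : IsIso (Rφ O M j).τ₂ := inferInstanceAs (IsIso (𝟙 (M.X j)))
  have : Mono (Rφ O M j).τ₃ := inferInstanceAs (Mono (ι O M (j - 1)))
  exact (ShortComplex.exact_iff_of_epi_of_isIso_of_mono (Rφ O M j)).mpr (sc'_exact O M hac j)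

theorem isFlat_Z (hb : ∃ i₀ : ℤ, ∀ i, i < i₀ → IsZero (M.X i)) (hM : ∀ i, IsFlat (M.X i))
    (hac : M.Acyclic) (j : ℤ) : IsFlat (Z O M j) := by
  obtain ⟨i₀, h₀⟩ := hb
  have key : ∀ n : ℕ, ∀ j : ℤ, j < i₀ + n → IsFlat (Z O M j) := by
    intro n
    induction n with
    | zero =>
      intro j hj
      apply isFlat_of_isZero
      exact IsZero.of_mono (ι O M j) (h₀ j (by simpa using hj))
    | succ n ih =>
      intro j hj
      have h3 : IsFlat (Z O M (j - 1)) := ih (j - 1) (by push_cast at hj; omega)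
      exact isFlat_X₁ O (S O M j) (S_shortExact O M hac j) (hM j) h3
  obtain ⟨n, hn⟩ : ∃ n : ℕ, j < i₀ + n := ⟨(j - i₀ + 1).toNat, by omega⟩
  exact key n j hn

theorem map_sc'_exact (F : Mod O) (hb : ∃ i₀ : ℤ, ∀ i, i < i₀ → IsZero (M.X i))
    (hM : ∀ i, IsFlat (M.X i)) (hac : M.Acyclic) (j : ℤ) :
    ((M.sc' (j + 1) j (j - 1)).map (tensR O F)).Exact := by
  have hR : ((R O M j).map (tensR O F)).Exact :=
    (R_exact O M hac j).map_of_epi_of_preservesCokernel (tensR O F) (epi_e O M hac j)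
      inferInstance
  have hm : Mono ((tensR O F).map (ι O M (j - 1))) :=
    mono_tensR_map_of_flat O (S O M (j - 1)) (S_shortExact O M hac (j - 1))
      (isFlat_Z O M hb hM hac (j - 1 - 1)) F
  let ψ := (tensR O F).mapShortComplex.map (Rφ O M j)
  have : Epi ψ.τ₁ := inferInstanceAs (Epi ((tensR O F).map (𝟙 (M.X (j + 1)))))
  have : IsIso ψ.τ₂ := inferInstanceAs (IsIso ((tensR O F).map (𝟙 (M.X j))))
  have : Mono ψ.τ₃ := hm
  exact (ShortComplex.exact_iff_of_epi_of_isIso_of_mono ψ).mp hR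

end Groth.Agent.Lib.Helper42.FlatCx
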