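import Groth.Agent.Lib.Helper42.ProjPre
import Groth.Agent.Lib.Helper42.Flat2
import Mathlib.CategoryTheory.Adjunction.Mates
import Mathlib.CategoryTheory.Adjunction.Additive

set_option autoImplicit false

namespace Groth.Agent.Lib.Helper42.Proj

universe u
open CategoryTheory MonoidalCategory Limits Opposite ModSite
open Groth.Agent.Lib.Helper42.TensorSheaf Groth.Agent.Lib.Helper42.RestrTensor
open Groth.Agent.Lib.Helper42.ExtPre Groth.Agent.Lib.Helper42.ExtZero
open Groth.Agent.Lib.Helper42.ProjPre Groth.Agent.Lib.Helper42.TensorColim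
open Groth.Agent.Lib.Helper42.Flat Groth.Agent.Lib.Helper42.Flat2

variable {C : Type u} [SmallCategory C] {J : GrothendieckTopology C} (O : Sheaf J CommRingCat.{u})
  (U : C)

noncomputable def projNatP (N₀ : PMod O) :
    tensorRight ((pushPre O U).obj N₀) ⋙ extPre O U ≅ extPre O U ⋙ tensorRight N₀ :=
  NatIso.ofComponents (fun P => projIso P N₀) (by
    intro P P' f
    exact projHom_natural_left f)

noncomputable def projFunIso (N : Mod O) :
    tensR (O.over U) ((restr O U).obj N) ⋙ extZero O U ≅ extZero O U ⋙ tensR O N :=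
  calc tensR (O.over U) ((restr O U).obj N) ⋙ extZero O U
      ≅ fgt (O.over U) ⋙ tensorRight ((pushPre O U).obj ((fgt O).obj N)) ⋙
          (shf (O.over U) ⋙ extZero O U) := Iso.refl _
    _ ≅ fgt (O.over U) ⋙ tensorRight ((pushPre O U).obj ((fgt O).obj N)) ⋙
          (extPre O U ⋙ shf O) :=
        Functor.isoWhiskerLeft _ (Functor.isoWhiskerLeft _ (shfExtIso O U).symm)
    _ ≅ fgt (O.over U) ⋙ (tensorRight ((pushPre O U).obj ((fgt O).obj N)) ⋙ extPre O U) ⋙ shf O :=
        Iso.refl _
    _ ≅ fgt (O.over U) ⋙ (extPre O U ⋙ tensorRight ((fgt O).obj N)) ⋙ shf O :=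
        Functor.isoWhiskerLeft _ (Functor.isoWhiskerRight (projNatP O U ((fgt O).obj N)) _)
    _ ≅ (fgt (O.over U) ⋙ extPre O U) ⋙ preTensR O N := Iso.refl _
    _ ≅ (fgt (O.over U) ⋙ extPre O U) ⋙ (shf O ⋙ tensR O N) :=
        Functor.isoWhiskerLeft _ (shfTensRIso O N)
    _ ≅ L O U ⋙ tensR O N := Iso.refl _
    _ ≅ extZero O U ⋙ tensR O N := Functor.isoWhiskerRight (extZeroIso O U).symm _

noncomputable def tensLShfIso (X : PMod O) :
    fgt O ⋙ tensorLeft X ⋙ shf O ≅ tensL O ((shf O).obj X) :=
  NatIso.ofComponents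
    (fun M => @asIso _ _ _ _ ((shf O).map ((adjS O).unit.app X ▷ (fgt O).obj M))
      (W_whiskerRight _ (W_unit X) _))
    (by
      intro M M' f
      change (shf O).map (X ◁ (fgt O).map f) ≫
          (shf O).map ((adjS O).unit.app X ▷ (fgt O).obj M') =
        (shf O).map ((adjS O).unit.app X ▷ (fgt O).obj M) ≫
          (shf O).map ((fgt O).obj ((shf O).obj X) ◁ (fgt O).map f)
      rw [← Functor.map_comp, ← Functor.map_comp]
      congr 1
      exact whisker_exchange ((adjS O).unit.app X) ((fgt O).map f))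

noncomputable def projNatN (P₀ : PMod (O.over U)) :
    pushPre O U ⋙ tensorLeft P₀ ⋙ extPre O U ≅ tensorLeft (extObj P₀) :=
  NatIso.ofComponents (fun N => projIso P₀ N) (by
    intro N N' g
    exact projHom_natural_right g)

noncomputable def projFunIso' (P : Mod (O.over U)) :
    restr O U ⋙ tensL (O.over U) P ⋙ extZero O U ≅ tensL O ((extZero O U).obj P) :=
  calc restr O U ⋙ tensL (O.over U) P ⋙ extZero O U
      ≅ (restr O U ⋙ fgt (O.over U)) ⋙ tensorLeft ((fgt (O.over U)).obj P) ⋙
          (shf (O.over U) ⋙ extZero O U) := Iso.refl _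
    _ ≅ (fgt O ⋙ pushPre O U) ⋙ tensorLeft ((fgt (O.over U)).obj P) ⋙
          (extPre O U ⋙ shf O) :=
        Functor.isoWhiskerRight (comm2 O U).symm _ ≪≫
          Functor.isoWhiskerLeft _ (Functor.isoWhiskerLeft _ (shfExtIso O U).symm)
    _ ≅ fgt O ⋙ (pushPre O U ⋙ tensorLeft ((fgt (O.over U)).obj P) ⋙ extPre O U) ⋙ shf O :=
        Iso.refl _
    _ ≅ fgt O ⋙ tensorLeft (extObj ((fgt (O.over U)).obj P)) ⋙ shf O :=
        Functor.isoWhiskerLeft _ (Functor.isoWhiskerRight (projNatN O U _) _)
    _ ≅ tensL O ((L O U).obj P) := tensLShfIso O (extObj ((fgt (O.over U)).obj P))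
    _ ≅ tensL O ((extZero O U).obj P) := (tensorBi O).mapIso ((extZeroIso O U).app P).symm

theorem projFormula (P : Mod (O.over U)) (N : Mod O) :
    Nonempty ((extZero O U).obj (((tensorBi (O.over U)).obj P).obj ((restr O U).obj N)) ≅
      ((tensorBi O).obj ((extZero O U).obj P)).obj N) :=
  ⟨(projFunIso O U N).app P⟩

noncomputable def tensLUnitIso : tensL O (ModSite.unit O) ≅ 𝟭 (Mod O) :=
  NatIso.ofComponents
    (fun M => (shf O).mapIso (λ_ ((fgt O).obj M)) ≪≫ (asIso (adjS O).counit).app M)
    (by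
      intro M M' f
      change (shf O).map (𝟙_ (PMod O) ◁ (fgt O).map f) ≫
          ((shf O).map (λ_ ((fgt O).obj M')).hom ≫ (adjS O).counit.app M') =
        ((shf O).map (λ_ ((fgt O).obj M)).hom ≫ (adjS O).counit.app M) ≫ f
      rw [← Category.assoc, ← Functor.map_comp, leftUnitor_naturality, Functor.map_comp,
        Category.assoc, Category.assoc]
      congr 1
      exact (adjS O).counit.naturality f)

noncomputable def freeOnTensorIso (M : Mod O) :
    ((tensorBi O).obj (freeOn O U)).obj M ≅ (extZero O U).obj ((restr O U).obj M) :=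
  ((projFunIso O U M).app (ModSite.unit (O.over U))).symm ≪≫
    (extZero O U).mapIso ((tensLUnitIso (O.over U)).app ((restr O U).obj M))

noncomputable def homRestrIso (M : Mod O) [HasSheafHom M] [HasSheafHom ((restr O U).obj M)] :
    sheafHom M ⋙ restr O U ≅ restr O U ⋙ sheafHom ((restr O U).obj M) :=
  conjugateIsoEquiv
    ((extZeroAdj O U).comp (sheafHomAdj M))
    ((sheafHomAdj ((restr O U).obj M)).comp (extZeroAdj O U))
    (projFunIso O U M)

theorem restr_sheafHom (M N : Mod O) [HasSheafHom M] [HasSheafHom ((restr O U).obj M)] :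
    Nonempty ((restr O U).obj ((sheafHom M).obj N) ≅
      (sheafHom ((restr O U).obj M)).obj ((restr O U).obj N)) :=
  ⟨(homRestrIso O U M).app N⟩

open Groth.Agent.Lib.Helper42.ModSiteLib in
lemma freeOnHomEquiv_apply (M : Mod O) (h : freeOn O U ⟶ M) :
    freeOnHomEquiv O U M h =
      (((extZeroAdj O U).homEquiv _ _ h).val.app (op (Over.mk (𝟙 U))) :
        (SheafOfModules.unit _).val.obj (op (Over.mk (𝟙 U))) → M.val.obj (op U))
        (1 : O.obj.obj (op U)) := rfl

open Groth.Agent.Lib.Helper42.ModSiteLib in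
lemma freeOnHomEquiv_add (M : Mod O) (h h' : freeOn O U ⟶ M) :
    freeOnHomEquiv O U M (h + h') = freeOnHomEquiv O U M h + freeOnHomEquiv O U M h' := by
  rw [freeOnHomEquiv_apply, freeOnHomEquiv_apply, freeOnHomEquiv_apply]
  have := ((extZeroAdj O U).homAddEquiv (SheafOfModules.unit _) M).map_add h h'
  simp only [Adjunction.homAddEquiv_apply] at this
  rw [this]
  rfl

open Groth.Agent.Lib.Helper42.ModSiteLib in
noncomputable def freeOnHomAddEquiv (M : Mod O) : (freeOn O U ⟶ M) ≃+ sect M U :=
  { freeOnHomEquiv O U M with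
    map_add' := freeOnHomEquiv_add O U M }

noncomputable def homCongrAddEquiv {A : Type*} [Category A] [Preadditive A] {X Y : A} (e : X ≅ Y)
    (Z : A) : (X ⟶ Z) ≃+ (Y ⟶ Z) where
  toFun f := e.inv ≫ f
  invFun g := e.hom ≫ g
  left_inv f := by simp
  right_inv g := by simp
  map_add' f f' := Preadditive.comp_add _ _ _ _ _ _

theorem sect_sheafHom (M N : Mod O) [HasSheafHom M] :
    Nonempty (sect ((sheafHom M).obj N) U ≃+ ((restr O U).obj M ⟶ (restr O U).obj N)) := by
  have : ((tensorBi O).flip.obj M).Additive := inferInstanceAs (tensR O M).Additive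
  exact ⟨(freeOnHomAddEquiv O U ((sheafHom M).obj N)).symm.trans
    (((sheafHomAdj M).homAddEquiv (freeOn O U) N).symm.trans
      ((homCongrAddEquiv (freeOnTensorIso O U M) N).trans
        ((extZeroAdj O U).homAddEquiv ((restr O U).obj M) N)))⟩

lemma mono_map_of_natIso {A B : Type*} [Category A] [Category B] {F G : A ⥤ B} (e : F ≅ G)
    {X Y : A} (f : X ⟶ Y) [Mono (G.map f)] : Mono (F.map f) := by
  have h : F.map f = e.hom.app X ≫ G.map f ≫ e.inv.app Y := by
    rw [← Category.assoc, ← e.hom.naturality, Category.assoc, Iso.hom_inv_id_app, Category.comp_id]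
  rw [h]
  infer_instance

theorem isFlat_restr (M : Mod O) (hM : IsFlat M) : IsFlat ((restr O U).obj M) := by
  rw [isFlat_iff_preservesMono] at hM ⊢
  constructor
  intro P' P f hf
  have m1 : Mono ((extZero O U).map f) := inferInstance
  have m2 : Mono ((extZero O U ⋙ tensR O M).map f) := by
    rw [Functor.comp_map]
    infer_instance
  have m3 : Mono ((tensR (O.over U) ((restr O U).obj M) ⋙ extZero O U).map f) :=
    mono_map_of_natIso (projFunIso O U M) f
  rw [Functor.comp_map] at m3
  exact (extZero O U).mono_of_mono_map m3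

theorem isFlat_extZero (P : Mod (O.over U)) (hP : IsFlat P) : IsFlat ((extZero O U).obj P) := by
  rw [isFlat_iff_preservesMono'] at hP ⊢
  constructor
  intro N' N g hg
  have h1 : PreservesLimitsOfSize.{0, 0} (restr O U) :=
    (extZeroAdj O U).rightAdjoint_preservesLimits
  have h2 : PreservesFiniteLimits (restr O U) := h1.preservesFiniteLimits
  have m1 : Mono ((restr O U).map g) := inferInstance
  have m2 : Mono ((restr O U ⋙ tensL (O.over U) P ⋙ extZero O U).map g) := by
    rw [Functor.comp_map, Functor.comp_map]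
    infer_instance
  exact mono_map_of_natIso (projFunIso' O U P).symm g

end Groth.Agent.Lib.Helper42.Proj
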