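import Groth.Prelude.Def_ModSite

set_option autoImplicit false

namespace Groth.Agent.Lib.Helper42.ModSiteLib

universe u
open CategoryTheory Limits Opposite ModSite

variable {C : Type u} [SmallCategory C] {J : GrothendieckTopology C}
  (O : Sheaf J CommRingCat.{u}) (U : C)

noncomputable def restrSection (M : Mod O) (s : M.val.obj (op U)) :
    ((restr O U).obj M).sections :=
  PresheafOfModules.sectionsMk (M := ((restr O U).obj M).val)
    (fun Y => (M.val.map (Y.unop.hom.op) s : M.val.obj (op Y.unop.left)))
    (by
      intro Y Z g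
      change M.val.map g.unop.left.op (M.val.map Y.unop.hom.op s) = M.val.map Z.unop.hom.op s
      rw [← PresheafOfModules.map_comp_apply]
      exact M.val.congr_map_apply (by rw [← op_comp, Over.w]) s)

noncomputable def restrSectionsEquiv (M : Mod O) :
    ((restr O U).obj M).sections ≃ M.val.obj (op U) where
  toFun t := (t.val (op (Over.mk (𝟙 U))) : M.val.obj (op U))
  invFun s := restrSection O U M s
  left_inv t := by
    apply PresheafOfModules.sections_ext
    intro Y
    have := PresheafOfModules.sections_property t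
      (Over.homMk Y.unop.hom : Y.unop ⟶ Over.mk (𝟙 U)).op
    exact this
  right_inv s := by
    change M.val.map (𝟙 U).op s = s
    rw [op_id, M.val.map_id]
    rfl

noncomputable def freeOnHomEquiv (M : Mod O) : (freeOn O U ⟶ M) ≃ M.val.obj (op U) :=
  ((extZeroAdj O U).homEquiv _ _).trans
    (((restr O U).obj M).unitHomEquiv.trans (restrSectionsEquiv O U M))

lemma freeOnHomEquiv_comp {M N : Mod O} (h : freeOn O U ⟶ M) (f : M ⟶ N) :
    freeOnHomEquiv O U N (h ≫ f) = f.val.app (op U) (freeOnHomEquiv O U M h) := by
  unfold freeOnHomEquiv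
  simp only [Equiv.trans_apply]
  rw [Adjunction.homEquiv_naturality_right, SheafOfModules.unitHomEquiv_comp_apply]
  rfl

def sectFunctor : Mod O ⥤ Type u where
  obj F := F.val.obj (op U)
  map f := ↾(fun s => f.val.app (op U) s)

noncomputable def freeOnCorep : (sectFunctor O U).CorepresentableBy (freeOn O U) where
  homEquiv {M} := freeOnHomEquiv O U M
  homEquiv_comp g f := freeOnHomEquiv_comp O U f g

section Pull

variable {D : Type u} [SmallCategory D] {K : GrothendieckTopology D}
  {O_C : Sheaf J CommRingCat.{u}} {O_D : Sheaf K CommRingCat.{u}} (f : RMor O_C O_D) (X : D)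

def pushSectEquiv (F : Mod O_C) :
    (f.push.obj F).val.obj (op X) ≃ F.val.obj (op (f.fn.obj X)) where
  toFun s := s
  invFun s := s
  left_inv _ := rfl
  right_inv _ := rfl

noncomputable def pullFreeOnHomEquiv (F : Mod O_C) :
    (f.pull.obj (freeOn O_D X) ⟶ F) ≃ F.val.obj (op (f.fn.obj X)) :=
  (f.adj.homEquiv _ F).trans ((freeOnHomEquiv O_D X (f.push.obj F)).trans (pushSectEquiv f X F))

noncomputable def pullFreeOnCorep :
    (sectFunctor O_C (f.fn.obj X)).CorepresentableBy (f.pull.obj (freeOn O_D X)) where
  homEquiv {F} := pullFreeOnHomEquiv f X F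
  homEquiv_comp {F F'} g h := by
    change pushSectEquiv f X F' (freeOnHomEquiv O_D X (f.push.obj F')
        (f.adj.homEquiv _ F' (h ≫ g))) =
      g.val.app (op (f.fn.obj X)) (pushSectEquiv f X F (freeOnHomEquiv O_D X (f.push.obj F)
        (f.adj.homEquiv _ F h)))
    rw [Adjunction.homEquiv_naturality_right, freeOnHomEquiv_comp]
    rfl

noncomputable def pullFreeOnIso :
    f.pull.obj (freeOn O_D X) ≅ freeOn O_C (f.fn.obj X) :=
  (pullFreeOnCorep f X).uniqueUpToIso (freeOnCorep O_C (f.fn.obj X))

end Pull

end Groth.Agent.Lib.Helper42.ModSiteLib
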