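import Groth.Agent.Lib.Helper42.ExtZero
import Groth.Agent.Lib.Helper42.ModSheaf
import Mathlib.CategoryTheory.Sites.CoverLifting
import Mathlib.CategoryTheory.Preadditive.Injective.Preserves

set_option autoImplicit false

namespace Groth.Agent.Lib.Helper42.RestrExact

universe u
open CategoryTheory Limits Opposite ModSite

variable {C : Type u} [SmallCategory C] {J : GrothendieckTopology C}
  (O : Sheaf J CommRingCat.{u}) (U : C)

noncomputable def restrToSheafIso :
    restr O U ⋙ SheafOfModules.toSheaf.{u} (ringSh (O.over U)) ≅
      SheafOfModules.toSheaf.{u} (ringSh O) ⋙
        (Over.forget U).sheafPushforwardContinuous AddCommGrpCat.{u} (J.over U) J :=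
  NatIso.ofComponents (fun M => Iso.refl _)

instance restr_preservesColimits : PreservesColimitsOfSize.{u, u} (restr O U) := by
  have h1 : PreservesColimitsOfSize.{u, u}
      ((Over.forget U).sheafPushforwardContinuous AddCommGrpCat.{u} (J.over U) J) :=
    ((Over.forget U).sheafAdjunctionCocontinuous AddCommGrpCat.{u} (J.over U) J).leftAdjoint_preservesColimits
  have h2 : PreservesColimitsOfSize.{u, u}
      (restr O U ⋙ SheafOfModules.toSheaf.{u} (ringSh (O.over U))) :=
    preservesColimits_of_natIso (restrToSheafIso O U).symm
  exact preservesColimits_of_reflects_of_preserves (restr O U)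
    (SheafOfModules.toSheaf.{u} (ringSh (O.over U)))

instance restr_preservesFiniteColimits : PreservesFiniteColimits (restr O U) :=
  PreservesColimitsOfSize.preservesFiniteColimits _

instance restr_preservesLimits : PreservesLimitsOfSize.{u, u} (restr O U) :=
  (extZeroAdj O U).rightAdjoint_preservesLimits

instance restr_preservesFiniteLimits : PreservesFiniteLimits (restr O U) :=
  PreservesLimitsOfSize.preservesFiniteLimits _

instance restr_additive : (restr O U).Additive where

instance restr_preservesInjectiveObjects : (restr O U).PreservesInjectiveObjects :=
  Functor.preservesInjectiveObjects_of_adjunction_of_preservesMonomorphisms (extZeroAdj O U)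

instance restr_preservesHomology : (restr O U).PreservesHomology := inferInstance

end Groth.Agent.Lib.Helper42.RestrExact
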