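import Groth.Agent.Lib.Helper42.EqCrit
import Groth.Agent.Lib.Helper42.RestrExact
import Groth.Agent.Lib.Helper42.ModSiteLib
import Mathlib.Algebra.Category.ModuleCat.Sheaf.Quasicoherent

set_option autoImplicit false

namespace Groth.Agent.Lib.Helper42.FinPres

universe u
open CategoryTheory Limits Opposite ModSite SheafOfModules
open Groth.Agent.Lib.Helper42.ModSiteLib Groth.Agent.Lib.Helper42.TensorSheaf

variable {C : Type u} [SmallCategory C] {J : GrothendieckTopology C} (O : Sheaf J CommRingCat.{u})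

section Global

variable {O}

abbrev El (M : Mod O) (V : C) : Type u := ((fgt O).obj M).obj (op V)

noncomputable def ap {M N : Mod O} (f : M ⟶ N) (V : C) : El M V →ₗ[O.obj.obj (op V)] El N V :=
  (((fgt O).map f).app (op V)).hom

lemma ap_comp {M N P : Mod O} (f : M ⟶ N) (g : N ⟶ P) (V : C) (x : El M V) :
    ap (f ≫ g) V x = ap g V (ap f V x) := rfl

lemma ap_id {M : Mod O} (V : C) (x : El M V) : ap (𝟙 M) V x = x := rfl

lemma ap_zero {M N : Mod O} (V : C) (x : El M V) : ap (0 : M ⟶ N) V x = 0 := rfl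

lemma ap_add {M N : Mod O} (f g : M ⟶ N) (V : C) (x : El M V) :
    ap (f + g) V x = ap f V x + ap g V x := rfl

lemma ap_sum {M N : Mod O} {I : Type u} (s : Finset I) (f : I → (M ⟶ N)) (V : C) (x : El M V) :
    ap (∑ j ∈ s, f j) V x = ∑ j ∈ s, ap (f j) V x := by
  classical
  induction s using Finset.induction_on with
  | empty => simp only [Finset.sum_empty]; rfl
  | insert j s hj ih => rw [Finset.sum_insert hj, Finset.sum_insert hj, ← ih]; rfl

abbrev ev {M : Mod O} (σ : M.sections) (V : C) : El M V := σ.val (op V)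

lemma ev_sectionsMap {M N : Mod O} (f : M ⟶ N) (σ : M.sections) (V : C) :
    ev (sectionsMap f σ) V = ap f V (ev σ V) := rfl

lemma ev_freeHomEquiv {M : Mod O} {I : Type u} (f : free I ⟶ M) (j : I) (V : C) :
    ev (freeHomEquiv M f j) V = ap f V (ev (freeSection j) V) := rfl

noncomputable def one (V : C) : El (unit O) V := (1 : O.obj.obj (op V))

lemma ev_freeSection {I : Type u} (j : I) (V : C) :
    ev (freeSection (R := ringSh O) j) V = ap (ιFree (R := ringSh O) j) V (one V) := by
  change ap ((ιFree (R := ringSh O) j) ≫ 𝟙 _) V (one V) = _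
  rw [Category.comp_id]

open Classical in
noncomputable def proj {I : Type u} (j : I) : free (R := ringSh O) I ⟶ unit O :=
  Cofan.IsColimit.desc (isColimitFreeCofan I) (fun i => if i = j then 𝟙 (unit O) else 0)

open Classical in
lemma ιFree_proj {I : Type u} (i j : I) :
    ιFree (R := ringSh O) i ≫ proj j = if i = j then 𝟙 (unit O) else 0 :=
  Cofan.IsColimit.fac (isColimitFreeCofan I) _ i

lemma sum_proj_ιFree {I : Type u} [Fintype I] :
    ∑ j : I, proj (O := O) j ≫ ιFree j = 𝟙 (free I) := by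
  classical
  apply Cofan.IsColimit.hom_ext (isColimitFreeCofan I)
  intro i
  show (ιFree (R := ringSh O) i ≫ (∑ j : I, proj (O := O) j ≫ ιFree j) : unit O ⟶ free I) =
    ιFree i ≫ 𝟙 (free I)
  rw [Preadditive.comp_sum, Category.comp_id]
  rw [Finset.sum_eq_single i]
  · rw [← Category.assoc, ιFree_proj, if_pos rfl, Category.id_comp]
  · intro j _ hj
    rw [← Category.assoc, ιFree_proj, if_neg (Ne.symm hj), zero_comp]
  · intro h
    exact absurd (Finset.mem_univ i) h

noncomputable def toO (V : C) (x : El (unit O) V) : O.obj.obj (op V) := x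

noncomputable def coord {I : Type u} (j : I) (V : C) (x : El (free (R := ringSh O) I) V) :
    O.obj.obj (op V) :=
  toO V (ap (proj (O := O) j) V x)

lemma smul_one_unit (V : C) (c : El (unit O) V) : toO V c • one V = c := mul_one (toO V c)

lemma ιFree_app_apply {I : Type u} (j : I) (V : C) (c : El (unit O) V) :
    ap (ιFree (R := ringSh O) j) V c = toO V c • ev (freeSection (R := ringSh O) j) V := by
  rw [ev_freeSection, ← (ap (ιFree (R := ringSh O) j) V).map_smul, smul_one_unit]

theorem decomp {I : Type u} [Fintype I] (V : C) (x : El (free (R := ringSh O) I) V) :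
    x = ∑ j : I, coord j V x • ev (freeSection (R := ringSh O) j) V := by
  have h : ap (∑ j : I, proj (O := O) j ≫ ιFree j) V x = ap (𝟙 (free I)) V x :=
    congrArg (fun f : free (R := ringSh O) I ⟶ free I => ap f V x)
      (sum_proj_ιFree (O := O) (I := I))
  rw [ap_sum, ap_id] at h
  refine Eq.trans h.symm (Finset.sum_congr rfl fun j _ => ?_)
  rw [ap_comp]
  exact ιFree_app_apply j V _

end Global

section Local

variable (V : C)

abbrev T : Over V := Over.mk (𝟙 V)

noncomputable def apT {M M' : Mod O} (ψ : (restr O V).obj M ⟶ (restr O V).obj M') :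
    El M V →ₗ[O.obj.obj (op V)] El M' V where
  toFun x := ap (O := O.over V) ψ (T V) x
  map_add' x y := (ap (O := O.over V) ψ (T V)).map_add x y
  map_smul' c x := (ap (O := O.over V) ψ (T V)).map_smul c x

lemma apT_comp {M M' M'' : Mod O} (ψ : (restr O V).obj M ⟶ (restr O V).obj M')
    (χ : (restr O V).obj M' ⟶ (restr O V).obj M'') (x : El M V) :
    apT O V (ψ ≫ χ) x = apT O V χ (apT O V ψ x) := rfl

lemma apT_id {M : Mod O} (x : El M V) : apT O V (𝟙 ((restr O V).obj M)) x = x := rfl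

lemma apT_restr_map {M M' : Mod O} (θ : M ⟶ M') (x : El M V) :
    apT O V ((restr O V).map θ) x = ap θ V x := rfl

noncomputable def valT {I : Type u} {M : Mod O}
    (ψ : free (R := ringSh (O.over V)) I ⟶ (restr O V).obj M) (j : I) : El M V :=
  ap (O := O.over V) ψ (T V) (ev (freeSection (R := ringSh (O.over V)) j) (T V))

lemma hom_ext_T {I : Type u} {M : Mod O}
    (ψ ψ' : free (R := ringSh (O.over V)) I ⟶ (restr O V).obj M)
    (h : ∀ j, valT O V ψ j = valT O V ψ' j) : ψ = ψ' := by
  apply (freeHomEquiv _).injective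
  funext j
  apply (restrSectionsEquiv O V M).injective
  exact h j

noncomputable def mkT {I : Type u} {M : Mod O} (m : I → El M V) :
    free (R := ringSh (O.over V)) I ⟶ (restr O V).obj M :=
  (freeHomEquiv _).symm (fun j => restrSection O V M (m j))

lemma valT_mkT {I : Type u} {M : Mod O} (m : I → El M V) (j : I) :
    valT O V (mkT O V m) j = m j := by
  have h1 : freeHomEquiv _ (mkT O V m) j = restrSection O V M (m j) := by
    unfold mkT
    rw [Equiv.apply_symm_apply]
  exact (congrArg (restrSectionsEquiv O V M) h1).trans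
    ((restrSectionsEquiv O V M).apply_symm_apply (m j))

lemma valT_comp {I : Type u} {M M' : Mod O}
    (ψ : free (R := ringSh (O.over V)) I ⟶ (restr O V).obj M)
    (χ : (restr O V).obj M ⟶ (restr O V).obj M') (j : I) :
    valT O V (ψ ≫ χ) j = apT O V χ (valT O V ψ j) := rfl

noncomputable def freeIso (I : Type u) :
    free (R := ringSh (O.over V)) I ≅ (restr O V).obj (free (R := ringSh O) I) :=
  mapFreeIso (restr O V) I (Iso.refl _)

lemma valT_freeIso (I : Type u) (j : I) :
    valT O V (freeIso O V I).hom j = ev (freeSection (R := ringSh O) j) V := by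
  have h1 : ιFree (R := ringSh (O.over V)) j ≫ (freeIso O V I).hom =
      (restr O V).map (ιFree (R := ringSh O) j) := by
    unfold freeIso
    rw [ιFree_mapFreeIso_hom]
    exact Category.id_comp _
  unfold valT
  rw [ev_freeSection, ← ap_comp, h1, ev_freeSection]
  rfl

lemma valT_zero {I : Type u} {M : Mod O} (j : I) :
    valT O V (0 : free (R := ringSh (O.over V)) I ⟶ (restr O V).obj M) j = 0 := rfl

theorem fac_local {Ir Ig : Type u} [Fintype Ir] [Fintype Ig] {F H : Mod O}
    (Rm : free (R := ringSh O) Ir ⟶ free Ig) (π : free Ig ⟶ F) (w : Rm ≫ π = 0)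
    (hc : IsColimit (CokernelCofork.ofπ π w)) (φ : F ⟶ H) (l : ℕ)
    (t : Fin l → El H V) (a : Ig → Fin l → O.obj.obj (op V))
    (h1 : ∀ j, ap (π ≫ φ) V (ev (freeSection j) V) = ∑ k, a j k • t k)
    (h2 : ∀ ρ k, ∑ j, a j k * coord j V (ap Rm V (ev (freeSection ρ) V)) = 0) :
    ∃ (a' : (restr O V).obj F ⟶ free (R := ringSh (O.over V)) (ULift.{u} (Fin l)))
      (b' : free (R := ringSh (O.over V)) (ULift.{u} (Fin l)) ⟶ (restr O V).obj H),
      a' ≫ b' = (restr O V).map φ := by
  classical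
  let L : Type u := ULift.{u} (Fin l)
  let FL : Mod O := free (R := ringSh O) L
  let g' : Fin l → El FL V := fun k => ev (freeSection (R := ringSh O) (ULift.up k : L)) V
  let a₀ : free (R := ringSh (O.over V)) Ig ⟶ (restr O V).obj FL :=
    mkT O V (fun j => ∑ k, a j k • g' k)
  let a₁ : (restr O V).obj (free (R := ringSh O) Ig) ⟶ (restr O V).obj FL :=
    (freeIso O V Ig).inv ≫ a₀
  have K : ∀ j, apT O V a₁ (ev (freeSection (R := ringSh O) j) V) = ∑ k, a j k • g' k := by
    intro j
    rw [← valT_freeIso O V Ig j, ← valT_comp]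
    have : (freeIso O V Ig).hom ≫ a₁ = a₀ := Iso.hom_inv_id_assoc _ _
    rw [this]
    exact valT_mkT O V _ j
  have claim : (restr O V).map Rm ≫ a₁ = 0 := by
    rw [← cancel_epi (freeIso O V Ir).hom, comp_zero]
    apply hom_ext_T
    intro ρ
    rw [valT_zero, valT_comp, valT_freeIso, apT_comp, apT_restr_map]
    rw [decomp V (ap Rm V (ev (freeSection (R := ringSh O) ρ) V)), map_sum]
    simp only [map_smul, K, Finset.smul_sum, smul_smul]
    rw [Finset.sum_comm]
    refine Finset.sum_eq_zero fun k _ => ?_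
    rw [← Finset.sum_smul]
    have := h2 ρ k
    simp only [mul_comm] at this ⊢
    rw [this, zero_smul]
  let hcV := (CokernelCofork.ofπ π w).mapIsColimit hc (restr O V)
  obtain ⟨a₂, ha₂⟩ := CokernelCofork.IsColimit.desc' hcV a₁ claim
  have ha₂' : (restr O V).map π ≫ a₂ = a₁ := ha₂
  let b' : free (R := ringSh (O.over V)) L ⟶ (restr O V).obj H := mkT O V (fun k => t k.down)
  refine ⟨a₂ ≫ (freeIso O V L).inv, b', ?_⟩
  apply Cofork.IsColimit.hom_ext hcV
  change (restr O V).map π ≫ (a₂ ≫ (freeIso O V L).inv) ≫ b' =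
    (restr O V).map π ≫ (restr O V).map φ
  rw [Category.assoc, reassoc_of% ha₂', ← cancel_epi (freeIso O V Ig).hom]
  apply hom_ext_T
  intro j
  have e1 : (freeIso O V Ig).hom ≫ a₁ ≫ (freeIso O V L).inv ≫ b' =
      a₀ ≫ ((freeIso O V L).inv ≫ b') := by
    change (freeIso O V Ig).hom ≫ ((freeIso O V Ig).inv ≫ a₀) ≫ _ = _
    rw [Category.assoc, Iso.hom_inv_id_assoc]
  have e2 : ∀ k, apT O V ((freeIso O V L).inv ≫ b') (g' k) = t k := by
    intro k
    change apT O V ((freeIso O V L).inv ≫ b') (ev (freeSection (R := ringSh O) (ULift.up k : L)) V) = _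
    rw [← valT_freeIso O V L (ULift.up k), ← valT_comp, Iso.hom_inv_id_assoc]
    exact valT_mkT O V _ _
  rw [e1, valT_comp, valT_mkT, map_sum]
  simp only [map_smul, e2]
  rw [← Functor.map_comp, valT_comp, valT_freeIso, apT_restr_map]
  exact (h1 j).symm

end Local

section GlobalThm

open Groth.Agent.Lib.Helper42.TensorLoc Groth.Agent.Lib.Helper42.EqCrit

variable {O}

lemma res_ev {M : Mod O} (σ : M.sections) {V Z : C} (k : V ⟶ Z) :
    res ((fgt O).obj M) k.op (ev σ Z) = ev σ V :=
  PresheafOfModules.sections_property σ k.op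

lemma map_toO_ev (σ : (unit O).sections) {V Z : C} (k : V ⟶ Z) :
    O.obj.map k.op (toO Z (ev σ Z)) = toO V (ev σ V) :=
  PresheafOfModules.sections_property σ k.op

variable (O)

theorem fac_global {Ir Ig : Type u} [Finite Ir] [Finite Ig] {F H : Mod O}
    (Rm : free (R := ringSh O) Ir ⟶ free Ig) (π : free Ig ⟶ F) (w : Rm ≫ π = 0)
    (hc : IsColimit (CokernelCofork.ofπ π w)) (hH : IsFlat H) (φ : F ⟶ H) (Z : C) :
    ∃ S ∈ J Z, ∀ ⦃V : C⦄ (k : V ⟶ Z), S k →
      ∃ (n : ℕ) (a' : (restr O V).obj F ⟶ free (R := ringSh (O.over V)) (ULift.{u} (Fin n)))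
        (b' : free (R := ringSh (O.over V)) (ULift.{u} (Fin n)) ⟶ (restr O V).obj H),
        a' ≫ b' = (restr O V).map φ := by
  classical
  have := Fintype.ofFinite Ir
  have := Fintype.ofFinite Ig
  let eg : Ig ≃ Fin (Fintype.card Ig) := Fintype.equivFin Ig
  let er : Ir ≃ Fin (Fintype.card Ir) := Fintype.equivFin Ir
  let ys : Ig → H.sections := fun j => sectionsMap (π ≫ φ) (freeSection j)
  let cs : Ir → Ig → (unit O).sections := fun ρ j => sectionsMap (Rm ≫ proj j) (freeSection ρ)
  have hrel : ∀ ρ : Ir, ∑ j, toO Z (ev (cs ρ j) Z) • ev (ys j) Z = 0 := by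
    intro ρ
    have h0 : ap (π ≫ φ) Z (ap Rm Z (ev (freeSection (R := ringSh O) ρ) Z)) = 0 := by
      rw [← ap_comp, ← Category.assoc, w, zero_comp]
      rfl
    rw [decomp Z (ap Rm Z (ev (freeSection (R := ringSh O) ρ) Z)), map_sum] at h0
    simp only [map_smul] at h0
    exact h0
  obtain ⟨S, hS, hdata⟩ := eqCrit_forward' O Z
    (f := fun ρ' j' => toO Z (ev (cs (er.symm ρ') (eg.symm j')) Z)) H hH
    (fun j' => ev (ys (eg.symm j')) Z)
    (fun ρ' => (Equiv.sum_comp eg.symm
      (fun j => toO Z (ev (cs (er.symm ρ') j) Z) • ev (ys j) Z)).trans (hrel (er.symm ρ')))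
  refine ⟨S, hS, fun V k hk => ?_⟩
  obtain ⟨l, t, a, ha1, ha2⟩ := hdata k hk
  refine ⟨l, fac_local O V Rm π w hc φ l t (fun j k => a (eg j) k) ?_ ?_⟩
  · intro j
    have := ha1 (eg j)
    rw [Equiv.symm_apply_apply, res_ev] at this
    exact this
  · intro ρ k'
    have := ha2 (er ρ) k'
    simp only [Equiv.symm_apply_apply, map_toO_ev] at this
    refine Eq.trans ?_ this
    refine Eq.trans ?_ (Equiv.sum_comp eg (fun x => a x k' * toO V (ev (cs ρ (eg.symm x)) V)))
    refine Finset.sum_congr rfl fun j _ => ?_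
    rw [Equiv.symm_apply_apply]
    rfl

end GlobalThm

section Transport

noncomputable def eqv (R : Sheaf J RingCat.{u}) (Xi : C) (Y : Over Xi) :
    SheafOfModules.{u} (R.over Y.left) ≌ SheafOfModules.{u} ((R.over Xi).over Y) :=
  SheafOfModules.pushforwardPushforwardEquivalence (Over.iteratedSliceEquiv Y)
      (S := (R.over _).over _) (R := R.over _) (𝟙 _) (𝟙 _)
      (by ext : 2; exact R.1.map_id _) (by ext : 2; exact R.1.map_id _)

noncomputable def θ (R : Sheaf J RingCat.{u}) (Xi : C) (Y : Over Xi) :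
    overFunctor R Xi ⋙ overFunctor (R.over Xi) Y ⋙ (eqv R Xi Y).inverse ≅ overFunctor R Y.left :=
  NatIso.ofComponents
    fun M ↦ (SheafOfModules.fullyFaithfulForget _).preimageIso <|
      PresheafOfModules.isoMk (fun U ↦ Iso.refl _)

theorem transport' {R : Sheaf J RingCat.{u}} (Xi : C) (Y : Over Xi) {F H : SheafOfModules.{u} R}
    (φ : F ⟶ H) (n : ℕ)
    (a : (F.over Xi).over Y ⟶ free (ULift.{u} (Fin n)))
    (b : free (ULift.{u} (Fin n)) ⟶ (H.over Xi).over Y)
    (hab : a ≫ b = (φ.over Xi).over Y) :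
    ∃ (a' : F.over Y.left ⟶ free (ULift.{u} (Fin n)))
      (b' : free (ULift.{u} (Fin n)) ⟶ H.over Y.left), a' ≫ b' = φ.over Y.left := by
  let e := eqv R Xi Y
  let fi : free (R := R.over Y.left) (ULift.{u} (Fin n)) ≅
      e.inverse.obj (free (R := (R.over Xi).over Y) (ULift.{u} (Fin n))) :=
    mapFreeIso e.inverse (ULift.{u} (Fin n)) (Iso.refl _)
  refine ⟨(θ R Xi Y).inv.app F ≫ e.inverse.map a ≫ fi.inv,
    fi.hom ≫ e.inverse.map b ≫ (θ R Xi Y).hom.app H, ?_⟩
  have nat := (θ R Xi Y).hom.naturality φ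
  simp only [Category.assoc, Iso.inv_hom_id_assoc]
  rw [← e.inverse.map_comp_assoc, hab]
  rw [← cancel_epi ((θ R Xi Y).hom.app F), Iso.hom_inv_id_app_assoc]
  exact nat

theorem transport (Xi : C) (Y : Over Xi) {F H : Mod O} (φ : F ⟶ H) (n : ℕ)
    (a : (restr (O.over Xi) Y).obj ((restr O Xi).obj F) ⟶
      free (R := ringSh ((O.over Xi).over Y)) (ULift.{u} (Fin n)))
    (b : free (R := ringSh ((O.over Xi).over Y)) (ULift.{u} (Fin n)) ⟶
      (restr (O.over Xi) Y).obj ((restr O Xi).obj H))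
    (hab : a ≫ b = (restr (O.over Xi) Y).map ((restr O Xi).map φ)) :
    ∃ (a' : (restr O Y.left).obj F ⟶ free (R := ringSh (O.over Y.left)) (ULift.{u} (Fin n)))
      (b' : free (R := ringSh (O.over Y.left)) (ULift.{u} (Fin n)) ⟶ (restr O Y.left).obj H),
      a' ≫ b' = (restr O Y.left).map φ :=
  transport' (R := ringSh O) Xi Y φ n a b hab

end Transport

section Main

open Groth.Agent.Lib.Helper42.Proj

theorem core (F H : Mod O) (hH : IsFlat H) (φ : F ⟶ H) (Xi : C)
    (P : ((restr O Xi).obj F).Presentation) (hP : P.IsFinite) (W : C) (h : W ⟶ Xi) :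
    ∃ S ∈ J W, ∀ ⦃V : C⦄ (k : V ⟶ W), S k →
      ∃ (n : ℕ) (a' : (restr O V).obj F ⟶ free (R := ringSh (O.over V)) (ULift.{u} (Fin n)))
        (b' : free (R := ringSh (O.over V)) (ULift.{u} (Fin n)) ⟶ (restr O V).obj H),
        a' ≫ b' = (restr O V).map φ := by
  obtain ⟨S', hS', hdata⟩ := fac_global (O.over Xi) (Ir := P.relations.I) (Ig := P.generators.I)
    (F := (restr O Xi).obj F) (H := (restr O Xi).obj H)
    ((freeHomEquiv _).symm P.relations.s ≫ kernel.ι _) P.generators.π (by simp) P.isColimit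
    (isFlat_restr O Xi H hH) ((restr O Xi).map φ) (Over.mk h)
  refine ⟨Sieve.overEquiv (Over.mk h) S', (J.mem_over_iff S').mp hS', ?_⟩
  intro V k hk
  rw [Sieve.overEquiv_iff] at hk
  obtain ⟨n, a, b, hab⟩ := hdata _ hk
  exact ⟨n, transport O Xi (Over.mk (k ≫ h)) φ n a b hab⟩

theorem fac_of_isFinitePresentation (F H : Mod O)
    [SheafOfModules.IsFinitePresentation (R := ringSh O) F] (hH : IsFlat H) (φ : F ⟶ H) (X : C) :
    ∃ S ∈ J X, ∀ ⦃V : C⦄ (g : V ⟶ X), S g →
      ∃ (n : ℕ) (a' : (restr O V).obj F ⟶ free (R := ringSh (O.over V)) (ULift.{u} (Fin n)))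
        (b' : free (R := ringSh (O.over V)) (ULift.{u} (Fin n)) ⟶ (restr O V).obj H),
        a' ≫ b' = (restr O V).map φ := by
  obtain ⟨σ, hσ⟩ := IsFinitePresentation.exists_quasicoherentData F
  have hS₀ := σ.coversTop X
  have key : ∀ ⦃W : C⦄ (g : W ⟶ X), (Sieve.ofObjects σ.X X) g →
      ∃ S ∈ J W, ∀ ⦃V : C⦄ (k : V ⟶ W), S k →
        ∃ (n : ℕ) (a' : (restr O V).obj F ⟶ free (R := ringSh (O.over V)) (ULift.{u} (Fin n)))
          (b' : free (R := ringSh (O.over V)) (ULift.{u} (Fin n)) ⟶ (restr O V).obj H),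
          a' ≫ b' = (restr O V).map φ := by
    rintro W g ⟨i, ⟨h⟩⟩
    exact core O F H hH φ (σ.X i) (σ.presentation i) (hσ.isFinite_presentation i) W h
  refine ⟨Sieve.bind (Sieve.ofObjects σ.X X).arrows (fun W g hg => (key g hg).choose),
    J.bind_covering hS₀ (fun W g hg => (key g hg).choose_spec.1), ?_⟩
  rintro V g ⟨W, k, g', hg', hk, rfl⟩
  exact (key g' hg').choose_spec.2 k hk

end Main

end Groth.Agent.Lib.Helper42.FinPres
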