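import Groth.Agent.Lib.Helper42.TensorSheaf
import Groth.Agent.Lib.Helper42.ModSiteLib
import Groth.Agent.Lib.Helper42.ModSheaf
import Mathlib.CategoryTheory.Adjunction.AdjointFunctorTheorems
import Mathlib.CategoryTheory.Abelian.Subobject

set_option autoImplicit false

namespace Groth.Agent.Lib.Helper42.TensorColim

universe u
open CategoryTheory MonoidalCategory Limits Opposite ModSite
open Groth.Agent.Lib.Helper42.TensorSheaf Groth.Agent.Lib.Helper42.ModSiteLib

section Abstract

universe v₁ v₂ v₃ u₁ u₂ u₃ w w'

variable {PP : Type u₁} [Category.{v₁} PP] {SS : Type u₂} [Category.{v₂} SS]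
  {DD : Type u₃} [Category.{v₃} DD]

theorem preservesColimit_of_reflective (L : PP ⥤ SS) (R : SS ⥤ PP) (adj : L ⊣ R)
    [IsIso adj.counit] (G : SS ⥤ DD) {K : Type w} [Category.{w'} K] (D : K ⥤ SS)
    [HasColimit (D ⋙ R)] [PreservesColimit (D ⋙ R) (L ⋙ G)] : PreservesColimit D G := by
  let E := D ⋙ R
  let e : D ≅ E ⋙ L := Functor.isoWhiskerLeft D (asIso adj.counit).symm
  have hL : PreservesColimit E L := adj.leftAdjoint_preservesColimits.preservesColimitsOfShape.preservesColimit
  have : PreservesColimit (E ⋙ L) G := by
    apply preservesColimit_of_preserves_colimit_cocone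
      (isColimitOfPreserves L (colimit.isColimit E))
    exact isColimitOfPreserves (L ⋙ G) (colimit.isColimit E)
  exact preservesColimit_of_iso_diagram _ e.symm

end Abstract

variable {C : Type u} [SmallCategory C] {J : GrothendieckTopology C} (O : Sheaf J CommRingCat.{u})

noncomputable def tensR (N : Mod O) : Mod O ⥤ Mod O := (tensorBi O).flip.obj N

noncomputable def preTensR (N : Mod O) : PMod O ⥤ Mod O :=
  tensorRight ((fgt O).obj N) ⋙ shf O

noncomputable def tensRIso (N : Mod O) : tensR O N ≅ fgt O ⋙ preTensR O N := Iso.refl _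

instance (N : Mod O) : PreservesColimitsOfSize.{u, u} (preTensR O N) := by
  have : PreservesColimitsOfSize.{u, u} (shf O) := (adjS O).leftAdjoint_preservesColimits
  unfold preTensR
  infer_instance

noncomputable def shfTensRIso (N : Mod O) : preTensR O N ≅ shf O ⋙ tensR O N :=
  NatIso.ofComponents
    (fun P => @asIso _ _ _ _ ((shf O).map ((adjS O).unit.app P ▷ (fgt O).obj N))
      (W_whiskerRight _ (W_unit P) _))
    (by
      intro P P' f
      change (shf O).map (f ▷ (fgt O).obj N) ≫ (shf O).map ((adjS O).unit.app P' ▷ (fgt O).obj N) =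
        (shf O).map ((adjS O).unit.app P ▷ (fgt O).obj N) ≫
          (shf O).map ((fgt O).map ((shf O).map f) ▷ (fgt O).obj N)
      rw [← Functor.map_comp, ← Functor.map_comp, ← comp_whiskerRight, ← comp_whiskerRight]
      congr 2
      exact (adjS O).unit.naturality f)

instance : IsIso (adjS O).counit :=
  inferInstanceAs (IsIso (PresheafOfModules.sheafificationAdjunction (𝟙 (ringSh O).obj)).counit)

instance tensR_preservesColimits (N : Mod O) : PreservesColimitsOfSize.{u, u} (tensR O N) where
  preservesColimitsOfShape {K _} := ⟨fun {D} => by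
    have : PreservesColimit (D ⋙ fgt O) (shf O ⋙ tensR O N) :=
      preservesColimit_of_natIso _ (shfTensRIso O N)
    exact preservesColimit_of_reflective (shf O) (fgt O) (adjS O) (tensR O N) D⟩

theorem freeOn_isSeparating :
    (ObjectProperty.ofObj fun X : C => ModSite.freeOn O X).IsSeparating := by
  intro M N f g hfg
  apply SheafOfModules.hom_ext
  apply PresheafOfModules.hom_ext
  intro X
  ext s
  have h1 := hfg (ModSite.freeOn O X.unop) (ObjectProperty.ofObj_apply _ X.unop)
    ((freeOnHomEquiv O X.unop M).symm s)
  have h2 := congrArg (freeOnHomEquiv O X.unop N) h1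
  rw [freeOnHomEquiv_comp, freeOnHomEquiv_comp, Equiv.apply_symm_apply] at h2
  exact h2

instance : WellPowered.{u} (Mod O) :=
  wellPowered_of_isDetecting (freeOn_isSeparating O).isDetecting

theorem hasSheafHom (N : Mod O) : HasSheafHom N :=
  isLeftAdjoint_of_preservesColimits_of_isSeparating (freeOn_isSeparating O) (tensR O N)

end Groth.Agent.Lib.Helper42.TensorColim
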