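import Mathlib.LinearAlgebra.TensorProduct.Vanishing
import Mathlib.RingTheory.TensorProduct.DirectLimitFG
import Mathlib.RingTheory.Finiteness.Basic

set_option autoImplicit false

namespace Groth.Agent.Lib.Helper42.TensorLoc

open TensorProduct

theorem exists_vanishing_data {A M M' N : Type*} [CommRing A] [AddCommGroup M] [Module A M]
    [AddCommGroup M'] [Module A M'] [AddCommGroup N] [Module A N]
    (φ : M →ₗ[A] M') {s : ℕ} (p : Fin s → M) (n : Fin s → N)
    (hz : ∑ k, φ (p k) ⊗ₜ[A] n k = 0) :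
    ∃ (e : ℕ) (q : Fin e → M') (κ : ℕ) (a : Fin s → Fin κ → A) (b : Fin e → Fin κ → A)
      (y : Fin κ → N),
      (∀ k, n k = ∑ j, a k j • y j) ∧ (∀ l, ∑ j, b l j • y j = 0) ∧
      ∀ j, ∑ k, a k j • φ (p k) + ∑ l, b l j • q l = 0 := by
  classical
  let P : Submodule A M' := Submodule.span A (Set.range (fun k => φ (p k)))
  have hP : P.FG := Submodule.fg_span (Set.finite_range _)
  let t : P ⊗[A] N := ∑ k, (⟨φ (p k), Submodule.subset_span ⟨k, rfl⟩⟩ : P) ⊗ₜ[A] n k
  have ht : LinearMap.rTensor N P.subtype t = 0 := by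
    simp only [t, map_sum, LinearMap.rTensor_tmul, Submodule.subtype_apply]
    exact hz
  obtain ⟨Q, hPQ, hQfg, hQ⟩ := TensorProduct.eq_zero_of_fg_of_subtype_eq_zero hP ht
  obtain ⟨e, q, hq⟩ := Submodule.fg_iff_exists_fin_generating_family.mp hQfg
  have hqQ : ∀ l, q l ∈ Q := fun l => hq ▸ Submodule.subset_span ⟨l, rfl⟩
  let m : Fin s ⊕ Fin e → Q := Sum.elim
    (fun k => ⟨φ (p k), hPQ (Submodule.subset_span ⟨k, rfl⟩)⟩) (fun l => ⟨q l, hqQ l⟩)
  let ν : Fin s ⊕ Fin e → N := Sum.elim n (fun _ => 0)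
  have hm : Submodule.span A (Set.range m) = ⊤ := by
    rw [eq_top_iff]
    rintro ⟨x, hx⟩ -
    have hx' : x ∈ Submodule.span A (Set.range q) := hq ▸ hx
    induction hx' using Submodule.span_induction with
    | mem x hx'' =>
      obtain ⟨l, rfl⟩ := hx''
      exact Submodule.subset_span ⟨Sum.inr l, rfl⟩
    | zero => exact Submodule.zero_mem _
    | add x y hx1 hy1 hx2 hy2 =>
      have := Submodule.add_mem _ (hx2 (hq ▸ hx1)) (hy2 (hq ▸ hy1))
      exact this
    | smul c x hx1 hx2 =>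
      have := Submodule.smul_mem _ c (hx2 (hq ▸ hx1))
      exact this
  have hsum : ∑ i, m i ⊗ₜ[A] ν i = 0 := by
    rw [Fintype.sum_sum_type]
    simp only [m, ν, Sum.elim_inl, Sum.elim_inr, tmul_zero, Finset.sum_const_zero, add_zero]
    have : LinearMap.rTensor N (Submodule.inclusion hPQ) t = 0 := hQ
    simp only [t, map_sum, LinearMap.rTensor_tmul] at this
    exact this
  obtain ⟨κ, a', y, h1, h2⟩ := TensorProduct.vanishesTrivially_of_sum_tmul_eq_zero A hm hsum
  refine ⟨e, q, κ, fun k => a' (Sum.inl k), fun l => a' (Sum.inr l), y, ?_, ?_, ?_⟩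
  · intro k
    exact h1 (Sum.inl k)
  · intro l
    exact (h1 (Sum.inr l)).symm
  · intro j
    have := congrArg Q.subtype (h2 j)
    rw [Fintype.sum_sum_type] at this
    simpa [m] using this

end Groth.Agent.Lib.Helper42.TensorLoc

namespace Groth.Agent.Lib.Helper42.TensorLoc
open TensorProduct

theorem sum_tmul_eq_of_data {B M N : Type*} [CommRing B] [AddCommGroup M] [Module B M]
    [AddCommGroup N] [Module B N] {s e κ : ℕ} (P : Fin s → M) (ν : Fin s → N)
    (α : Fin s → Fin κ → B) (β : Fin e → Fin κ → B) (Y : Fin κ → N) (m : Fin e → M)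
    (h1 : ∀ k, ν k = ∑ j, α k j • Y j) (h2 : ∀ l, ∑ j, β l j • Y j = 0) :
    ∑ k, P k ⊗ₜ[B] ν k = ∑ j, (∑ k, α k j • P k + ∑ l, β l j • m l) ⊗ₜ[B] Y j := by
  simp_rw [add_tmul, sum_tmul, Finset.sum_add_distrib]
  rw [Finset.sum_comm, Finset.sum_comm (f := fun j l => (β l j • m l) ⊗ₜ[B] Y j)]
  simp_rw [smul_tmul, ← tmul_sum, h2, tmul_zero, Finset.sum_const_zero, add_zero, ← h1]

end Groth.Agent.Lib.Helper42.TensorLoc
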