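import Mathlib.Algebra.Category.ModuleCat.Presheaf.Monoidal
import Mathlib.Algebra.Category.ModuleCat.Presheaf.Sheafification
import Mathlib.CategoryTheory.Sites.LocallySurjective
import Mathlib.CategoryTheory.Sites.LocallyInjective
import Groth.Agent.Lib.Helper42.TensorAlg

set_option autoImplicit false

namespace Groth.Agent.Lib.Helper42.TensorLoc

universe u v₁ u₁
open CategoryTheory MonoidalCategory Opposite TensorProduct

variable {C : Type u₁} [Category.{v₁} C] (J : GrothendieckTopology C)
  {R : Cᵒᵖ ⥤ CommRingCat.{u}}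

section
variable (P : PresheafOfModules.{u} (R ⋙ forget₂ _ RingCat))

noncomputable def res {X Y : Cᵒᵖ} (f : X ⟶ Y) (x : P.obj X) : P.obj Y := P.map f x

lemma res_add {X Y : Cᵒᵖ} (f : X ⟶ Y) (x y : P.obj X) : res P f (x + y) = res P f x + res P f y :=
  map_add (P.map f).hom x y

lemma res_sub {X Y : Cᵒᵖ} (f : X ⟶ Y) (x y : P.obj X) : res P f (x - y) = res P f x - res P f y :=
  map_sub (P.map f).hom x y

lemma res_zero {X Y : Cᵒᵖ} (f : X ⟶ Y) : res P f (0 : P.obj X) = 0 :=
  map_zero (P.map f).hom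

lemma res_smul {X Y : Cᵒᵖ} (f : X ⟶ Y) (r : R.obj X) (x : P.obj X) :
    res P f (r • x) = (R.map f r) • res P f x :=
  P.map_smul f r x

lemma res_sum {X Y : Cᵒᵖ} (f : X ⟶ Y) {ι : Type*} (s : Finset ι) (x : ι → P.obj X) :
    res P f (∑ i ∈ s, x i) = ∑ i ∈ s, res P f (x i) :=
  map_sum (P.map f).hom x s

lemma res_comp {X Y Z : Cᵒᵖ} (f : X ⟶ Y) (g : Y ⟶ Z) (x : P.obj X) :
    res P (f ≫ g) x = res P g (res P f x) :=
  P.map_comp_apply f g x

end

variable (M N : PresheafOfModules.{u} (R ⋙ forget₂ _ RingCat))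

lemma res_tmul {X Y : Cᵒᵖ} (f : X ⟶ Y) (m : M.obj X) (n : N.obj X) :
    res (M ⊗ N) f (m ⊗ₜ[R.obj X] n) = (res M f m) ⊗ₜ[R.obj Y] (res N f n) := rfl

variable {M} {M' : PresheafOfModules.{u} (R ⋙ forget₂ _ RingCat)} (φ : M ⟶ M')

lemma whiskerRight_app_tmul {X : Cᵒᵖ} (m : M.obj X) (n : N.obj X) :
    (φ ▷ N).app X (m ⊗ₜ[R.obj X] n) = (φ.app X m) ⊗ₜ[R.obj X] n := rfl

theorem isLocallySurjective_whiskerRight
    [Presheaf.IsLocallySurjective J ((PresheafOfModules.toPresheaf _).map φ)] :
    Presheaf.IsLocallySurjective J ((PresheafOfModules.toPresheaf _).map (φ ▷ N)) where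
  imageSieve_mem {U} z := by
    change (M'.obj (op U)) ⊗[R.obj (op U)] (N.obj (op U)) at z
    induction z using TensorProduct.induction_on with
    | zero =>
      refine J.superset_covering ?_ (J.top_mem U)
      intro V f _
      exact ⟨0, (map_zero _).trans (map_zero _).symm⟩
    | tmul m' n =>
      refine J.superset_covering ?_
        (Presheaf.imageSieve_mem J ((PresheafOfModules.toPresheaf _).map φ) (U := op U) m')
      rintro V f ⟨t, ht⟩
      refine ⟨(t : M.obj (op V)) ⊗ₜ[R.obj (op V)] (res N f.op n), ?_⟩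
      change (φ ▷ N).app (op V) ((t : M.obj (op V)) ⊗ₜ[R.obj (op V)] (res N f.op n)) =
        res (M' ⊗ N) f.op (m' ⊗ₜ[R.obj (op U)] n)
      rw [whiskerRight_app_tmul, res_tmul]
      congr 1
    | add x y hx hy =>
      refine J.superset_covering ?_ (J.intersection_covering hx hy)
      rintro V f ⟨⟨t₁, ht₁⟩, ⟨t₂, ht₂⟩⟩
      refine ⟨t₁ + t₂, ?_⟩
      rw [map_add, ht₁, ht₂]
      exact (map_add _ _ _).symm

lemma iInf_mem_of_finite {X : C} {ι : Type*} [Finite ι] (S : ι → Sieve X)
    (h : ∀ i, S i ∈ J X) : (⨅ i, S i) ∈ J X := by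
  induction ι using Finite.induction_empty_option with
  | of_equiv e ih =>
    rw [← e.iInf_comp]
    exact ih _ (fun i => h _)
  | h_empty =>
    rw [iInf_of_empty]
    exact J.top_mem X
  | h_option ih =>
    rw [iInf_option]
    exact J.intersection_covering (h none) (ih _ (fun i => h _))

def interSieve {X : C} {ι : Type*} (S : ι → Sieve X) : Sieve X where
  arrows _ f := ∀ i, S i f
  downward_closed hf g i := (S i).downward_closed (hf i) g

lemma interSieve_mem {X : C} {ι : Type*} [Finite ι] (S : ι → Sieve X)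
    (h : ∀ i, S i ∈ J X) : interSieve S ∈ J X := by
  have : interSieve S = ⨅ i, S i := by
    ext Y f
    simp only [iInf, Sieve.sInf_apply, Set.mem_range, forall_exists_index]
    constructor
    · rintro hf _ i rfl
      exact hf i
    · intro hf i
      exact hf _ i rfl
  rw [this]
  exact iInf_mem_of_finite J S h

noncomputable def zeroSieve (P : PresheafOfModules.{u} (R ⋙ forget₂ _ RingCat)) {X : Cᵒᵖ}
    (z : P.obj X) : Sieve X.unop where
  arrows _ f := res P f.op z = 0
  downward_closed {Y W} f hf g := by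
    rw [op_comp, res_comp, hf, res_zero]

lemma naturality_res {X Y : Cᵒᵖ} (f : X ⟶ Y) (x : M.obj X) :
    φ.app Y (res M f x) = res M' f (φ.app X x) :=
  PresheafOfModules.naturality_apply φ f x

theorem zeroSieve_mem_of_whiskerRight_eq_zero
    [Presheaf.IsLocallyInjective J ((PresheafOfModules.toPresheaf _).map φ)]
    [Presheaf.IsLocallySurjective J ((PresheafOfModules.toPresheaf _).map φ)]
    {X : Cᵒᵖ} (z : (M.obj X) ⊗[R.obj X] (N.obj X))
    (hz : (φ ▷ N).app X z = 0) :
    zeroSieve (M ⊗ N) z ∈ J X.unop := by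
  obtain ⟨s, p, n, rfl⟩ := TensorProduct.exists_sum_tmul_eq z
  have hz' : ∑ k, (φ.app X).hom (p k) ⊗ₜ[R.obj X] n k = 0 := by
    have e := map_sum ((φ ▷ N).app X).hom (fun k => p k ⊗ₜ[R.obj X] n k) Finset.univ
    exact e.symm.trans hz
  obtain ⟨e, q, κ, a, b, y, h1, h2, h3⟩ := exists_vanishing_data (φ.app X).hom p n hz'
  let S₁ : Sieve X.unop := interSieve
    (fun l => Presheaf.imageSieve ((PresheafOfModules.toPresheaf _).map φ) (U := X.unop) (q l))
  have hS₁ : S₁ ∈ J X.unop := interSieve_mem J _ (fun l =>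
    Presheaf.imageSieve_mem J ((PresheafOfModules.toPresheaf _).map φ) (U := X) (q l))
  refine J.transitive hS₁ _ ?_
  intro Y f hf
  have hf' : ∀ l, ∃ t : M.obj (op Y), φ.app (op Y) t = res M' f.op (q l) := by
    intro l
    exact hf l
  choose m hm using hf'
  let w : Fin κ → M.obj (op Y) := fun j =>
    ∑ k, (R.map f.op (a k j)) • res M f.op (p k) + ∑ l, (R.map f.op (b l j)) • m l
  have hw : ∀ j, φ.app (op Y) (w j) = 0 := by
    intro j
    simp only [w, map_add, map_sum, map_smul, hm, naturality_res]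
    have := congrArg (res M' f.op) (h3 j)
    rw [res_add, res_sum, res_sum, res_zero] at this
    rw [← this]
    congr 1
    · refine Finset.sum_congr rfl (fun k _ => ?_)
      rw [res_smul]
    · refine Finset.sum_congr rfl (fun l _ => ?_)
      rw [res_smul]
  let T : Sieve Y := interSieve (fun j => zeroSieve M (X := op Y) (w j))
  have hT : T ∈ J Y := by
    refine interSieve_mem J _ (fun j => ?_)
    have h0 : ((PresheafOfModules.toPresheaf _).map φ).app (op Y) (w j) =
        ((PresheafOfModules.toPresheaf _).map φ).app (op Y) 0 :=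
      (hw j).trans (map_zero _).symm
    refine J.superset_covering ?_
      (Presheaf.equalizerSieve_mem J ((PresheafOfModules.toPresheaf _).map φ) _ _ h0)
    intro W g hg
    exact hg.trans (map_zero _)
  refine J.superset_covering ?_ hT
  intro W g hg
  change res (M ⊗ N) (g ≫ f).op (∑ k, p k ⊗ₜ[R.obj X] n k) = 0
  rw [op_comp, res_comp, res_sum]
  have e1 : ∑ k, res (M ⊗ N) f.op (p k ⊗ₜ[R.obj X] n k) =
      ∑ j, (w j) ⊗ₜ[R.obj (op Y)] (res N f.op (y j)) := by
    simp only [res_tmul]
    refine sum_tmul_eq_of_data (fun k => res M f.op (p k)) (fun k => res N f.op (n k))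
      (fun k j => R.map f.op (a k j)) (fun l j => R.map f.op (b l j))
      (fun j => res N f.op (y j)) m ?_ ?_
    · intro k
      rw [h1 k, res_sum]
      refine Finset.sum_congr rfl (fun j _ => ?_)
      rw [res_smul]
    · intro l
      have := congrArg (res N f.op) (h2 l)
      rw [res_sum, res_zero] at this
      rw [← this]
      refine Finset.sum_congr rfl (fun j _ => ?_)
      rw [res_smul]
  rw [e1]
  refine (res_sum (M ⊗ N) g.op Finset.univ
    (fun j => (w j) ⊗ₜ[R.obj (op Y)] (res N f.op (y j)))).trans ?_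
  refine Finset.sum_eq_zero (fun j _ => ?_)
  have hgj : res M g.op (w j) = 0 := hg j
  rw [res_tmul, hgj, zero_tmul]
  rfl

theorem isLocallyInjective_whiskerRight
    [Presheaf.IsLocallyInjective J ((PresheafOfModules.toPresheaf _).map φ)]
    [Presheaf.IsLocallySurjective J ((PresheafOfModules.toPresheaf _).map φ)] :
    Presheaf.IsLocallyInjective J ((PresheafOfModules.toPresheaf _).map (φ ▷ N)) where
  equalizerSieve_mem {X} x y h := by
    change (M.obj X) ⊗[R.obj X] (N.obj X) at x y
    have hz : (φ ▷ N).app X (x - y) = 0 := by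
      have e := map_sub ((φ ▷ N).app X).hom x y
      exact e.trans (sub_eq_zero.mpr h)
    refine J.superset_covering ?_ (zeroSieve_mem_of_whiskerRight_eq_zero J N φ (x - y) hz)
    intro Y f hf
    have hf' : res (M ⊗ N) f.op (x - y) = 0 := hf
    have e := res_sub (M ⊗ N) f.op x y
    exact sub_eq_zero.mp (e.symm.trans hf')

end Groth.Agent.Lib.Helper42.TensorLoc
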