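import Groth.Prelude.Def_ModSite
import Groth.Agent.Lib.Helper42.TensorLoc
import Mathlib.CategoryTheory.Sites.LocallyBijective

set_option autoImplicit false

namespace Groth.Agent.Lib.Helper42.TensorSheaf

universe u
open CategoryTheory MonoidalCategory Limits Opposite ModSite
open Groth.Agent.Lib.Helper42.TensorLoc

variable {C : Type u} [SmallCategory C] {J : GrothendieckTopology C} (O : Sheaf J CommRingCat.{u})

abbrev PMod : Type (u + 1) :=
  PresheafOfModules.{u} (O.obj ⋙ forget₂ CommRingCat.{u} RingCat.{u})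

noncomputable def shf : PMod O ⥤ Mod O := sheafify O

noncomputable def fgt : Mod O ⥤ PMod O := SheafOfModules.forget (ringSh O)

noncomputable def adjS : shf O ⊣ fgt O :=
  PresheafOfModules.sheafificationAdjunction (𝟙 (ringSh O).obj)

variable {O}

def W {P Q : PMod O} (ψ : P ⟶ Q) : Prop := IsIso ((shf O).map ψ)

lemma W_iff {P Q : PMod O} (ψ : P ⟶ Q) :
    W ψ ↔ Presheaf.IsLocallyInjective J ((PresheafOfModules.toPresheaf _).map ψ) ∧
      Presheaf.IsLocallySurjective J ((PresheafOfModules.toPresheaf _).map ψ) := by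
  unfold W
  rw [← isIso_iff_of_reflects_iso _ (SheafOfModules.toSheaf.{u} (ringSh O))]
  change IsIso ((presheafToSheaf J AddCommGrpCat).map ((PresheafOfModules.toPresheaf _).map ψ)) ↔ _
  rw [← GrothendieckTopology.W_iff, GrothendieckTopology.W_iff_isLocallyBijective]

lemma W_of_isIso {P Q : PMod O} (ψ : P ⟶ Q) [IsIso ψ] : W ψ := by
  unfold W
  infer_instance

lemma W_comp {P Q T : PMod O} (ψ : P ⟶ Q) (χ : Q ⟶ T) (h1 : W ψ) (h2 : W χ) : W (ψ ≫ χ) := by
  unfold W at *
  rw [Functor.map_comp]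
  infer_instance

lemma W_whiskerRight {P Q : PMod O} (ψ : P ⟶ Q) (h : W ψ) (N : PMod O) : W (ψ ▷ N) := by
  rw [W_iff] at h ⊢
  obtain ⟨h1, h2⟩ := h
  exact ⟨isLocallyInjective_whiskerRight J N ψ, isLocallySurjective_whiskerRight J N ψ⟩

lemma W_whiskerLeft {P Q : PMod O} (ψ : P ⟶ Q) (h : W ψ) (N : PMod O) : W (N ◁ ψ) := by
  have e : N ◁ ψ = (β_ N P).hom ≫ ψ ▷ N ≫ (β_ N Q).inv := by
    rw [← Category.assoc, ← BraidedCategory.braiding_naturality_right, Category.assoc,
      Iso.hom_inv_id, Category.comp_id]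
  rw [e]
  exact W_comp _ _ (W_of_isIso _) (W_comp _ _ (W_whiskerRight ψ h N) (W_of_isIso _))

lemma W_tensorHom {P Q P' Q' : PMod O} (ψ : P ⟶ Q) (χ : P' ⟶ Q') (h1 : W ψ) (h2 : W χ) :
    W (ψ ⊗ₘ χ) := by
  rw [tensorHom_def]
  exact W_comp _ _ (W_whiskerRight ψ h1 _) (W_whiskerLeft χ h2 _)

lemma W_unit (P : PMod O) : W ((adjS O).unit.app P) := by
  rw [W_iff]
  exact ⟨inferInstanceAs (Presheaf.IsLocallyInjective J (CategoryTheory.toSheafify J P.presheaf)),
    inferInstanceAs (Presheaf.IsLocallySurjective J (CategoryTheory.toSheafify J P.presheaf))⟩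

end Groth.Agent.Lib.Helper42.TensorSheaf
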