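import Mathlib.CategoryTheory.Abelian.RightDerived
import Mathlib.Algebra.Homology.ShortComplex.PreservesHomology
import Mathlib.Algebra.Homology.ShortComplex.ExactFunctor
import Mathlib.Algebra.Homology.QuasiIso
import Mathlib.CategoryTheory.Preadditive.Injective.Preserves

set_option autoImplicit false

namespace Groth.Agent.Lib.Helper42.RDerComm

open CategoryTheory Limits

universe v₁ v₂ v₃ v₄ u₁ u₂ u₃ u₄

section MapIso

variable {C : Type u₁} [Category.{v₁} C] [Abelian C] [HasInjectiveResolutions C]
  {D : Type u₂} [Category.{v₂} D] [Abelian D]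

noncomputable def mapIso {F G : C ⥤ D} [F.Additive] [G.Additive] (e : F ≅ G) (n : ℕ) :
    F.rightDerived n ≅ G.rightDerived n where
  hom := NatTrans.rightDerived e.hom n
  inv := NatTrans.rightDerived e.inv n
  hom_inv_id := by rw [← NatTrans.rightDerived_comp, e.hom_inv_id, NatTrans.rightDerived_id]
  inv_hom_id := by rw [← NatTrans.rightDerived_comp, e.inv_hom_id, NatTrans.rightDerived_id]

end MapIso

section Homology

variable {D : Type u₂} [Category.{v₂} D] [Abelian D] {E : Type u₃} [Category.{v₃} E] [Abelian E]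
  (G : D ⥤ E) [G.Additive] [G.PreservesHomology]

noncomputable def hIso (K : CochainComplex D ℕ) (n : ℕ) :
    (HomologicalComplex.homologyFunctor E _ n).obj ((G.mapHomologicalComplex _).obj K) ≅
      G.obj ((HomologicalComplex.homologyFunctor D _ n).obj K) :=
  (K.sc n).mapHomologyIso G

lemma hIso_hom_naturality {K L : CochainComplex D ℕ} (φ : K ⟶ L) (n : ℕ) :
    (HomologicalComplex.homologyFunctor E _ n).map ((G.mapHomologicalComplex _).map φ) ≫
        (hIso G L n).hom =
      (hIso G K n).hom ≫ G.map ((HomologicalComplex.homologyFunctor D _ n).map φ) :=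
  ShortComplex.mapHomologyIso_hom_naturality
    ((HomologicalComplex.shortComplexFunctor D _ n).map φ) G

end Homology

section Post

variable {C : Type u₁} [Category.{v₁} C] [Abelian C] [HasInjectiveResolutions C]
  {D : Type u₂} [Category.{v₂} D] [Abelian D] {E : Type u₃} [Category.{v₃} E] [Abelian E]
  (F : C ⥤ D) [F.Additive] (G : D ⥤ E) [G.Additive] [G.PreservesHomology]

noncomputable def postObjIso {X : C} (I : InjectiveResolution X) (n : ℕ) :
    ((F ⋙ G).rightDerived n).obj X ≅ G.obj ((F.rightDerived n).obj X) :=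
  I.isoRightDerivedObj (F ⋙ G) n ≪≫
    (HomologicalComplex.homologyFunctor E _ n).mapIso
      ((Functor.mapHomologicalComplexCompIso (Iso.refl (F ⋙ G)) (ComplexShape.up ℕ)).symm.app
        I.cocomplex) ≪≫
    hIso G ((F.mapHomologicalComplex _).obj I.cocomplex) n ≪≫
    G.mapIso (I.isoRightDerivedObj F n).symm

lemma postObjIso_naturality {X Y : C} (f : X ⟶ Y) (I : InjectiveResolution X)
    (J : InjectiveResolution Y) (φ : I.cocomplex ⟶ J.cocomplex)
    (comm : I.ι.f 0 ≫ φ.f 0 = f ≫ J.ι.f 0) (n : ℕ) :
    ((F ⋙ G).rightDerived n).map f ≫ (postObjIso F G J n).hom =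
      (postObjIso F G I n).hom ≫ G.map ((F.rightDerived n).map f) := by
  have h1 := InjectiveResolution.isoRightDerivedObj_hom_naturality f I J φ comm (F ⋙ G) n
  have h2 := InjectiveResolution.isoRightDerivedObj_inv_naturality f I J φ comm F n
  have h3 := hIso_hom_naturality G ((F.mapHomologicalComplex _).map φ) n
  have h4 := (Functor.mapHomologicalComplexCompIso (Iso.refl (F ⋙ G))
    (ComplexShape.up ℕ)).inv.naturality φ
  dsimp only [postObjIso, Iso.trans_hom, Functor.mapIso_hom, Iso.symm_hom, Iso.app_hom]
  rw [reassoc_of% h1]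
  simp only [Category.assoc]
  rw [← Functor.map_comp_assoc, h4]
  dsimp only [Functor.comp_map]
  rw [Functor.map_comp_assoc, reassoc_of% h3, ← G.map_comp, ← G.map_comp]
  congr 3
  exact congrArg G.map h2.symm

noncomputable def postCompIso (n : ℕ) : (F ⋙ G).rightDerived n ≅ F.rightDerived n ⋙ G :=
  NatIso.ofComponents (fun X => postObjIso F G (injectiveResolution X) n)
    (fun {X Y} f => postObjIso_naturality F G f _ _
      (InjectiveResolution.desc f (injectiveResolution Y) (injectiveResolution X))
      (InjectiveResolution.desc_commutes_zero f _ _) n)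

end Post

section Pre

variable {B : Type u₄} [Category.{v₄} B] [Abelian B] [HasInjectiveResolutions B]
  {C : Type u₁} [Category.{v₁} C] [Abelian C] [HasInjectiveResolutions C]
  {D : Type u₂} [Category.{v₂} D] [Abelian D]
  (G : B ⥤ C) [G.Additive] [G.PreservesHomology] [G.PreservesInjectiveObjects]
  (F : C ⥤ D) [F.Additive]

@[reducible] noncomputable def mapInjRes {Z : B} (I : InjectiveResolution Z) : InjectiveResolution (G.obj Z) where
  cocomplex := (G.mapHomologicalComplex _).obj I.cocomplex
  injective n := Functor.PreservesInjectiveObjects.injective_obj (I.injective n)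
  ι := (HomologicalComplex.singleMapHomologicalComplex G (ComplexShape.up ℕ) 0).inv.app Z ≫
    (G.mapHomologicalComplex _).map I.ι
  quasiIso := inferInstance

omit [HasInjectiveResolutions B] [HasInjectiveResolutions C] in
lemma mapInjRes_comm {X Y : B} (f : X ⟶ Y) (I : InjectiveResolution X)
    (J : InjectiveResolution Y) (φ : I.cocomplex ⟶ J.cocomplex)
    (w : I.ι ≫ φ = (CochainComplex.single₀ B).map f ≫ J.ι) :
    (mapInjRes G I).ι ≫ (G.mapHomologicalComplex _).map φ =
      (CochainComplex.single₀ C).map (G.map f) ≫ (mapInjRes G J).ι := by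
  have h := (HomologicalComplex.singleMapHomologicalComplex G (ComplexShape.up ℕ) 0).inv.naturality f
  dsimp only [mapInjRes]
  rw [Category.assoc, ← Functor.map_comp, w, Functor.map_comp]
  exact ((reassoc_of% h) _).symm

noncomputable def preObjIso {X : B} (I : InjectiveResolution X) (n : ℕ) :
    ((G ⋙ F).rightDerived n).obj X ≅ (F.rightDerived n).obj (G.obj X) :=
  I.isoRightDerivedObj (G ⋙ F) n ≪≫
    (HomologicalComplex.homologyFunctor D _ n).mapIso
      ((Functor.mapHomologicalComplexCompIso (Iso.refl (G ⋙ F)) (ComplexShape.up ℕ)).symm.app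
        I.cocomplex) ≪≫
    ((mapInjRes G I).isoRightDerivedObj F n).symm

lemma preObjIso_naturality {X Y : B} (f : X ⟶ Y) (I : InjectiveResolution X)
    (J : InjectiveResolution Y) (φ : I.cocomplex ⟶ J.cocomplex)
    (w : I.ι ≫ φ = (CochainComplex.single₀ B).map f ≫ J.ι) (n : ℕ) :
    ((G ⋙ F).rightDerived n).map f ≫ (preObjIso G F J n).hom =
      (preObjIso G F I n).hom ≫ (F.rightDerived n).map (G.map f) := by
  have comm : I.ι.f 0 ≫ φ.f 0 = f ≫ J.ι.f 0 :=
    (HomologicalComplex.congr_hom w 0).trans (by simp)
  have comm' : (mapInjRes G I).ι.f 0 ≫ ((G.mapHomologicalComplex _).map φ).f 0 =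
      G.map f ≫ (mapInjRes G J).ι.f 0 :=
    (HomologicalComplex.congr_hom (mapInjRes_comm G f I J φ w) 0).trans (by simp)
  have h1 := InjectiveResolution.isoRightDerivedObj_hom_naturality f I J φ comm (G ⋙ F) n
  have h2 := InjectiveResolution.isoRightDerivedObj_inv_naturality (G.map f) (mapInjRes G I)
    (mapInjRes G J) ((G.mapHomologicalComplex _).map φ) comm' F n
  have h4 := (Functor.mapHomologicalComplexCompIso (Iso.refl (G ⋙ F))
    (ComplexShape.up ℕ)).inv.naturality φ
  dsimp only [preObjIso, Iso.trans_hom, Functor.mapIso_hom, Iso.symm_hom, Iso.app_hom]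
  rw [reassoc_of% h1]
  simp only [Category.assoc]
  rw [h2]
  dsimp only [Functor.comp_map]
  rw [← Functor.map_comp_assoc, h4]
  dsimp only [Functor.comp_map]
  rw [Functor.map_comp_assoc]

noncomputable def preCompIso (n : ℕ) : (G ⋙ F).rightDerived n ≅ G ⋙ F.rightDerived n :=
  NatIso.ofComponents (fun X => preObjIso G F (injectiveResolution X) n)
    (fun {X Y} f => preObjIso_naturality G F f _ _
      (InjectiveResolution.desc f (injectiveResolution Y) (injectiveResolution X))
      (InjectiveResolution.desc_commutes f _ _) n)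

end Pre

end Groth.Agent.Lib.Helper42.RDerComm
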