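import Groth.Agent.Lib.Helper98.KoszulCechLim
import Groth.Agent.Lib.Helper98.CechLC
import Groth.Agent.Lib.Helper92.LocCohDepth
import Groth.Agent.Lib.Helper92.LocCohCompare
import Groth.Agent.Lib.Helper67.Depth2

/-! Vanishing of the colimit Koszul cohomology below `n` in terms of the depths of the
localisations (Noetherian ring, finite module). -/

set_option autoImplicit false
set_option linter.style.haveILetI false
set_option linter.unusedSectionVars false
universe u
open CategoryTheory

namespace Groth.Agent.Lib.Helper42.KoszulDepthLoc

open LocCoh Groth.Agent.Lib.Helper67 Groth.Agent.Lib.Helper92.LC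

variable {R : Type u} [CommRing R] [IsNoetherianRing R]

/-- local cohomology vanishes when `IM = M` -/
theorem subsingleton_of_smul_top_eq_top (I : Ideal R) (M : Type u) [AddCommGroup M] [Module R M]
    [Module.Finite R M] (h : I • (⊤ : Submodule R M) = ⊤) (i : ℕ) :
    Subsingleton ((localCohomology I i).obj (ModuleCat.of R M)) := by
  obtain ⟨r, hr, hrM⟩ := Submodule.exists_sub_one_mem_and_smul_eq_zero_of_fg_of_le_smul I
    (⊤ : Submodule R M) Module.Finite.fg_top (le_of_eq h.symm)
  -- `r - 1 ∈ I` and `r` kills `M`; so `x = 1 - r ∈ I` acts as the identity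
  have hx : (1 - r) ∈ I := by
    have : -(r - 1) ∈ I := I.neg_mem hr
    simpa using this
  apply subsingleton_of_smul_bijective I i (ModuleCat.of R M) (1 - r) hx
  have hid : (fun n : (ModuleCat.of R M) => (1 - r) • n) = id := by
    funext n
    have : r • (n : M) = 0 := hrM n trivial
    change (1 - r) • (n : M) = n
    rw [sub_smul, one_smul, this, sub_zero]
  rw [hid]
  exact Function.bijective_id

/-- vanishing of local cohomology below `n` is `n ≤ depth_I` -/
theorem forall_subsingleton_iff_le_idealDepth (I : Ideal R) (M : Type u) [AddCommGroup M]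
    [Module R M] [Module.Finite R M] (n : ℕ) :
    (∀ i < n, Subsingleton ((localCohomology I i).obj (ModuleCat.of R M))) ↔
      (n : ℕ∞) ≤ idealDepth I M := by
  by_cases hIM : I • (⊤ : Submodule R M) = ⊤
  · rw [idealDepth_eq_top_of_smul_top_eq_top I M hIM]
    simp only [le_top, iff_true]
    intro i _
    exact subsingleton_of_smul_top_eq_top I M hIM i
  · constructor
    · intro h
      obtain ⟨d, hd⟩ := ENat.ne_top_iff_exists.mp (idealDepth_ne_top_of_smul_top_ne_top I M hIM)
      have hnt := nontrivial_of_idealDepth_eq I d M hIM hd.symm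
      rw [← hd]
      by_contra hlt
      have hlt' : d < n := by
        have := not_le.mp hlt
        exact_mod_cast this
      have := h d hlt'
      exact not_subsingleton _ this
    · intro h
      exact subsingleton_of_lt_idealDepth I n M hIM h

/-- vanishing of colimit Koszul cohomology below `n` is a depth condition at the primes
containing the ideal -/
theorem forall_subsingleton_koszulHLim_iff (fs : List R) (M : Type u) [AddCommGroup M]
    [Module R M] [Module.Finite R M] (n : ℕ) :
    (∀ i < n, Subsingleton (CohIII.koszulHLim fs (ModuleCat.of R M) i)) ↔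
      ∀ p : PrimeSpectrum R, Ideal.span {x | x ∈ fs} ≤ p.asIdeal →
        (n : ℕ∞) ≤ depth (Localization.AtPrime p.asIdeal)
          (LocalizedModule p.asIdeal.primeCompl M) := by
  have h1 : (∀ i < n, Subsingleton (CohIII.koszulHLim fs (ModuleCat.of R M) i)) ↔
      ∀ i < n, Subsingleton ((localCohomology (Ideal.span {x | x ∈ fs}) i).obj
        (ModuleCat.of R M)) := by
    refine forall₂_congr fun i _ => ?_
    obtain ⟨e1⟩ := Groth.Agent.Lib.Helper98.KoszulCechLim.koszulHLim_equiv fs (ModuleCat.of R M) i
    obtain ⟨e2⟩ := Helper98.CechLC.main fs i (ModuleCat.of R M)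
    exact (e1.trans e2).toEquiv.subsingleton_congr
  rw [h1, forall_subsingleton_iff_le_idealDepth, idealDepth_eq_iInf_depth_localization]
  simp only [le_iInf_iff]

end Groth.Agent.Lib.Helper42.KoszulDepthLoc
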