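import Groth.Agent.Lib.Helper42.LCAff
import Groth.Agent.Lib.Helper42.KoszulDepthLoc
import Groth.Agent.Lib.Helper67.IterLoc2
import Groth.Agent.Lib.Helper64.CohAffine
import Groth.Agent.Lib.Lead.QCohAff4

/-! On an affine Noetherian scheme: vanishing of `H^i_Z(X, F)` below `n` for coherent `F` is the
condition `depth F_x ≥ n` at the points of `Z`. -/

set_option autoImplicit false
set_option linter.style.haveILetI false
set_option linter.unusedSectionVars false
universe u
open AlgebraicGeometry CategoryTheory Opposite TopologicalSpace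

namespace Groth.Agent.Lib.Helper42.AffDepth

open Groth.Agent.Lib.Helper42.LCAff Groth.Agent.Lib.Lead.QCohAff

variable {X : Scheme.{u}} [IsAffine X]

/-- a quasi-compact open of an affine scheme is a finite union of basic opens -/
lemma exists_list (W : X.Opens) (hW : IsCompact (W : Set X)) :
    ∃ fs : List Γ(X, ⊤), W = UF (X := X) fs := by
  obtain ⟨s, hs, hU⟩ :=
    (isCompact_and_isOpen_iff_finite_and_eq_biUnion_basicOpen (X := X) (U := (W : Set X))).1
      ⟨hW, W.isOpen⟩
  refine ⟨hs.toFinset.toList, ?_⟩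
  apply Opens.ext
  rw [hU]
  ext x
  simp only [Set.mem_iUnion, SetLike.mem_coe, Opens.coe_iSup, exists_prop]
  constructor
  · rintro ⟨f, hf, hx⟩
    have hf' : f ∈ hs.toFinset.toList := by simpa using hf
    obtain ⟨i, rfl⟩ := List.get_of_mem hf'
    exact ⟨i, hx⟩
  · rintro ⟨i, hx⟩
    refine ⟨hs.toFinset.toList.get i, ?_, hx⟩
    have h1 : hs.toFinset.toList.get i ∈ hs.toFinset.toList := List.get_mem _ i
    rw [Finset.mem_toList, Set.Finite.mem_toFinset] at h1
    exact h1

/-- the prime of a point of an affine scheme -/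
noncomputable abbrev pr (x : X) : PrimeSpectrum Γ(X, ⊤) :=
  (isAffineOpen_top X).primeIdealOf ⟨x, trivial⟩

lemma span_le_pr_iff (fs : List Γ(X, ⊤)) (x : X) :
    Ideal.span {a | a ∈ fs} ≤ (pr x).asIdeal ↔ x ∉ UF (X := X) fs := by
  rw [Ideal.span_le]
  constructor
  · intro h hx
    rw [Opens.mem_iSup] at hx
    obtain ⟨i, hi⟩ := hx
    exact (mem_basicOpen_iff_notMem_primeIdealOf (isAffineOpen_top X) x trivial _).1 hi
      (h (List.get_mem fs i))
  · intro h a ha
    by_contra hcon
    apply h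
    obtain ⟨i, rfl⟩ := List.get_of_mem ha
    rw [Opens.mem_iSup]
    exact ⟨i, (mem_basicOpen_iff_notMem_primeIdealOf (isAffineOpen_top X) x trivial _).2 hcon⟩

lemma exists_pr_eq (p : PrimeSpectrum Γ(X, ⊤)) : ∃ x : X, pr x = p := by
  refine ⟨(isAffineOpen_top X).fromSpec p, ?_⟩
  apply (isAffineOpen_top X).fromSpec.isOpenEmbedding.injective
  exact (isAffineOpen_top X).fromSpec_primeIdealOf ⟨_, trivial⟩

noncomputable section Stalk

variable [IsLocallyNoetherian X] (F : X.Modules) (hF : Coh.IsCoh F)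

include hF in
/-- the depth of the stalk is the depth of the localisation of the module of global sections -/
lemma depth_stalk_eq (x : X) :
    LocCoh.depth (X.presheaf.stalk x) (F.presheaf.stalk x) =
      LocCoh.depth (Localization.AtPrime (pr x).asIdeal)
        (LocalizedModule (pr x).asIdeal.primeCompl Γ(F, ⊤)) := by
  haveI : F.IsQuasicoherent := hF.1
  haveI : IsNoetherianRing Γ(X, ⊤) :=
    IsLocallyNoetherian.component_noetherian ⟨⊤, isAffineOpen_top X⟩
  letI : Algebra Γ(X, ⊤) (X.presheaf.stalk x) :=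
    TopCat.Presheaf.algebra_section_stalk X.presheaf (U := ⊤) ⟨x, trivial⟩
  haveI : IsLocalization.AtPrime (X.presheaf.stalk x) (pr x).asIdeal :=
    (isAffineOpen_top X).isLocalization_stalk ⟨x, trivial⟩
  letI : Module (X.presheaf.stalk x) (StalkOver F ⊤ x trivial) :=
    inferInstanceAs (Module (X.presheaf.stalk x) (F.presheaf.stalk x))
  haveI : IsScalarTower Γ(X, ⊤) (X.presheaf.stalk x) (StalkOver F ⊤ x trivial) :=
    IsScalarTower.of_algebraMap_smul (fun r t => rfl)
  haveI : Module.Finite (X.presheaf.stalk x) (StalkOver F ⊤ x trivial) :=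
    Groth.Agent.Lib.Helper64.FinTypeStalk.finite_stalk F hF.2 x
  haveI := isLocalizedModule_germL F (isAffineOpen_top X) x trivial
  have h := (Groth.Agent.Lib.Helper67.depth_supportDim_eq_of_isLocalizedModule (pr x).asIdeal
    (X.presheaf.stalk x) (Localization.AtPrime (pr x).asIdeal)
    (germL F ⊤ x trivial)
    (LocalizedModule.mkLinearMap (pr x).asIdeal.primeCompl Γ(F, ⊤))).1
  exact h

include hF in
/-- **Depth and local cohomology on an affine Noetherian scheme.** -/
theorem main (W : X.Opens) (n : ℕ) :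
    (∀ i < n, Subsingleton (LocCohZ.HZM X F i W)) ↔
      ∀ x : X, x ∉ W →
        (n : ℕ∞) ≤ LocCoh.depth (X.presheaf.stalk x) (F.presheaf.stalk x) := by
  haveI : F.IsQuasicoherent := hF.1
  haveI : IsNoetherianRing Γ(X, ⊤) :=
    IsLocallyNoetherian.component_noetherian ⟨⊤, isAffineOpen_top X⟩
  haveI : NoetherianSpace X := noetherianSpace_of_isAffine
  obtain ⟨fs, rfl⟩ := exists_list W (NoetherianSpace.isCompact _)
  haveI : Module.Finite Γ(X, ⊤) Γ(F, ⊤) :=
    Groth.Agent.Lib.Helper64.CohAffine.finite_sections F hF.2 (isAffineOpen_top X)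
  have h1 : (∀ i < n, Subsingleton (LocCohZ.HZM X F i (UF (X := X) fs))) ↔
      ∀ i < n, Subsingleton (CohIII.koszulHLim fs
        (ModuleCat.of Γ(X, ⊤) (F.val.obj (op ⊤))) i) := by
    refine forall₂_congr fun i _ => ?_
    obtain ⟨e⟩ := koszulHLim_equiv_HZM F fs i
    exact e.symm.toEquiv.subsingleton_congr
  rw [h1]
  have h2 := Groth.Agent.Lib.Helper42.KoszulDepthLoc.forall_subsingleton_koszulHLim_iff
    (R := Γ(X, ⊤)) fs Γ(F, ⊤) n
  refine h2.trans ?_
  constructor
  · intro h x hx
    rw [depth_stalk_eq F hF x]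
    exact h (pr x) ((span_le_pr_iff fs x).2 hx)
  · intro h p hp
    obtain ⟨x, rfl⟩ := exists_pr_eq p
    rw [← depth_stalk_eq F hF x]
    exact h x ((span_le_pr_iff fs x).1 hp)

end Stalk

end Groth.Agent.Lib.Helper42.AffDepth
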