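import Groth.Agent.Lib.Helper42.AffDepth

/-! Depth and local cohomology over an affine open subscheme of a locally Noetherian scheme. -/

set_option autoImplicit false
set_option linter.style.haveILetI false
set_option linter.unusedSectionVars false
universe u
open AlgebraicGeometry CategoryTheory Opposite TopologicalSpace

namespace Groth.Agent.Lib.Helper42.AffDepth2

open Groth.Agent.Lib.Helper42.LCAff Groth.Agent.Lib.Helper42.AffDepth
  Groth.Agent.Lib.Lead.QCohAff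

section Prime

variable {Y : Scheme.{u}} [IsAffine Y] (F : Y.Modules) [F.IsQuasicoherent]
  [IsNoetherianRing Γ(Y, ⊤)] [Module.Finite Γ(Y, ⊤) Γ(F, ⊤)]

/-- prime form of the affine criterion -/
theorem main_prime (fs : List Γ(Y, ⊤)) (n : ℕ) :
    (∀ i < n, Subsingleton (LocCohZ.HZM Y F i (UF (X := Y) fs))) ↔
      ∀ p : PrimeSpectrum Γ(Y, ⊤), Ideal.span {a | a ∈ fs} ≤ p.asIdeal →
        (n : ℕ∞) ≤ LocCoh.depth (Localization.AtPrime p.asIdeal)
          (LocalizedModule p.asIdeal.primeCompl Γ(F, ⊤)) := by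
  have h1 : (∀ i < n, Subsingleton (LocCohZ.HZM Y F i (UF (X := Y) fs))) ↔
      ∀ i < n, Subsingleton (CohIII.koszulHLim fs
        (ModuleCat.of Γ(Y, ⊤) (F.val.obj (op ⊤))) i) := by
    refine forall₂_congr fun i _ => ?_
    obtain ⟨e⟩ := koszulHLim_equiv_HZM F fs i
    exact e.symm.toEquiv.subsingleton_congr
  rw [h1]
  exact Groth.Agent.Lib.Helper42.KoszulDepthLoc.forall_subsingleton_koszulHLim_iff
    (R := Γ(Y, ⊤)) fs Γ(F, ⊤) n

end Prime

section Open

variable {X : Scheme.{u}} {U₀ : X.Opens} (hU : IsAffineOpen U₀)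

include hU in
lemma span_le_primeIdealOf_iff (fs : List Γ(X, U₀)) (x : X) (hx : x ∈ U₀) :
    Ideal.span {a | a ∈ fs} ≤ (hU.primeIdealOf ⟨x, hx⟩).asIdeal ↔
      ∀ f ∈ fs, x ∉ X.basicOpen f := by
  rw [Ideal.span_le]
  constructor
  · intro h f hf hxf
    exact (mem_basicOpen_iff_notMem_primeIdealOf hU x hx f).1 hxf (h hf)
  · intro h a ha
    by_contra hcon
    exact h a ha ((mem_basicOpen_iff_notMem_primeIdealOf hU x hx a).2 hcon)

include hU in
lemma exists_primeIdealOf_eq (p : PrimeSpectrum Γ(X, U₀)) :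
    ∃ (x : X) (hx : x ∈ U₀), hU.primeIdealOf ⟨x, hx⟩ = p := by
  have hmem : hU.fromSpec p ∈ U₀ := by
    have : hU.fromSpec p ∈ hU.fromSpec.opensRange := ⟨p, rfl⟩
    rwa [hU.opensRange_fromSpec] at this
  refine ⟨hU.fromSpec p, hmem, ?_⟩
  apply hU.fromSpec.isOpenEmbedding.injective
  exact hU.fromSpec_primeIdealOf ⟨_, hmem⟩

noncomputable section OpenStalk

variable [IsLocallyNoetherian X] (F : X.Modules) (hF : Coh.IsCoh F)

include hF hU in
/-- the depth of the stalk is the depth of the localisation of the module of sections over an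
affine open -/
lemma depth_stalk_eq (x : X) (hx : x ∈ U₀) :
    LocCoh.depth (X.presheaf.stalk x) (F.presheaf.stalk x) =
      LocCoh.depth (Localization.AtPrime (hU.primeIdealOf ⟨x, hx⟩).asIdeal)
        (LocalizedModule (hU.primeIdealOf ⟨x, hx⟩).asIdeal.primeCompl Γ(F, U₀)) := by
  haveI : F.IsQuasicoherent := hF.1
  haveI : IsNoetherianRing Γ(X, U₀) :=
    IsLocallyNoetherian.component_noetherian ⟨U₀, hU⟩
  letI : Algebra Γ(X, U₀) (X.presheaf.stalk x) :=
    TopCat.Presheaf.algebra_section_stalk X.presheaf (U := U₀) ⟨x, hx⟩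
  haveI : IsLocalization.AtPrime (X.presheaf.stalk x) (hU.primeIdealOf ⟨x, hx⟩).asIdeal :=
    hU.isLocalization_stalk ⟨x, hx⟩
  letI : Module (X.presheaf.stalk x) (StalkOver F U₀ x hx) :=
    inferInstanceAs (Module (X.presheaf.stalk x) (F.presheaf.stalk x))
  haveI : IsScalarTower Γ(X, U₀) (X.presheaf.stalk x) (StalkOver F U₀ x hx) :=
    IsScalarTower.of_algebraMap_smul (fun r t => rfl)
  haveI : Module.Finite (X.presheaf.stalk x) (StalkOver F U₀ x hx) :=
    Groth.Agent.Lib.Helper64.FinTypeStalk.finite_stalk F hF.2 x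
  haveI := isLocalizedModule_germL F hU x hx
  have h := (Groth.Agent.Lib.Helper67.depth_supportDim_eq_of_isLocalizedModule
    (hU.primeIdealOf ⟨x, hx⟩).asIdeal
    (X.presheaf.stalk x) (Localization.AtPrime (hU.primeIdealOf ⟨x, hx⟩).asIdeal)
    (germL F U₀ x hx)
    (LocalizedModule.mkLinearMap (hU.primeIdealOf ⟨x, hx⟩).asIdeal.primeCompl Γ(F, U₀))).1
  exact h

end OpenStalk

end Open

section Congr

variable {A : Type u} [CommRing A] (T : Type u) [AddCommGroup T]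

lemma finite_congr (i1 i2 : Module A T) (h : i1 = i2) (hf : @Module.Finite A T _ _ i2) :
    @Module.Finite A T _ _ i1 := by
  subst h
  exact hf

/-- the depth of the localisation at `p`, as a function of the module structure -/
noncomputable def depthOf (p : Ideal A) [p.IsPrime] (i : Module A T) : ℕ∞ := by
  letI := i
  exact LocCoh.depth (Localization.AtPrime p) (LocalizedModule p.primeCompl T)

lemma depthOf_congr (p : Ideal A) [p.IsPrime] (i1 i2 : Module A T) (h : i1 = i2) :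
    depthOf T p i1 = depthOf T p i2 := by
  subst h
  rfl

end Congr

section Restrict

variable {X : Scheme.{u}} (V : X.Opens) (M : X.Modules)

lemma module_eq : (show Module Γ(X, V.ι ''ᵁ ⊤) Γ(M, V.ι ''ᵁ ⊤) from
      (inferInstance : Module Γ((V : Scheme.{u}), ⊤) Γ(M.restrict V.ι, ⊤))) =
    (inferInstance : Module Γ(X, V.ι ''ᵁ ⊤) Γ(M, V.ι ''ᵁ ⊤)) := by
  apply Module.ext'
  intro r s
  change ((V.ι.appIso ⊤).inv r) • s = r • s
  rw [Scheme.Opens.ι_appIso]
  rfl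

lemma mem_basicOpen_iff (f : Γ((V : Scheme.{u}), ⊤)) (x' : (V : Scheme.{u})) :
    x' ∈ (V : Scheme.{u}).basicOpen f ↔ V.ι x' ∈ X.basicOpen (U := V.ι ''ᵁ ⊤) f := by
  have h := Scheme.image_basicOpen V.ι f
  rw [Scheme.Opens.ι_appIso] at h
  change V.ι ''ᵁ (V : Scheme.{u}).basicOpen f = X.basicOpen (U := V.ι ''ᵁ ⊤) f at h
  rw [← h]
  exact (V.ι.apply_mem_image_iff).symm

end Restrict

section Key

variable {X : Scheme.{u}} [IsLocallyNoetherian X] (M : X.Modules) (hM : Coh.IsCoh M)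
  (V : X.Opens) (hV : IsAffineOpen V) (U : X.Opens)

include hM hV in
/-- depth criterion over an affine open subscheme -/
theorem key (n : ℕ) :
    (∀ i < n, Subsingleton (LocCohZ.HZM (V : Scheme.{u}) (M.restrict V.ι) i (V.ι ⁻¹ᵁ U))) ↔
      ∀ x : X, x ∈ V → x ∉ U →
        (n : ℕ∞) ≤ LocCoh.depth (X.presheaf.stalk x) (M.presheaf.stalk x) := by
  haveI : IsAffine (V : Scheme.{u}) := hV
  have hV₀ : IsAffineOpen (V.ι ''ᵁ ⊤) := by rw [Scheme.Opens.ι_image_top]; exact hV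
  haveI : M.IsQuasicoherent := hM.1
  haveI hN : IsNoetherianRing Γ((V : Scheme.{u}), ⊤) :=
    (IsLocallyNoetherian.component_noetherian ⟨V.ι ''ᵁ ⊤, hV₀⟩ :
      IsNoetherianRing Γ(X, V.ι ''ᵁ ⊤))
  haveI : NoetherianSpace (V : Scheme.{u}) := noetherianSpace_of_isAffine
  haveI : Module.Finite Γ((V : Scheme.{u}), ⊤) Γ(M.restrict V.ι, ⊤) :=
    finite_congr _ _ _ (module_eq V M)
      (Groth.Agent.Lib.Helper64.CohAffine.finite_sections M hM.2 hV₀)
  obtain ⟨fs, hfs⟩ := exists_list (X := (V : Scheme.{u})) (V.ι ⁻¹ᵁ U)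
    (NoetherianSpace.isCompact _)
  rw [hfs, main_prime (M.restrict V.ι) fs n]
  let fs₀ : List Γ(X, V.ι ''ᵁ ⊤) := fs
  have hmem : ∀ (x : X) (hx : x ∈ V),
      x ∈ U ↔ ∃ f ∈ fs₀, x ∈ X.basicOpen (U := V.ι ''ᵁ ⊤) f := by
    intro x hx
    let x' : (V : Scheme.{u}) := ⟨x, hx⟩
    have h1 : x' ∈ UF (X := (V : Scheme.{u})) fs ↔ x ∈ U := by
      rw [← hfs]
      exact Iff.rfl
    constructor
    · intro hxU
      obtain ⟨i, hi⟩ := Opens.mem_iSup.1 (h1.2 hxU)
      exact ⟨fs.get i, List.get_mem fs i, (mem_basicOpen_iff V _ _).1 hi⟩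
    · rintro ⟨f, hf, hxf⟩
      obtain ⟨i, rfl⟩ := List.get_of_mem hf
      exact h1.1 (Opens.mem_iSup.2 ⟨i, (mem_basicOpen_iff V _ x').2 hxf⟩)
  constructor
  · intro h x hxV hxU
    have hx₀ : x ∈ V.ι ''ᵁ ⊤ := by rw [Scheme.Opens.ι_image_top]; exact hxV
    have hsp : Ideal.span {a | a ∈ fs₀} ≤ (hV₀.primeIdealOf ⟨x, hx₀⟩).asIdeal := by
      refine (span_le_primeIdealOf_iff hV₀ fs₀ x hx₀).2 ?_
      intro f hf hxf
      exact hxU ((hmem x hxV).2 ⟨f, hf, hxf⟩)
    have h2 := h (hV₀.primeIdealOf ⟨x, hx₀⟩) hsp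
    rw [depth_stalk_eq hV₀ M hM x hx₀]
    have h3 := depthOf_congr Γ(M, V.ι ''ᵁ ⊤) (hV₀.primeIdealOf ⟨x, hx₀⟩).asIdeal _ _
      (module_eq V M)
    exact h2.trans (le_of_eq h3)
  · intro h p hp
    obtain ⟨x, hx₀, hpx⟩ := exists_primeIdealOf_eq hV₀ p
    have hxV : x ∈ V := by rw [← Scheme.Opens.ι_image_top V]; exact hx₀
    have hp' : Ideal.span {a | a ∈ fs₀} ≤ (hV₀.primeIdealOf ⟨x, hx₀⟩).asIdeal := by
      rw [hpx]
      exact hp
    have hxU : x ∉ U := by
      intro hxU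
      obtain ⟨f, hf, hxf⟩ := (hmem x hxV).1 hxU
      exact (span_le_primeIdealOf_iff hV₀ fs₀ x hx₀).1 hp' f hf hxf
    have h2 := h x hxV hxU
    rw [depth_stalk_eq hV₀ M hM x hx₀] at h2
    have h3 := depthOf_congr Γ(M, V.ι ''ᵁ ⊤) (hV₀.primeIdealOf ⟨x, hx₀⟩).asIdeal _ _
      (module_eq V M)
    have h4 := h2.trans (le_of_eq h3.symm)
    have hp2 : (hV₀.primeIdealOf ⟨x, hx₀⟩ : PrimeSpectrum Γ((V : Scheme.{u}), ⊤)) = p := hpx
    rw [← hp2]
    exact h4

end Key

end Groth.Agent.Lib.Helper42.AffDepth2
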