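import Mathlib.RingTheory.MvPolynomial.Homogeneous
import Mathlib.LinearAlgebra.Dimension.Constructions
import Mathlib.LinearAlgebra.Dimension.Finite
import Mathlib.LinearAlgebra.FiniteDimensional.Defs
import Mathlib.LinearAlgebra.Dimension.Free

set_option autoImplicit false
universe u

namespace Groth.Agent.Lib.Helper42

open MvPolynomial

noncomputable def degEquiv (n : ℕ) : {d : Fin 2 →₀ ℕ // d.degree = n} ≃ Fin (n + 1) where
  toFun d := ⟨d.1 0, by
    have h := d.2
    rw [Finsupp.degree_eq_sum, Fin.sum_univ_two] at h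
    omega⟩
  invFun i := ⟨Finsupp.single 0 (i : ℕ) + Finsupp.single 1 (n - i), by
    rw [Finsupp.degree_eq_sum, Fin.sum_univ_two]
    simp
    omega⟩
  left_inv d := by
    have h := d.2
    rw [Finsupp.degree_eq_sum, Fin.sum_univ_two] at h
    apply Subtype.ext
    ext j
    fin_cases j
    · simp
    · simp
      omega
  right_inv i := by
    apply Fin.ext
    simp

noncomputable def homogEquiv (K : Type u) [Field K] (n : ℕ) :
    homogeneousSubmodule (Fin 2) K n ≃ₗ[K] (Fin (n + 1) →₀ K) :=
  (LinearEquiv.ofEq _ _ (homogeneousSubmodule_eq_finsupp_supported (Fin 2) K n)) ≪≫ₗ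
    (AddMonoidAlgebra.supportedEquivFinsupp (R := K) (S := K) {d : Fin 2 →₀ ℕ | d.degree = n}) ≪≫ₗ
    (Finsupp.domLCongr (degEquiv n))

theorem finite_homog (K : Type u) [Field K] (n : ℕ) :
    Module.Finite K (homogeneousSubmodule (Fin 2) K n) :=
  Module.Finite.equiv (homogEquiv K n).symm

theorem finrank_homog (K : Type u) [Field K] (n : ℕ) :
    Module.finrank K (homogeneousSubmodule (Fin 2) K n) = n + 1 := by
  rw [(homogEquiv K n).finrank_eq]
  simp

noncomputable def mulHom (K : Type u) [Field K] (a b : ℕ) :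
    homogeneousSubmodule (Fin 2) K a →ₗ[K] homogeneousSubmodule (Fin 2) K b →ₗ[K]
      homogeneousSubmodule (Fin 2) K (a + b) :=
  LinearMap.mk₂ K (fun g h => ⟨g.1 * h.1, IsHomogeneous.mul g.2 h.2⟩)
    (fun g g' h => Subtype.ext (add_mul _ _ _))
    (fun c g h => Subtype.ext (by simp))
    (fun g h h' => Subtype.ext (mul_add _ _ _))
    (fun c g h => Subtype.ext (by simp))

@[simp] theorem mulHom_apply_coe (K : Type u) [Field K] (a b : ℕ)
    (g : homogeneousSubmodule (Fin 2) K a) (h : homogeneousSubmodule (Fin 2) K b) :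
    ((mulHom K a b g h : homogeneousSubmodule (Fin 2) K (a + b)) : MvPolynomial (Fin 2) K) =
      g.1 * h.1 := rfl

end Groth.Agent.Lib.Helper42
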