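import Groth.Agent.Lib.Helper78.ModStalkExact
import Mathlib

set_option autoImplicit false
set_option linter.style.haveILetI false
set_option linter.unusedSectionVars false
universe u
open CategoryTheory CategoryTheory.Limits AlgebraicGeometry Opposite TopologicalSpace

namespace Groth.Agent.Lib.Helper42.CechRes1

open Groth.Agent.Lib.Helper78.ModStalkExact

variable {X : Scheme.{u}}

instance : (toSh X).Faithful :=
  inferInstanceAs (SheafOfModules.toSheaf.{u} X.ringCatSheaf).Faithful

lemma stalk_map_germ {M N : X.Modules} (φ : M ⟶ N) (x : X) (W : X.Opens) (hx : x ∈ W)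
    (s : Γ(M, W)) :
    (TopCat.Presheaf.stalkFunctor Ab x).map φ.mapPresheaf (M.presheaf.germ W x hx s) =
      N.presheaf.germ W x hx (φ.app W s) :=
  TopCat.Presheaf.stalkFunctor_map_germ_apply W x hx φ.mapPresheaf s

lemma app_map_apply {M N : X.Modules} (φ : M ⟶ N) {A B : X.Opens} (i : A ⟶ B) (s : Γ(M, B)) :
    φ.app A (M.presheaf.map i.op s) = N.presheaf.map i.op (φ.app B s) := by
  have := ConcreteCategory.congr_hom (φ.mapPresheaf.naturality i.op) s
  simpa using this

/-- A short complex of `O_X`-modules is exact as soon as it is exact on sections over the members of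
a basis of opens. -/
theorem exact_of_basis (S : ShortComplex X.Modules) (B : Set X.Opens)
    (hB : ∀ (x : X) (W : X.Opens), x ∈ W → ∃ V ∈ B, x ∈ V ∧ V ≤ W)
    (h : ∀ V ∈ B, ∀ z : Γ(S.X₂, V), S.g.app V z = 0 → ∃ y : Γ(S.X₁, V), S.f.app V y = z) :
    S.Exact := by
  apply (ShortComplex.exact_map_iff_of_faithful S (toSh X)).mp
  rw [TopCat.Sheaf.exact_iff_stalkFunctor_map_exact]
  intro x
  rw [ShortComplex.ab_exact_iff]
  intro z hz
  change S.X₂.presheaf.stalk x at z
  change (TopCat.Presheaf.stalkFunctor Ab x).map S.g.mapPresheaf z = 0 at hz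
  change ∃ y : S.X₁.presheaf.stalk x, (TopCat.Presheaf.stalkFunctor Ab x).map S.f.mapPresheaf y = z
  obtain ⟨W, hxW, s, rfl⟩ := TopCat.Presheaf.exists_germ_eq _ z
  rw [stalk_map_germ] at hz
  have hz' : S.X₃.presheaf.germ W x hxW (S.g.app W s) = S.X₃.presheaf.germ W x hxW 0 := by
    rw [hz, map_zero]
    rfl
  obtain ⟨W', hxW', i1, i2, hW'⟩ := TopCat.Presheaf.germ_eq _ x hxW hxW _ _ hz'
  rw [map_zero] at hW'
  obtain ⟨V, hV, hxV, hVW⟩ := hB x W' hxW'
  have hs : S.g.app V (S.X₂.presheaf.map (homOfLE hVW ≫ i1).op s) = 0 := by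
    rw [app_map_apply, op_comp, Functor.map_comp, ConcreteCategory.comp_apply, hW', map_zero]
  obtain ⟨y, hy⟩ := h V hV _ hs
  refine ⟨S.X₁.presheaf.germ V x hxV y, ?_⟩
  rw [stalk_map_germ, hy]
  exact TopCat.Presheaf.germ_res_apply _ (homOfLE hVW ≫ i1) x hxV s

/-- A morphism of `O_X`-modules is a monomorphism as soon as it is injective on sections over the
members of a basis of opens. -/
theorem mono_of_basis {M N : X.Modules} (φ : M ⟶ N) (B : Set X.Opens)
    (hB : ∀ (x : X) (W : X.Opens), x ∈ W → ∃ V ∈ B, x ∈ V ∧ V ≤ W)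
    (h : ∀ V ∈ B, ∀ z : Γ(M, V), φ.app V z = 0 → z = 0) : Mono φ := by
  let S : ShortComplex X.Modules := ShortComplex.mk (0 : M ⟶ M) φ zero_comp
  have hS : S.Exact := exact_of_basis S B hB (fun V hV z hz => ⟨0, by
    rw [h V hV z hz]; exact map_zero _⟩)
  exact hS.mono_g rfl

end Groth.Agent.Lib.Helper42.CechRes1
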