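import Groth.Prelude.Def_CechOX
import Groth.Agent.Lib.Helper98.CechGen
import Groth.Agent.Lib.Helper4.CechFunctor
import Mathlib

set_option autoImplicit false
set_option linter.style.haveILetI false
set_option linter.unusedSectionVars false
universe u
open CategoryTheory CategoryTheory.Limits AlgebraicGeometry Opposite TopologicalSpace

namespace Groth.Agent.Lib.Helper42.CechRes2

open CechOX Groth.Agent.Lib.Helper98.CechGen Groth.Agent.Lib.Helper98.AugAb

variable {X : Scheme.{u}}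

/-- evaluation at `V` -/
noncomputable def evV (V : X.Opens) : TopCat.Presheaf Ab.{u} X ⥤ Ab.{u} :=
  (evaluation (Opens ↥X)ᵒᵖ Ab.{u}).obj (op V)

instance (V : X.Opens) : PreservesLimitsOfSize.{u, u} (evV V) :=
  inferInstanceAs (PreservesLimitsOfSize.{u, u} ((evaluation (Opens ↥X)ᵒᵖ Ab.{u}).obj (op V)))

/-- sections over `V` -/
noncomputable def secF (V : X.Opens) : X.Modules ⥤ Ab.{u} :=
  Scheme.Modules.toPresheaf X ⋙ evV V

instance (V : X.Opens) : PreservesLimitsOfSize.{u, u} (secF V) := by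
  unfold secF
  exact comp_preservesLimits _ _

instance (V : X.Opens) : (secF V).Additive :=
  Functor.additive_of_preserves_binary_products _

lemma secF_map (V : X.Opens) {M N : X.Modules} (φ : M ⟶ N) : (secF V).map φ = φ.app V := rfl

variable {ι : Type u} (𝒰 : ι → X.Opens) (F : X.Modules) (V : X.Opens)

/-- the presheaf `W ↦ F(W ∩ V)` -/
noncomputable abbrev PV : (X.Opens)ᵒᵖ ⥤ Ab.{u} := pushRestrFam.flip.obj F ⋙ secF V

lemma interFun_obj_eq (W : X.Opens) : (interFun W).obj V = W ⊓ V := by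
  change W.ι ''ᵁ (W.ι ⁻¹ᵁ V) = W ⊓ V
  rw [Scheme.Hom.image_preimage_eq_opensRange_inf, Scheme.Opens.opensRange_ι]

lemma interFun_le (W : X.Opens) : (interFun W).obj V ≤ V := by
  rw [interFun_obj_eq]; exact inf_le_right

/-- the cone `F(V) → F(W ∩ V)` -/
noncomputable def aV (W : X.Opens) : F.presheaf.obj (op V) ⟶ (PV F V).obj (op W) :=
  F.presheaf.map (homOfLE (interFun_le V W)).op

lemma aV_comp {W W' : X.Opens} (i : op W ⟶ op W') :
    aV F V W ≫ (PV F V).map i = aV F V W' := by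
  change F.presheaf.map _ ≫ F.presheaf.map _ = F.presheaf.map _
  rw [← Functor.map_comp]
  rfl

/-- the iso between the Čech complex of `PV` and sections of the sheaf Čech complex -/
noncomputable def secIso : (cechComplexFunctor 𝒰).obj (PV F V) ≅
    ((secF V).mapHomologicalComplex _).obj ((cechSh 𝒰).obj F) :=
  Groth.Agent.Lib.Helper4.CechFunctor.cochainIso (secF V) 𝒰 (pushRestrFam.flip.obj F)

lemma bijective_map_of_le (P : (X.Opens)ᵒᵖ ⥤ Ab.{u}) {A B : X.Opens} (i : A ⟶ B) (h : B ≤ A) :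
    Function.Bijective (P.map i.op) := by
  have : IsIso i := ⟨homOfLE h, Subsingleton.elim _ _, Subsingleton.elim _ _⟩
  exact ConcreteCategory.bijective_of_isIso (P.map i.op)

theorem aug_acyclic (j : ι) (hV : V ≤ 𝒰 j) (k : ℕ) :
    IsZero ((CochainComplex.augment ((cechComplexFunctor 𝒰).obj (PV F V)) (εC 𝒰 (aV F V))
      (εC_d 𝒰 (aV F V) (fun i => aV_comp F V i))).homology k) := by
  apply isZero_aug 𝒰 (aV F V) (fun i => aV_comp F V i) j
  · intro n x
    have h : (interFun (∏ᶜ (𝒰 ∘ x))).obj V ≤ (interFun (∏ᶜ (Ur 𝒰 (𝒰 j) ∘ x))).obj V := by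
      rw [interFun_obj_eq, interFun_obj_eq]
      refine le_inf ?_ inf_le_right
      exact leOfHom (Pi.lift (fun k => homOfLE (le_inf
        (inf_le_left.trans (leOfHom (Pi.π (𝒰 ∘ x) k))) (inf_le_right.trans hV))))
    exact bijective_map_of_le F.presheaf _ h
  · have h : V ≤ (interFun (𝒰 j)).obj V := by
      rw [interFun_obj_eq]
      exact le_inf hV le_rfl
    exact bijective_map_of_le F.presheaf _ h

lemma secIso_inv_f_zero_π (x : Fin 1 → ι) :
    (secIso 𝒰 F V).inv.f 0 ≫ Pi.π (fun x : Fin 1 → ι => (PV F V).obj (op (∏ᶜ (𝒰 ∘ x)))) x =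
      (secF V).map (Pi.π (fun x : Fin 1 → ι => (pushRestr (∏ᶜ (𝒰 ∘ x))).obj F) x) := by
  have h0 : (secIso 𝒰 F V).inv.f 0 =
      piComparison (secF V) (fun x : Fin 1 → ι => (pushRestr (∏ᶜ (𝒰 ∘ x))).obj F) := by
    unfold secIso Groth.Agent.Lib.Helper4.CechFunctor.cochainIso
    rw [Iso.trans_inv, HomologicalComplex.comp_f]
    refine (Category.id_comp _).trans ?_
    rfl
  rw [h0]
  exact piComparison_comp_π _ _ _

lemma aug_compat :
    (secF V).map (cechShAug 𝒰 F) ≫ (secIso 𝒰 F V).inv.f 0 = εC 𝒰 (aV F V) := by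
  refine Pi.hom_ext (f := fun x : Fin 1 → ι => (PV F V).obj (op (∏ᶜ (𝒰 ∘ x)))) _ _ (fun x => ?_)
  refine (Category.assoc _ _ _).trans ?_
  refine (congrArg (fun t => (secF V).map (cechShAug 𝒰 F) ≫ t) (secIso_inv_f_zero_π 𝒰 F V x)).trans ?_
  refine ((secF V).map_comp _ _).symm.trans ?_
  have h : εC 𝒰 (aV F V) ≫ Pi.π (fun x : Fin 1 → ι => (PV F V).obj (op (∏ᶜ (𝒰 ∘ x)))) x =
      aV F V (∏ᶜ (𝒰 ∘ x)) := Pi.lift_π _ _
  refine Eq.trans ?_ h.symm
  have h2 : cechShAug 𝒰 F ≫ Pi.π (fun x : Fin 1 → ι => (pushRestr (∏ᶜ (𝒰 ∘ x))).obj F) x =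
      (Scheme.Modules.restrictAdjunction (∏ᶜ (𝒰 ∘ x)).ι).unit.app F := Pi.lift_π _ _
  rw [h2]
  rfl

section Conv

open CochainComplex

variable (K : CochainComplex AddCommGrpCat.{u} ℕ) {A : AddCommGrpCat.{u}} (ε : A ⟶ K.X 0)
  (w : ε ≫ K.d 0 1 = 0)

lemma inj_of_isZero (h : IsZero ((augment K ε w).homology 0)) (x : A) (hx : ε x = 0) : x = 0 := by
  rw [← HomologicalComplex.exactAt_iff_isZero_homology,
    HomologicalComplex.exactAt_iff' _ 0 0 1 (by simp) (by simp), ShortComplex.ab_exact_iff] at h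
  obtain ⟨y, hy⟩ := h x hx
  have h0 : (augment K ε w).d 0 0 = 0 := (augment K ε w).shape 0 0 (by simp)
  have hy' : (augment K ε w).d 0 0 y = x := hy
  rw [h0] at hy'
  exact hy'.symm

lemma exact_zero_of_isZero (h : IsZero ((augment K ε w).homology 1)) (z : K.X 0)
    (hz : K.d 0 1 z = 0) : ∃ a, ε a = z := by
  rw [← HomologicalComplex.exactAt_iff_isZero_homology,
    HomologicalComplex.exactAt_iff' _ 0 1 2 (by simp) (by simp), ShortComplex.ab_exact_iff] at h
  exact h z hz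

lemma exact_succ_of_isZero (n : ℕ) (h : IsZero ((augment K ε w).homology (n + 2)))
    (z : K.X (n + 1)) (hz : K.d (n + 1) (n + 2) z = 0) : ∃ y : K.X n, K.d n (n + 1) y = z := by
  rw [← HomologicalComplex.exactAt_iff_isZero_homology,
    HomologicalComplex.exactAt_iff' _ (n + 1) (n + 2) (n + 3) (by simp) (by simp),
    ShortComplex.ab_exact_iff] at h
  exact h z hz

end Conv

section Main

variable (j : ι) (hV : V ≤ 𝒰 j)

include hV

theorem aug_injective (z : Γ(F, V)) (hz : (cechShAug 𝒰 F).app V z = 0) : z = 0 := by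
  apply inj_of_isZero _ _ _ (aug_acyclic 𝒰 F V j hV 0) z
  rw [← aug_compat]
  change (secIso 𝒰 F V).inv.f 0 ((cechShAug 𝒰 F).app V z) = 0
  rw [hz]
  exact map_zero ((secIso 𝒰 F V).inv.f 0).hom

theorem aug_exact (z : Γ(((cechSh 𝒰).obj F).X 0, V))
    (hz : (((cechSh 𝒰).obj F).d 0 1).app V z = 0) :
    ∃ y : Γ(F, V), (cechShAug 𝒰 F).app V y = z := by
  let e := secIso 𝒰 F V
  have h1 : ((cechComplexFunctor 𝒰).obj (PV F V)).d 0 1 (e.inv.f 0 z) = 0 := by
    have := ConcreteCategory.congr_hom (e.inv.comm 0 1) z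
    rw [ConcreteCategory.comp_apply, ConcreteCategory.comp_apply] at this
    rw [this]
    change e.inv.f 1 ((((cechSh 𝒰).obj F).d 0 1).app V z) = 0
    rw [hz]
    exact map_zero (e.inv.f _).hom
  obtain ⟨a, ha⟩ := exact_zero_of_isZero _ _ _ (aug_acyclic 𝒰 F V j hV 1) _ h1
  refine ⟨a, ?_⟩
  rw [← aug_compat] at ha
  have ha' : e.inv.f 0 ((cechShAug 𝒰 F).app V a) = e.inv.f 0 z := ha
  have hinj : Function.Injective (e.inv.f 0) :=
    (ConcreteCategory.bijective_of_isIso (e.inv.f 0)).1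
  exact hinj ha'

theorem succ_exact (p : ℕ) (z : Γ(((cechSh 𝒰).obj F).X (p + 1), V))
    (hz : (((cechSh 𝒰).obj F).d (p + 1) (p + 2)).app V z = 0) :
    ∃ y : Γ(((cechSh 𝒰).obj F).X p, V), (((cechSh 𝒰).obj F).d p (p + 1)).app V y = z := by
  let e := secIso 𝒰 F V
  have h1 : ((cechComplexFunctor 𝒰).obj (PV F V)).d (p + 1) (p + 2) (e.inv.f (p + 1) z) = 0 := by
    have := ConcreteCategory.congr_hom (e.inv.comm (p + 1) (p + 2)) z
    rw [ConcreteCategory.comp_apply, ConcreteCategory.comp_apply] at this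
    rw [this]
    change e.inv.f (p + 2) ((((cechSh 𝒰).obj F).d (p + 1) (p + 2)).app V z) = 0
    rw [hz]
    exact map_zero (e.inv.f _).hom
  obtain ⟨y', hy'⟩ := exact_succ_of_isZero _ _ _ p (aug_acyclic 𝒰 F V j hV (p + 2)) _ h1
  refine ⟨e.hom.f p y', ?_⟩
  have h2 := ConcreteCategory.congr_hom (e.hom.comm p (p + 1)) y'
  rw [ConcreteCategory.comp_apply, ConcreteCategory.comp_apply] at h2
  have h3 : (((cechSh 𝒰).obj F).d p (p + 1)).app V (e.hom.f p y') =
      e.hom.f (p + 1) (((cechComplexFunctor 𝒰).obj (PV F V)).d p (p + 1) y') := h2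
  rw [h3, hy']
  have h5 : e.inv.f (p + 1) ≫ e.hom.f (p + 1) = 𝟙 _ := by
    rw [← HomologicalComplex.comp_f, e.inv_hom_id, HomologicalComplex.id_f]
  have h4 := ConcreteCategory.congr_hom h5 z
  rw [ConcreteCategory.comp_apply] at h4
  exact h4

end Main

end Groth.Agent.Lib.Helper42.CechRes2
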