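import Groth.Agent.Lib.Helper42.CechRes1
import Groth.Agent.Lib.Helper42.CechRes2

set_option autoImplicit false
set_option linter.style.haveILetI false
set_option linter.unusedSectionVars false
universe u
open CategoryTheory CategoryTheory.Limits AlgebraicGeometry Opposite TopologicalSpace

namespace Groth.Agent.Lib.Helper42.CechRes3

open CechOX Groth.Agent.Lib.Helper98.CechGen Groth.Agent.Lib.Helper98.AugAb
open Groth.Agent.Lib.Helper42.CechRes1 Groth.Agent.Lib.Helper42.CechRes2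

variable {X : Scheme.{u}} {ι : Type u} (𝒰 : ι → X.Opens) (F : X.Modules)

section Typed

variable (V : X.Opens)

/-- typed components of `secIso` -/
noncomputable def eHom (n : ℕ) : ((cechComplexFunctor 𝒰).obj (PV F V)).X n ⟶
    (secF V).obj (((cechSh 𝒰).obj F).X n) := (secIso 𝒰 F V).hom.f n

/-- typed components of `secIso` -/
noncomputable def eInv (n : ℕ) : (secF V).obj (((cechSh 𝒰).obj F).X n) ⟶
    ((cechComplexFunctor 𝒰).obj (PV F V)).X n := (secIso 𝒰 F V).inv.f n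

lemma eInv_eHom (n : ℕ) : eInv 𝒰 F V n ≫ eHom 𝒰 F V n = 𝟙 _ := by
  have h5 : (secIso 𝒰 F V).inv.f n ≫ (secIso 𝒰 F V).hom.f n = 𝟙 _ := by
    rw [← HomologicalComplex.comp_f, (secIso 𝒰 F V).inv_hom_id, HomologicalComplex.id_f]
  exact h5

lemma eHom_d (n m : ℕ) : eHom 𝒰 F V n ≫ (secF V).map (((cechSh 𝒰).obj F).d n m) =
    ((cechComplexFunctor 𝒰).obj (PV F V)).d n m ≫ eHom 𝒰 F V m :=
  (secIso 𝒰 F V).hom.comm n m

/-- typed augmentation -/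
noncomputable def eps : (secF V).obj F ⟶ ((cechComplexFunctor 𝒰).obj (PV F V)).X 0 :=
  εC 𝒰 (aV F V)

lemma eps_d : eps 𝒰 F V ≫ ((cechComplexFunctor 𝒰).obj (PV F V)).d 0 1 = 0 :=
  εC_d 𝒰 (aV F V) (fun i => aV_comp F V i)

lemma aug_compat' : (secF V).map (cechShAug 𝒰 F) ≫ eInv 𝒰 F V 0 = eps 𝒰 F V :=
  aug_compat 𝒰 F V

end Typed

lemma aug_d : cechShAug 𝒰 F ≫ ((cechSh 𝒰).obj F).d 0 1 = 0 := by
  apply Scheme.Modules.hom_ext
  intro V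
  have h1 : (secF V).map (cechShAug 𝒰 F) = eps 𝒰 F V ≫ eHom 𝒰 F V 0 := by
    rw [← aug_compat' 𝒰 F V, Category.assoc, eInv_eHom, Category.comp_id]
  change (secF V).map (cechShAug 𝒰 F) ≫ (secF V).map (((cechSh 𝒰).obj F).d 0 1) = 0
  rw [h1, Category.assoc, eHom_d, ← Category.assoc, eps_d, zero_comp]

/-- the basis of opens contained in a member of the covering -/
def B : Set X.Opens := {V | ∃ j, V ≤ 𝒰 j}

lemma hB (h𝒰 : ⨆ i, 𝒰 i = ⊤) (x : X) (W : X.Opens) (hx : x ∈ W) :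
    ∃ V ∈ B 𝒰, x ∈ V ∧ V ≤ W := by
  have hx' : x ∈ ⨆ i, 𝒰 i := by rw [h𝒰]; trivial
  obtain ⟨j, hj⟩ := Opens.mem_iSup.mp hx'
  exact ⟨W ⊓ 𝒰 j, ⟨j, inf_le_right⟩, ⟨hx, hj⟩, inf_le_left⟩

theorem main (h𝒰 : ⨆ i, 𝒰 i = ⊤) :
    Mono (CechOX.cechShAug 𝒰 F) ∧
    CechOX.cechShAug 𝒰 F ≫ ((CechOX.cechSh 𝒰).obj F).d 0 1 = 0 ∧
    (∀ (G : X.Modules) (g : G ⟶ ((CechOX.cechSh 𝒰).obj F).X 0),
      g ≫ ((CechOX.cechSh 𝒰).obj F).d 0 1 = 0 →
      ∃! g' : G ⟶ F, g' ≫ CechOX.cechShAug 𝒰 F = g) ∧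
    ∀ p : ℕ, IsZero (((CechOX.cechSh 𝒰).obj F).homology (p + 1)) := by
  have hm : Mono (cechShAug 𝒰 F) :=
    mono_of_basis _ (B 𝒰) (hB 𝒰 h𝒰) (fun V ⟨j, hj⟩ z hz => aug_injective 𝒰 F V j hj z hz)
  refine ⟨hm, aug_d 𝒰 F, ?_, ?_⟩
  · intro G g hg
    let S : ShortComplex X.Modules := ShortComplex.mk _ _ (aug_d 𝒰 F)
    have hS : S.Exact :=
      exact_of_basis S (B 𝒰) (hB 𝒰 h𝒰) (fun V ⟨j, hj⟩ z hz => aug_exact 𝒰 F V j hj z hz)
    haveI : Mono S.f := hm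
    refine ⟨hS.lift g hg, hS.lift_f g hg, ?_⟩
    intro g' hg'
    rw [← cancel_mono (cechShAug 𝒰 F), hg']
    exact (hS.lift_f g hg).symm
  · intro p
    rw [← HomologicalComplex.exactAt_iff_isZero_homology,
      HomologicalComplex.exactAt_iff' _ p (p + 1) (p + 2) (by simp) (by simp)]
    exact exact_of_basis _ (B 𝒰) (hB 𝒰 h𝒰)
      (fun V ⟨j, hj⟩ z hz => succ_exact 𝒰 F V j hj p z hz)

end Groth.Agent.Lib.Helper42.CechRes3
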