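import Groth.Agent.Lib.Helper42.LocCohZ1
import Groth.Agent.Lib.Helper26.ClosedEmbSh

/-! For a closed subset `Z = X ∖ U` with inclusion `i`: `i_* ⊣ Γ_Z ⋙ i⁻¹` on abelian sheaves. -/

set_option autoImplicit false
universe u

open CategoryTheory CategoryTheory.Limits TopologicalSpace Opposite

namespace Groth.Agent.Lib.Helper42.ClosedAdj

section abstract

variable {C D : Type*} [Category C] [Category D] {L : C ⥤ D} {R : D ⥤ C} (adj : L ⊣ R)
  (Γ : C ⥤ C) (ι : Γ ⟶ 𝟭 C)
  (ha : ∀ F : C, IsIso (adj.unit.app (Γ.obj F)))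
  (hb : ∀ (G : D) (F : C), Function.Bijective (fun φ : R.obj G ⟶ Γ.obj F => φ ≫ ι.app F))

/-- the lift of a map `R G ⟶ F` through `Γ F` -/
noncomputable def lift {G : D} {F : C} (φ : R.obj G ⟶ F) : R.obj G ⟶ Γ.obj F :=
  (Equiv.ofBijective _ (hb G F)).symm φ

include hb in
lemma lift_ι {G : D} {F : C} (φ : R.obj G ⟶ F) : lift Γ ι hb φ ≫ ι.app F = φ :=
  (Equiv.ofBijective _ (hb G F)).apply_symm_apply φ

lemma lift_comp_ι {G : D} {F : C} (χ : R.obj G ⟶ Γ.obj F) : lift Γ ι hb (χ ≫ ι.app F) = χ :=
  (Equiv.ofBijective _ (hb G F)).symm_apply_apply χ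

variable [R.Full] [R.Faithful]

/-- the bijection on morphisms -/
noncomputable def homEquiv (G : D) (F : C) : (R.obj G ⟶ F) ≃ (G ⟶ L.obj (Γ.obj F)) where
  toFun φ := R.preimage (lift Γ ι hb φ ≫ adj.unit.app (Γ.obj F))
  invFun ψ := haveI := ha F; R.map ψ ≫ inv (adj.unit.app (Γ.obj F)) ≫ ι.app F
  left_inv φ := by
    haveI := ha F
    simp only [Functor.map_preimage, Category.assoc, IsIso.hom_inv_id_assoc]
    exact lift_ι Γ ι hb φ
  right_inv ψ := by
    haveI := ha F
    apply R.map_injective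
    simp only [Functor.map_preimage]
    rw [← Category.assoc (R.map ψ), lift_comp_ι, Category.assoc, IsIso.inv_hom_id, Category.comp_id]

lemma homEquiv_symm_apply (G : D) (F : C) (ψ : G ⟶ L.obj (Γ.obj F)) :
    haveI := ha F
    (homEquiv adj Γ ι ha hb G F).symm ψ =
      R.map ψ ≫ inv (adj.unit.app (Γ.obj F)) ≫ ι.app F := rfl

/-- a coreflection onto the essential image of a fully faithful right adjoint gives a right adjoint
of that functor -/
noncomputable def coreflAdj : R ⊣ Γ ⋙ L :=
  Adjunction.mkOfHomEquiv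
    { homEquiv := homEquiv adj Γ ι ha hb
      homEquiv_naturality_left_symm := by
        intro G' G F f ψ
        rw [homEquiv_symm_apply, homEquiv_symm_apply, Functor.map_comp, Category.assoc]
      homEquiv_naturality_right := by
        intro G F F' φ g
        haveI := ha F
        haveI := ha F'
        apply (homEquiv adj Γ ι ha hb G F').symm.injective
        rw [Equiv.symm_apply_apply, homEquiv_symm_apply, Functor.map_comp, Category.assoc]
        have h1 : R.map ((Γ ⋙ L).map g) ≫ inv (adj.unit.app (Γ.obj F')) =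
            inv (adj.unit.app (Γ.obj F)) ≫ Γ.map g := by
          rw [IsIso.comp_inv_eq, Category.assoc, IsIso.eq_inv_comp]
          exact (adj.unit.naturality (Γ.map g)).symm
        have h2 : Γ.map g ≫ ι.app F' = ι.app F ≫ g := ι.naturality g
        have h3 : R.map (homEquiv adj Γ ι ha hb G F φ) ≫ inv (adj.unit.app (Γ.obj F)) ≫ ι.app F =
            φ := (homEquiv adj Γ ι ha hb G F).symm_apply_apply φ
        calc φ ≫ g = (R.map (homEquiv adj Γ ι ha hb G F φ) ≫ inv (adj.unit.app (Γ.obj F)) ≫
              ι.app F) ≫ g := by rw [h3]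
          _ = R.map (homEquiv adj Γ ι ha hb G F φ) ≫ inv (adj.unit.app (Γ.obj F)) ≫
              (Γ.map g ≫ ι.app F') := by rw [h2]; simp only [Category.assoc]
          _ = R.map (homEquiv adj Γ ι ha hb G F φ) ≫ (R.map ((Γ ⋙ L).map g) ≫
              inv (adj.unit.app (Γ.obj F'))) ≫ ι.app F' := by rw [h1]; simp only [Category.assoc]
          _ = _ := by simp only [Category.assoc] }

end abstract

section top

open Groth.Agent.Lib.Helper26.ClosedEmbSh

variable {X : TopCat.{u}} (U : Opens X)

lemma range_incl : Set.range (CohCx.incl U) = (U : Set X) := by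
  ext x
  constructor
  · rintro ⟨y, rfl⟩
    exact y.2
  · intro hx
    exact ⟨⟨x, hx⟩, rfl⟩

lemma range_inclCompl : Set.range (CohCx.inclCompl U) = ((U : Set X)ᶜ : Set X) := by
  ext x
  constructor
  · rintro ⟨y, rfl⟩
    exact y.2
  · intro hx
    exact ⟨⟨x, hx⟩, rfl⟩

lemma isClosedEmbedding_inclCompl : Topology.IsClosedEmbedding (CohCx.inclCompl U) :=
  (U.isOpen.isClosed_compl).isClosedEmbedding_subtypeVal

lemma isOpenEmbedding_incl : Topology.IsOpenEmbedding (CohCx.incl U) :=
  U.isOpen.isOpenEmbedding_subtypeVal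

/-- `i_* ⊣ Γ_Z ⋙ i⁻¹` for the inclusion `i` of the closed complement of `U` -/
theorem nonempty_adj :
    Nonempty (CohTop.push (CohCx.inclCompl U) ⊣
      LocCohZ.sectSuppF U ⋙ CohTop.pull (CohCx.inclCompl U)) := by
  have hi := isClosedEmbedding_inclCompl U
  have hj := isOpenEmbedding_incl U
  have hc : Set.range (CohCx.inclCompl U) = (Set.range (CohCx.incl U))ᶜ := by
    rw [range_incl, range_inclCompl]
  haveI := push_full AddCommGrpCat.{u} (i := CohCx.inclCompl U) hi.toIsInducing
  haveI := push_faithful AddCommGrpCat.{u} (i := CohCx.inclCompl U) hi.toIsInducing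
  refine ⟨coreflAdj (TopCat.Sheaf.pullbackPushforwardAdjunction AddCommGrpCat.{u}
    (CohCx.inclCompl U)) (LocCohZ.sectSuppF U) (Groth.Agent.Lib.Helper42.LocCohZ1.ι U) ?_ ?_⟩
  · intro F
    exact isIso_unit_kernel_unit (CohCx.incl U) (CohCx.inclCompl U) hj.toIsInducing hi hc F
  · intro G F
    constructor
    · intro φ φ' h
      have : Mono ((Groth.Agent.Lib.Helper42.LocCohZ1.ι U).app F) :=
        inferInstanceAs (Mono (kernel.ι (C := CohTop.Ab X)
          ((TopCat.Sheaf.pullbackPushforwardAdjunction AddCommGrpCat.{u}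
            (CohCx.incl U)).unit.app F)))
      exact this.right_cancellation _ _ h
    · intro φ
      have h0 : φ ≫ (TopCat.Sheaf.pullbackPushforwardAdjunction AddCommGrpCat.{u}
          (CohCx.incl U)).unit.app F = (0 : (CohTop.push (CohCx.inclCompl U)).obj G ⟶
            (CohTop.push (CohCx.incl U)).obj ((CohTop.pull (CohCx.incl U)).obj F)) :=
        hom_push_push_eq_zero (CohCx.incl U) (CohCx.inclCompl U) hj.isOpen_range
          (by rw [hc]; exact disjoint_compl_left) G _ _
      exact ⟨kernel.lift (C := CohTop.Ab X) _ φ h0, kernel.lift_ι (C := CohTop.Ab X) _ _ _⟩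

end top

end Groth.Agent.Lib.Helper42.ClosedAdj
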