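import Groth.Agent.Lib.Helper89.RFAmp
import Groth.Agent.Lib.Helper89.Brutal
import Groth.Prelude.Def_RDerDelta

/-!
# Vanishing of `Hⁿ(RG K)` for a complex `K` in degrees `≥ d` whose terms have no `RᵖF` for `p < d`

For a Grothendieck abelian category `𝒜`, an additive functor `F : 𝒜 ⥤ ℬ` and a right derived
functor `(RG, α)` of `K(F) ⋙ Qh`: if `K` is a cochain complex with `Kᵐ = 0` for `m < d` and
`RᵖF(Kᵐ) = 0` for `p < d` and all `m`, then `Hⁿ(RG K) = 0` for `n < 2d`.
-/

set_option autoImplicit false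
set_option linter.unusedSectionVars false
set_option linter.style.haveILetI false

universe w w' v v' u u'

open CategoryTheory Category Limits Pretriangulated HomologicalComplex

namespace Groth.Agent.Lib.Helper42.CxAmp

open Groth.Agent.Lib.Helper89

section ses

variable {𝒜 : Type u} [Category.{v} 𝒜] [Abelian 𝒜] (K : CochainComplex 𝒜 ℤ) (a : ℤ)

instance mono_ι : Mono (Brutal.ι K a) := by
  apply HomologicalComplex.mono_of_mono_f
  intro m
  by_cases h : a ≤ m
  · haveI := Brutal.isIso_ι_f K a h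
    infer_instance
  · exact (Brutal.isZero_sigmaGE_X K a h).mono _

/-- the quotient `K / σ_{≥ a} K` -/
noncomputable def quo : CochainComplex 𝒜 ℤ := cokernel (Brutal.ι K a)

/-- the terms of the quotient are cokernels -/
noncomputable def quoXIsoCokernel (m : ℤ) : (quo K a).X m ≅ cokernel ((Brutal.ι K a).f m) :=
  PreservesCokernel.iso (HomologicalComplex.eval 𝒜 (ComplexShape.up ℤ) m) (Brutal.ι K a)

lemma isZero_quo_X {m : ℤ} (h : a ≤ m) : IsZero ((quo K a).X m) := by
  haveI := Brutal.isIso_ι_f K a h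
  exact (isZero_cokernel_of_epi ((Brutal.ι K a).f m)).of_iso (quoXIsoCokernel K a m)

/-- the terms of the quotient in degrees `< a` -/
noncomputable def quoXIso {m : ℤ} (h : ¬ a ≤ m) : (quo K a).X m ≅ K.X m :=
  quoXIsoCokernel K a m ≪≫
    cokernelIsoOfEq ((Brutal.isZero_sigmaGE_X K a h).eq_of_src ((Brutal.ι K a).f m) 0) ≪≫
    cokernelZeroIsoTarget

lemma isZero_quo_X_of_isZero {m : ℤ} (h : IsZero (K.X m)) : IsZero ((quo K a).X m) := by
  by_cases ha : a ≤ m
  · exact isZero_quo_X K a ha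
  · exact h.of_iso (quoXIso K a ha)

/-- the short exact sequence `0 ⟶ σ_{≥ a} K ⟶ K ⟶ K / σ_{≥ a} K ⟶ 0` -/
noncomputable def sc : ShortComplex (CochainComplex 𝒜 ℤ) :=
  ShortComplex.mk (Brutal.ι K a) (cokernel.π (Brutal.ι K a)) (cokernel.condition _)

lemma sc_shortExact : (sc K a).ShortExact where
  exact := ShortComplex.exact_cokernel _
  mono_f := mono_ι K a
  epi_g := by dsimp [sc]; infer_instance

lemma isStrictlyLE_sigmaGE (b : ℤ) (hb : ∀ m, b < m → IsZero (K.X m)) :
    (Brutal.sigmaGE K a).IsStrictlyLE b := by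
  rw [CochainComplex.isStrictlyLE_iff]
  intro m hm
  by_cases h : a ≤ m
  · exact (hb m hm).of_iso (Brutal.sigmaGEXIso K a h)
  · exact Brutal.isZero_sigmaGE_X K a h

end ses

section derived

variable {𝒜 : Type u} [Category.{v} 𝒜] [Abelian 𝒜] [IsGrothendieckAbelian.{v} 𝒜]
  [HasInjectiveResolutions 𝒜]
  {ℬ : Type u'} [Category.{v'} ℬ] [Abelian ℬ] (F : 𝒜 ⥤ ℬ) [F.Additive]
  [HasDerivedCategory.{w} 𝒜] [HasDerivedCategory.{w'} ℬ]
  (RG : DerivedCategory 𝒜 ⥤ DerivedCategory ℬ)
  (α : (F.mapHomotopyCategory (ComplexShape.up ℤ) ⋙ DerivedCategory.Qh) ⟶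
    DerivedCategory.Qh ⋙ RG)
  [RG.IsRightDerivedFunctor α (HomotopyCategory.quasiIso 𝒜 (ComplexShape.up ℤ))]

include α in
/-- left t-exactness on complexes that are strictly bounded below -/
lemma isZero_homology_rg_of_isStrictlyGE (K : CochainComplex 𝒜 ℤ) (a : ℤ) [K.IsStrictlyGE a]
    (i : ℤ) (hi : i < a) :
    IsZero ((DerivedCategory.homologyFunctor ℬ i).obj (RG.obj (DerivedCategory.Q.obj K))) := by
  obtain ⟨L, φ, hφ, hL, hLa⟩ :=
    CochainComplex.Plus.modelCategoryQuillen.exists_quasiIso_injective K a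
  haveI : L.IsKInjective := CochainComplex.isKInjective_of_injective L a
  have hiso : IsIso (α.app ((HomotopyCategory.quotient 𝒜 (ComplexShape.up ℤ)).obj L)) :=
    Groth.Agent.Lib.Helper25.KInjDerived.isIso_unit_homotopyCategory
      (F.mapHomotopyCategory (ComplexShape.up ℤ) ⋙ DerivedCategory.Qh) DerivedCategory.Qh RG α L
  let e1 : DerivedCategory.Q.obj K ≅ DerivedCategory.Q.obj L := asIso (DerivedCategory.Q.map φ)
  let e2 : RG.obj (DerivedCategory.Q.obj L) ≅
      DerivedCategory.Q.obj ((F.mapHomologicalComplex (ComplexShape.up ℤ)).obj L) :=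
    (@asIso _ _ _ _ (α.app ((HomotopyCategory.quotient 𝒜 (ComplexShape.up ℤ)).obj L)) hiso).symm
  refine IsZero.of_iso ?_ ((DerivedCategory.homologyFunctor ℬ i).mapIso (RG.mapIso e1 ≪≫ e2) ≪≫
    (DerivedCategory.homologyFunctorFactors ℬ i).app _)
  have : CochainComplex.IsStrictlyGE
      ((F.mapHomologicalComplex (ComplexShape.up ℤ)).obj L) a := inferInstance
  exact (CochainComplex.exactAt_of_isGE
    ((F.mapHomologicalComplex (ComplexShape.up ℤ)).obj L) a i hi).isZero_homology

include α in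
/-- two out of three along a short exact sequence of complexes -/
lemma isZero_homology_rg_of_shortExact (S : ShortComplex (CochainComplex 𝒜 ℤ))
    (hS : S.ShortExact) (i : ℤ)
    (h₁ : IsZero ((DerivedCategory.homologyFunctor ℬ i).obj
      (RG.obj (DerivedCategory.Q.obj S.X₁))))
    (h₃ : IsZero ((DerivedCategory.homologyFunctor ℬ i).obj
      (RG.obj (DerivedCategory.Q.obj S.X₃)))) :
    IsZero ((DerivedCategory.homologyFunctor ℬ i).obj (RG.obj (DerivedCategory.Q.obj S.X₂))) :=
  RFAmp.isZero_homology_of_distTriang F RG α _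
    (DerivedCategory.triangleOfSES_distinguished hS) i h₁ h₃

include α in
/-- complexes concentrated in a single degree -/
lemma isZero_homology_rg_of_concentrated (S : CochainComplex 𝒜 ℤ) (m : ℤ)
    [S.IsStrictlyGE m] [S.IsStrictlyLE m] (i : ℤ)
    (h : i < m ∨ ∃ p : ℕ, m + p = i ∧ IsZero ((F.rightDerived p).obj (S.X m))) :
    IsZero ((DerivedCategory.homologyFunctor ℬ i).obj (RG.obj (DerivedCategory.Q.obj S))) := by
  obtain ⟨M, ⟨e⟩⟩ := S.exists_iso_single m
  let eX : S.X m ≅ M :=
    (HomologicalComplex.eval 𝒜 (ComplexShape.up ℤ) m).mapIso e ≪≫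
      HomologicalComplex.singleObjXSelf (ComplexShape.up ℤ) m M
  let e' : DerivedCategory.Q.obj S ≅ (DerivedCategory.singleFunctor 𝒜 m).obj M :=
    DerivedCategory.Q.mapIso e ≪≫ ((DerivedCategory.singleFunctorIsoCompQ 𝒜 m).app M).symm
  refine IsZero.of_iso ?_ ((DerivedCategory.homologyFunctor ℬ i).mapIso (RG.mapIso e'))
  apply RFAmp.isZero_homology_rg_single F RG α M m i
  rcases h with h | ⟨p, hp, hz⟩
  · exact Or.inl h
  · exact Or.inr ⟨p, hp, hz.of_iso ((F.rightDerived p).mapIso eX.symm)⟩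

include α in
theorem isZero_homology_rg_bdd (d : ℕ) (n : ℤ) (hn : n < 2 * (d : ℤ)) :
    ∀ (N : ℕ) (b : ℤ) (_ : b - d ≤ N) (L : CochainComplex 𝒜 ℤ)
      (_ : ∀ m : ℤ, m < d ∨ b ≤ m → IsZero (L.X m))
      (_ : ∀ (m : ℤ) (p : ℕ), p < d → IsZero ((F.rightDerived p).obj (L.X m))),
      IsZero ((DerivedCategory.homologyFunctor ℬ n).obj (RG.obj (DerivedCategory.Q.obj L))) := by
  have hdeg : ∀ (b : ℤ) (_ : b ≤ d) (L : CochainComplex 𝒜 ℤ)
      (_ : ∀ m : ℤ, m < d ∨ b ≤ m → IsZero (L.X m)),
      IsZero ((DerivedCategory.homologyFunctor ℬ n).obj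
        (RG.obj (DerivedCategory.Q.obj L))) := by
    intro b hb L hL
    haveI : L.IsStrictlyGE (n + 1) := by
      rw [CochainComplex.isStrictlyGE_iff]
      intro m _
      exact hL m (by omega)
    exact isZero_homology_rg_of_isStrictlyGE F RG α L (n + 1) n (by omega)
  intro N
  induction N with
  | zero =>
    intro b hb L hL _
    exact hdeg b (by omega) L hL
  | succ N ih =>
    intro b hb L hL hP
    by_cases hbd : b ≤ d
    · exact hdeg b hbd L hL
    have ha : (d : ℤ) ≤ b - 1 := by omega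
    apply isZero_homology_rg_of_shortExact F RG α (sc L (b - 1)) (sc_shortExact L (b - 1)) n
    · show IsZero ((DerivedCategory.homologyFunctor ℬ n).obj
        (RG.obj (DerivedCategory.Q.obj (Brutal.sigmaGE L (b - 1)))))
      haveI : (Brutal.sigmaGE L (b - 1)).IsStrictlyLE (b - 1) :=
        isStrictlyLE_sigmaGE L (b - 1) (b - 1) (fun m hm => hL m (Or.inr (by omega)))
      apply isZero_homology_rg_of_concentrated F RG α (Brutal.sigmaGE L (b - 1)) (b - 1) n
      by_cases hnb : n < b - 1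
      · exact Or.inl hnb
      · refine Or.inr ⟨(n - (b - 1)).toNat, ?_, ?_⟩
        · have := Int.toNat_of_nonneg (show 0 ≤ n - (b - 1) by omega)
          omega
        · refine (hP (b - 1) (n - (b - 1)).toNat ?_).of_iso
            ((F.rightDerived _).mapIso (Brutal.sigmaGEXIso L (b - 1) le_rfl))
          have := Int.toNat_of_nonneg (show 0 ≤ n - (b - 1) by omega)
          omega
    · show IsZero ((DerivedCategory.homologyFunctor ℬ n).obj
        (RG.obj (DerivedCategory.Q.obj (quo L (b - 1)))))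
      refine ih (b - 1) (by omega) (quo L (b - 1)) ?_ ?_
      · rintro m (hm | hm)
        · exact isZero_quo_X_of_isZero L (b - 1) (hL m (Or.inl hm))
        · exact isZero_quo_X L (b - 1) hm
      · intro m p hp
        by_cases hm : b - 1 ≤ m
        · exact Functor.map_isZero _ (isZero_quo_X L (b - 1) hm)
        · exact (hP m p hp).of_iso ((F.rightDerived p).mapIso (quoXIso L (b - 1) hm))

include α in
/-- **Vanishing below `2d`.** -/
theorem isZero_homology_rg_of_terms (d : ℕ) (K : CochainComplex 𝒜 ℤ)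
    (hK : ∀ m : ℤ, m < d → IsZero (K.X m))
    (hP : ∀ (m : ℤ) (p : ℕ), p < d → IsZero ((F.rightDerived p).obj (K.X m)))
    (n : ℤ) (hn : n < 2 * (d : ℤ)) :
    IsZero ((DerivedCategory.homologyFunctor ℬ n).obj (RG.obj (DerivedCategory.Q.obj K))) := by
  let a : ℤ := max (n + 1) d
  have ha1 : n + 1 ≤ a := le_max_left _ _
  have ha2 : (d : ℤ) ≤ a := le_max_right _ _
  apply isZero_homology_rg_of_shortExact F RG α (sc K a) (sc_shortExact K a) n
  · show IsZero ((DerivedCategory.homologyFunctor ℬ n).obj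
      (RG.obj (DerivedCategory.Q.obj (Brutal.sigmaGE K a))))
    exact isZero_homology_rg_of_isStrictlyGE F RG α (Brutal.sigmaGE K a) a n (by omega)
  · show IsZero ((DerivedCategory.homologyFunctor ℬ n).obj
      (RG.obj (DerivedCategory.Q.obj (quo K a))))
    refine isZero_homology_rg_bdd F RG α d n hn (a - d).toNat a (Int.self_le_toNat _)
      (quo K a) ?_ ?_
    · rintro m (hm | hm)
      · exact isZero_quo_X_of_isZero K a (hK m hm)
      · exact isZero_quo_X K a hm
    · intro m p hp
      by_cases hm : a ≤ m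
      · exact Functor.map_isZero _ (isZero_quo_X K a hm)
      · exact (hP m p hp).of_iso ((F.rightDerived p).mapIso (quoXIso K a hm))

end derived

end Groth.Agent.Lib.Helper42.CxAmp
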