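import Groth.Agent.Lib.Helper42.CxAmp
import Groth.Agent.Lib.Helper68.EdgeOutLow

/-!
# `Hᴺ(Ψ J) ≅ Ψ(Hᴺ J)` for a bounded below complex of `Ψ`-acyclics with no cohomology below `N`
-/

set_option autoImplicit false
set_option linter.unusedSectionVars false
set_option linter.style.haveILetI false

universe w w' v v' u u'

open CategoryTheory Category Limits Pretriangulated HomologicalComplex

namespace Groth.Agent.Lib.Helper42.CxEdge

open Groth.Agent.Lib.Helper89 Groth.Agent.Lib.Helper68.EdgeOutIso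

section restriction

variable {A : Type u} [Category.{v} A] [Abelian A]

lemma nonempty_restriction_homology_iso (L : CochainComplex A ℤ) (d : ℤ) (i : ℕ) :
    Nonempty ((L.restriction (ComplexShape.embeddingUpIntGE (d - 1))).homology (i + 1) ≅
      L.homology ((d - 1) + ((i + 1 : ℕ) : ℤ))) :=
  ⟨L.restrictionHomologyIso (ComplexShape.embeddingUpIntGE (d - 1)) i (i + 1) (i + 2)
    (by simp) (by simp)
    (i' := (d - 1) + (i : ℤ)) (j' := (d - 1) + ((i + 1 : ℕ) : ℤ))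
    (k' := (d - 1) + ((i + 2 : ℕ) : ℤ)) (by simp) (by simp) (by simp)
    (by simp; omega) (by simp; omega)⟩

end restriction

section comparison

variable {B : Type u} [Category.{v} B] [Abelian B] [HasInjectiveResolutions B]
  {C : Type u'} [Category.{v'} C] [Abelian C] (Ψ : B ⥤ C) [Ψ.Additive] [PreservesFiniteLimits Ψ]

theorem nonempty_homology_iso (J : CochainComplex B ℤ) (d : ℤ) [J.IsStrictlyGE d]
    (hJ : ∀ n, Acyc Ψ (J.X n)) (N : ℤ) (hN : d ≤ N)
    (hH : ∀ n, n < N → IsZero (J.homology n)) :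
    Nonempty (((Ψ.mapHomologicalComplex (ComplexShape.up ℤ)).obj J).homology N ≅
      Ψ.obj (J.homology N)) := by
  let e := ComplexShape.embeddingUpIntGE (d - 1)
  let J' : CochainComplex B ℕ := J.restriction e
  obtain ⟨k, hk⟩ : ∃ k : ℕ, N = (d - 1) + ((k + 1 : ℕ) : ℤ) :=
    ⟨(N - d).toNat, by
      have := Int.toNat_of_nonneg (show 0 ≤ N - d by omega)
      push_cast
      omega⟩
  have hK : ∀ i, Acyc Ψ (J'.X i) := fun i => hJ (e.f i)
  have hH' : ∀ i, i < k + 1 → Acyc Ψ (J'.homology i) := by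
    intro i hi
    apply Acyc.of_isZero
    cases i with
    | zero =>
      have hz : IsZero (J.X (d - 1)) := J.isZero_of_isStrictlyGE d (d - 1) (by omega)
      have hz' : IsZero ((J'.sc 0).X₂) := by
        refine hz.of_iso (eqToIso ?_)
        show J.X (e.f 0) = J.X (d - 1)
        simp [e]
      exact ShortComplex.isZero_homology_of_isZero_X₂ _ hz'
    | succ i =>
      obtain ⟨ei⟩ := nonempty_restriction_homology_iso J d i
      refine (hH _ ?_).of_iso ei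
      push_cast at hk ⊢
      omega
  have hiso := isIso_homologyComparison_of_acyc_lt (Ψ := Ψ) (K := J') hK (k + 1) hH'
  obtain ⟨e1⟩ := nonempty_restriction_homology_iso J d k
  obtain ⟨e2⟩ := nonempty_restriction_homology_iso
    ((Ψ.mapHomologicalComplex (ComplexShape.up ℤ)).obj J) d k
  let e3 : ((Ψ.mapHomologicalComplex (ComplexShape.up ℕ)).obj J').homology (k + 1) ≅
      Ψ.obj (J'.homology (k + 1)) := asIso (RDer.homologyComparison Ψ J' (k + 1))
  rw [hk]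
  exact ⟨e2.symm ≪≫ e3 ≪≫ Ψ.mapIso e1⟩

end comparison

section model

variable {𝒜 : Type u} [Category.{v} 𝒜] [Abelian 𝒜] [IsGrothendieckAbelian.{v} 𝒜]
  [HasInjectiveResolutions 𝒜]
  {ℬ : Type u'} [Category.{v'} ℬ] [Abelian ℬ] (F : 𝒜 ⥤ ℬ) [F.Additive]
  [HasDerivedCategory.{w} 𝒜] [HasDerivedCategory.{w'} ℬ]
  (RG : DerivedCategory 𝒜 ⥤ DerivedCategory ℬ)
  (α : (F.mapHomotopyCategory (ComplexShape.up ℤ) ⋙ DerivedCategory.Qh) ⟶
    DerivedCategory.Qh ⋙ RG)
  [RG.IsRightDerivedFunctor α (HomotopyCategory.quasiIso 𝒜 (ComplexShape.up ℤ))]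

include α in
/-- `RG` computed on a K-injective model -/
lemma nonempty_rg_iso (K L : CochainComplex 𝒜 ℤ) (φ : K ⟶ L) [QuasiIso φ] [L.IsKInjective] :
    Nonempty (RG.obj (DerivedCategory.Q.obj K) ≅
      DerivedCategory.Q.obj ((F.mapHomologicalComplex (ComplexShape.up ℤ)).obj L)) := by
  have hiso : IsIso (α.app ((HomotopyCategory.quotient 𝒜 (ComplexShape.up ℤ)).obj L)) :=
    Groth.Agent.Lib.Helper25.KInjDerived.isIso_unit_homotopyCategory
      (F.mapHomotopyCategory (ComplexShape.up ℤ) ⋙ DerivedCategory.Qh) DerivedCategory.Qh RG α L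
  let e1 : DerivedCategory.Q.obj K ≅ DerivedCategory.Q.obj L := asIso (DerivedCategory.Q.map φ)
  let e2 : RG.obj (DerivedCategory.Q.obj L) ≅
      DerivedCategory.Q.obj ((F.mapHomologicalComplex (ComplexShape.up ℤ)).obj L) :=
    (@asIso _ _ _ _ (α.app ((HomotopyCategory.quotient 𝒜 (ComplexShape.up ℤ)).obj L)) hiso).symm
  exact ⟨RG.mapIso e1 ≪≫ e2⟩

include α in
/-- the cohomology of `RG` computed on a K-injective model -/
lemma nonempty_homology_rg_iso (K L : CochainComplex 𝒜 ℤ) (φ : K ⟶ L) [QuasiIso φ]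
    [L.IsKInjective] (n : ℤ) :
    Nonempty ((DerivedCategory.homologyFunctor ℬ n).obj (RG.obj (DerivedCategory.Q.obj K)) ≅
      ((F.mapHomologicalComplex (ComplexShape.up ℤ)).obj L).homology n) := by
  obtain ⟨e⟩ := nonempty_rg_iso F RG α K L φ
  exact ⟨(DerivedCategory.homologyFunctor ℬ n).mapIso e ≪≫
    (DerivedCategory.homologyFunctorFactors ℬ n).app _⟩

end model

section edge

variable {𝒜 : Type u} [Category.{v} 𝒜] [Abelian 𝒜] [IsGrothendieckAbelian.{v} 𝒜]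
  [HasInjectiveResolutions 𝒜]
  {𝒜₂ : Type u} [Category.{v} 𝒜₂] [Abelian 𝒜₂] [HasInjectiveResolutions 𝒜₂]
  {ℬ : Type u'} [Category.{v'} ℬ] [Abelian ℬ]
  (Φ : 𝒜 ⥤ 𝒜₂) [Φ.Additive] (Ψ : 𝒜₂ ⥤ ℬ) [Ψ.Additive] [PreservesFiniteLimits Ψ]
  [HasDerivedCategory.{w} 𝒜] [HasDerivedCategory.{w} 𝒜₂] [HasDerivedCategory.{w'} ℬ]
  (RΦ : DerivedCategory 𝒜 ⥤ DerivedCategory 𝒜₂)
  (α : (Φ.mapHomotopyCategory (ComplexShape.up ℤ) ⋙ DerivedCategory.Qh) ⟶
    DerivedCategory.Qh ⋙ RΦ)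
  [RΦ.IsRightDerivedFunctor α (HomotopyCategory.quasiIso 𝒜 (ComplexShape.up ℤ))]
  (RΦΨ : DerivedCategory 𝒜 ⥤ DerivedCategory ℬ)
  (β : ((Φ ⋙ Ψ).mapHomotopyCategory (ComplexShape.up ℤ) ⋙ DerivedCategory.Qh) ⟶
    DerivedCategory.Qh ⋙ RΦΨ)
  [RΦΨ.IsRightDerivedFunctor β (HomotopyCategory.quasiIso 𝒜 (ComplexShape.up ℤ))]

include α β in
/-- **The edge isomorphism in degree `2d`.** -/
theorem nonempty_edge_iso (hinj : ∀ I : 𝒜, Injective I → Injective (Φ.obj I)) (d : ℕ)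
    (K : CochainComplex 𝒜 ℤ) (hK : ∀ m : ℤ, m < d → IsZero (K.X m))
    (hP : ∀ (m : ℤ) (p : ℕ), p < d → IsZero ((Φ.rightDerived p).obj (K.X m))) :
    Nonempty ((DerivedCategory.homologyFunctor ℬ (2 * (d : ℤ))).obj
        (RΦΨ.obj (DerivedCategory.Q.obj K)) ≅
      Ψ.obj ((DerivedCategory.homologyFunctor 𝒜₂ (2 * (d : ℤ))).obj
        (RΦ.obj (DerivedCategory.Q.obj K)))) := by
  haveI : K.IsStrictlyGE (d : ℤ) := by
    rw [CochainComplex.isStrictlyGE_iff]
    exact fun m hm => hK m hm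
  obtain ⟨L, φ, hφ, hL, hLd⟩ :=
    CochainComplex.Plus.modelCategoryQuillen.exists_quasiIso_injective K (d : ℤ)
  haveI : L.IsKInjective := CochainComplex.isKInjective_of_injective L d
  let J : CochainComplex 𝒜₂ ℤ := (Φ.mapHomologicalComplex (ComplexShape.up ℤ)).obj L
  haveI : J.IsStrictlyGE (d : ℤ) := by dsimp only [J]; infer_instance
  have hJacyc : ∀ n, Acyc Ψ (J.X n) := by
    intro n q
    haveI : Injective (J.X n) := hinj _ (hL n)
    exact Functor.isZero_rightDerived_obj_injective_succ _ q _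
  have e1 : ∀ n : ℤ, Nonempty ((DerivedCategory.homologyFunctor 𝒜₂ n).obj
      (RΦ.obj (DerivedCategory.Q.obj K)) ≅ J.homology n) :=
    fun n => nonempty_homology_rg_iso Φ RΦ α K L φ n
  have hH : ∀ n : ℤ, n < 2 * (d : ℤ) → IsZero (J.homology n) := by
    intro n hn
    obtain ⟨e⟩ := e1 n
    exact (CxAmp.isZero_homology_rg_of_terms Φ RΦ α d K hK hP n hn).of_iso e.symm
  obtain ⟨e2⟩ := nonempty_homology_rg_iso (Φ ⋙ Ψ) RΦΨ β K L φ (2 * (d : ℤ))
  obtain ⟨e3⟩ := nonempty_homology_iso Ψ J (d : ℤ) hJacyc (2 * (d : ℤ)) (by omega) hH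
  obtain ⟨e4⟩ := e1 (2 * (d : ℤ))
  exact ⟨e2 ≪≫ e3 ≪≫ Ψ.mapIso e4.symm⟩

end edge

end Groth.Agent.Lib.Helper42.CxEdge
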