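import Groth.Agent.Lib.Helper42.DeltaFun
import Mathlib.Algebra.Homology.DerivedCategory.Ext.ExactSequences
import Mathlib.Algebra.Homology.DerivedCategory.Ext.EnoughInjectives
import Mathlib.Algebra.Category.Grp.Zero

/-! The δ-functor `Ext^n(P, -)`. -/

set_option autoImplicit false
universe w v u

open CategoryTheory Category Limits Abelian

namespace Groth.Agent.Lib.Helper42.DeltaExt

open Groth.Agent.Lib.Helper42.DeltaFun

variable {C : Type u} [Category.{v} C] [Abelian C] [HasExt.{w} C]

/-- the δ-functor `Ext^n(P, -)` -/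
noncomputable def ofExt (P : C) : DeltaFunctor C AddCommGrpCat.{w} where
  T n := extFunctorObj P n
  δ {_} hS n := AddCommGrpCat.ofHom (hS.extClass.postcomp P rfl)
  δ_natural {S S'} hS hS' φ n := by
    ext x
    change ((x.comp (Ext.mk₀ φ.τ₃) (add_zero n)).comp hS'.extClass rfl) =
      (x.comp hS.extClass rfl).comp (Ext.mk₀ φ.τ₁) (add_zero (n + 1))
    rw [Ext.comp_assoc_of_second_deg_zero, ← ShortComplex.ShortExact.extClass_naturality hS hS' φ,
      Ext.comp_assoc_of_third_deg_zero]
  map_δ {S} hS n := by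
    ext x
    change (x.comp (Ext.mk₀ S.g) (add_zero n)).comp hS.extClass rfl = 0
    rw [Ext.comp_assoc_of_second_deg_zero, hS.comp_extClass, Ext.comp_zero]
  δ_map {S} hS n := by
    ext x
    change (x.comp hS.extClass rfl).comp (Ext.mk₀ S.f) (add_zero (n + 1)) = 0
    rw [Ext.comp_assoc_of_third_deg_zero, hS.extClass_comp, Ext.comp_zero]
  exact₃ {_} hS n := Ext.covariant_sequence_exact₃' P hS n (n + 1) rfl
  exact₁ {_} hS n := Ext.covariant_sequence_exact₁' P hS n (n + 1) rfl

@[simp] lemma ofExt_T (P : C) (n : ℕ) : (ofExt P).T n = extFunctorObj P n := rfl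

lemma ofExt_eff (P : C) : (ofExt P).Eff := by
  intro I _ n
  have : Subsingleton (Ext P I (n + 1)) := ⟨fun a b => by
    rw [Ext.eq_zero_of_injective a, Ext.eq_zero_of_injective b]⟩
  exact AddCommGrpCat.isZero_of_subsingleton (AddCommGrpCat.of (Ext P I (n + 1)))

end Groth.Agent.Lib.Helper42.DeltaExt
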