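import Mathlib.CategoryTheory.Abelian.Injective.Basic
import Mathlib.Algebra.Homology.ShortComplex.ShortExact
import Mathlib.Algebra.Homology.ShortComplex.ExactFunctor
import Mathlib.CategoryTheory.Preadditive.Injective.Basic
import Mathlib.CategoryTheory.Preadditive.Injective.Preserves

/-! Effaceable cohomological δ-functors (in nonnegative degrees, on an abelian category with
enough injectives) are determined by their degree `0` part: a natural transformation in degree
`n` extends to degree `n + 1` through the chosen short exact sequences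
`F ⟶ Injective.under F ⟶ cokernel`. -/

set_option autoImplicit false
universe v u v' u' v'' u''

open CategoryTheory Category Limits

namespace Groth.Agent.Lib.Helper42.DeltaFun

variable (C : Type u) [Category.{v} C] [Abelian C]
variable (D : Type u') [Category.{v'} D] [Abelian D]

/-- a cohomological δ-functor (only the part of the long exact sequence that is used) -/
structure DeltaFunctor where
  T : ℕ → C ⥤ D
  δ : ∀ {S : ShortComplex C} (_ : S.ShortExact) (n : ℕ), (T n).obj S.X₃ ⟶ (T (n + 1)).obj S.X₁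
  δ_natural : ∀ {S S' : ShortComplex C} (hS : S.ShortExact) (hS' : S'.ShortExact) (φ : S ⟶ S')
    (n : ℕ), (T n).map φ.τ₃ ≫ δ hS' n = δ hS n ≫ (T (n + 1)).map φ.τ₁
  map_δ : ∀ {S : ShortComplex C} (hS : S.ShortExact) (n : ℕ), (T n).map S.g ≫ δ hS n = 0
  δ_map : ∀ {S : ShortComplex C} (hS : S.ShortExact) (n : ℕ), δ hS n ≫ (T (n + 1)).map S.f = 0
  exact₃ : ∀ {S : ShortComplex C} (hS : S.ShortExact) (n : ℕ),
    (ShortComplex.mk _ _ (map_δ hS n)).Exact
  exact₁ : ∀ {S : ShortComplex C} (hS : S.ShortExact) (n : ℕ),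
    (ShortComplex.mk _ _ (δ_map hS n)).Exact

variable {C D}

namespace DeltaFunctor

/-- effaceability: the higher functors vanish on injectives -/
def Eff (A : DeltaFunctor C D) : Prop :=
  ∀ (I : C) [Injective I] (n : ℕ), IsZero ((A.T (n + 1)).obj I)

end DeltaFunctor

variable [EnoughInjectives C]

/-- the cokernel of `F ⟶ I(F)` -/
noncomputable abbrev Q (F : C) : C := cokernel (Injective.ι F)

/-- the chosen short complex `F ⟶ I(F) ⟶ Q(F)` -/
noncomputable def seq (F : C) : ShortComplex C :=
  ShortComplex.mk (Injective.ι F) (cokernel.π (Injective.ι F)) (cokernel.condition _)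

lemma seq_shortExact (F : C) : (seq F).ShortExact where
  exact := ShortComplex.exact_of_g_is_cokernel _ (cokernelIsCokernel _)
  mono_f := by dsimp [seq]; infer_instance
  epi_g := by dsimp [seq]; infer_instance

/-- the middle map of `seqMap` -/
noncomputable def mid {F G : C} (φ : F ⟶ G) : Injective.under F ⟶ Injective.under G :=
  Injective.factorThru (φ ≫ Injective.ι G) (Injective.ι F)

omit [Abelian C] in
lemma ι_mid {F G : C} (φ : F ⟶ G) : Injective.ι F ≫ mid φ = φ ≫ Injective.ι G :=
  Injective.comp_factorThru _ _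

/-- the map on cokernels -/
noncomputable def Qmap {F G : C} (φ : F ⟶ G) : Q F ⟶ Q G :=
  cokernel.map _ _ φ (mid φ) (ι_mid φ)

/-- a morphism induces a morphism of the chosen short exact sequences -/
noncomputable def seqMap {F G : C} (φ : F ⟶ G) : seq F ⟶ seq G where
  τ₁ := φ
  τ₂ := mid φ
  τ₃ := Qmap φ
  comm₁₂ := (ι_mid φ).symm
  comm₂₃ := by dsimp [seq, Qmap]; rw [cokernel.π_desc]

namespace DeltaFunctor

variable (A B B' : DeltaFunctor C D)

/-- the connecting map of the chosen sequence -/
noncomputable def δs (F : C) (n : ℕ) : (A.T n).obj (Q F) ⟶ (A.T (n + 1)).obj F :=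
  A.δ (seq_shortExact F) n

lemma δs_natural {F G : C} (φ : F ⟶ G) (n : ℕ) :
    (A.T n).map (Qmap φ) ≫ A.δs G n = A.δs F n ≫ (A.T (n + 1)).map φ :=
  A.δ_natural (seq_shortExact F) (seq_shortExact G) (seqMap φ) n

lemma map_δs (F : C) (n : ℕ) : (A.T n).map (cokernel.π (Injective.ι F)) ≫ A.δs F n = 0 :=
  A.map_δ (seq_shortExact F) n

lemma exact_δs (F : C) (n : ℕ) : (ShortComplex.mk _ _ (A.map_δs F n)).Exact :=
  A.exact₃ (seq_shortExact F) n

lemma epi_δs (hA : A.Eff) (F : C) (n : ℕ) : Epi (A.δs F n) := by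
  refine (A.exact₁ (seq_shortExact F) n).epi_f ?_
  exact (hA (Injective.under F) n).eq_of_tgt _ _

variable {A B B'}

/-- extension of a natural transformation to the next degree: components -/
noncomputable def extApp (hA : A.Eff) {n : ℕ} (θ : A.T n ⟶ B.T n) (F : C) :
    (A.T (n + 1)).obj F ⟶ (B.T (n + 1)).obj F :=
  haveI := A.epi_δs hA F n
  (A.exact_δs F n).desc (θ.app (Q F) ≫ B.δs F n) (by
    dsimp
    rw [θ.naturality_assoc, B.map_δs, comp_zero])

lemma δs_extApp (hA : A.Eff) {n : ℕ} (θ : A.T n ⟶ B.T n) (F : C) :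
    A.δs F n ≫ extApp hA θ F = θ.app (Q F) ≫ B.δs F n :=
  haveI := A.epi_δs hA F n
  (A.exact_δs F n).g_desc _ _

/-- extension of a natural transformation to the next degree -/
noncomputable def ext (hA : A.Eff) {n : ℕ} (θ : A.T n ⟶ B.T n) : A.T (n + 1) ⟶ B.T (n + 1) where
  app F := extApp hA θ F
  naturality F G φ := by
    have := A.epi_δs hA F n
    rw [← cancel_epi (A.δs F n), ← reassoc_of% (A.δs_natural φ n), δs_extApp,
      reassoc_of% (δs_extApp hA θ F), ← B.δs_natural φ n, θ.naturality_assoc]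

@[simp] lemma ext_app (hA : A.Eff) {n : ℕ} (θ : A.T n ⟶ B.T n) (F : C) :
    (ext hA θ).app F = extApp hA θ F := rfl

lemma ext_id (hA : A.Eff) (n : ℕ) : ext hA (𝟙 (A.T n)) = 𝟙 (A.T (n + 1)) := by
  ext F
  have := A.epi_δs hA F n
  rw [← cancel_epi (A.δs F n), ext_app, δs_extApp]
  simp

lemma ext_comp (hA : A.Eff) (hB : B.Eff) {n : ℕ} (θ : A.T n ⟶ B.T n) (θ' : B.T n ⟶ B'.T n) :
    ext hA (θ ≫ θ') = ext hA θ ≫ ext hB θ' := by
  ext F
  have := A.epi_δs hA F n
  rw [← cancel_epi (A.δs F n), ext_app, δs_extApp, NatTrans.comp_app, NatTrans.comp_app,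
    ext_app, ext_app, reassoc_of% (δs_extApp hA θ F), δs_extApp, assoc]

/-- extension of a natural isomorphism to the next degree -/
noncomputable def extIso (hA : A.Eff) (hB : B.Eff) {n : ℕ} (θ : A.T n ≅ B.T n) :
    A.T (n + 1) ≅ B.T (n + 1) where
  hom := ext hA θ.hom
  inv := ext hB θ.inv
  hom_inv_id := by rw [← ext_comp, θ.hom_inv_id, ext_id]
  inv_hom_id := by rw [← ext_comp, θ.inv_hom_id, ext_id]

/-- two effaceable δ-functors which agree in degree `0` agree in all degrees -/
noncomputable def isoOfZero (hA : A.Eff) (hB : B.Eff) (e : A.T 0 ≅ B.T 0) :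
    ∀ n : ℕ, A.T n ≅ B.T n
  | 0 => e
  | n + 1 => extIso hA hB (isoOfZero hA hB e n)

end DeltaFunctor

section precomp

variable {C' : Type u''} [Category.{v''} C'] [Abelian C']
variable (A : DeltaFunctor C D) (E : C' ⥤ C) [E.PreservesZeroMorphisms] [PreservesFiniteLimits E]
  [PreservesFiniteColimits E]

/-- precomposition of a δ-functor with an exact functor -/
noncomputable def DeltaFunctor.precomp : DeltaFunctor C' D where
  T n := E ⋙ A.T n
  δ {S} hS n := A.δ (S := S.map E) (hS.map_of_exact E) n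
  δ_natural {_ _} hS hS' φ n :=
    A.δ_natural (hS.map_of_exact E) (hS'.map_of_exact E) (E.mapShortComplex.map φ) n
  map_δ {_} hS n := A.map_δ (hS.map_of_exact E) n
  δ_map {_} hS n := A.δ_map (hS.map_of_exact E) n
  exact₃ {_} hS n := A.exact₃ (hS.map_of_exact E) n
  exact₁ {_} hS n := A.exact₁ (hS.map_of_exact E) n

omit [EnoughInjectives C] in
lemma DeltaFunctor.precomp_eff (hA : A.Eff) [E.PreservesInjectiveObjects] : (A.precomp E).Eff := by
  intro I _ n
  have : Injective (E.obj I) := E.injective_obj I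
  exact hA (E.obj I) n

end precomp

end Groth.Agent.Lib.Helper42.DeltaFun
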