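import Groth.Agent.Lib.Helper42.DeltaFun

/-! Postcomposition of a δ-functor with an exact functor. -/

set_option autoImplicit false
universe v u v' u' v'' u''

open CategoryTheory Category Limits

namespace Groth.Agent.Lib.Helper42.DeltaFun

variable {C : Type u} [Category.{v} C] [Abelian C]
variable {D : Type u'} [Category.{v'} D] [Abelian D]
variable {D' : Type u''} [Category.{v''} D'] [Abelian D']
variable (A : DeltaFunctor C D) (E : D ⥤ D') [E.PreservesZeroMorphisms] [PreservesFiniteLimits E]
  [PreservesFiniteColimits E]

/-- postcomposition of a δ-functor with an exact functor -/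
noncomputable def DeltaFunctor.postcomp : DeltaFunctor C D' where
  T n := A.T n ⋙ E
  δ {_} hS n := E.map (A.δ hS n)
  δ_natural {_ _} hS hS' φ n := by
    dsimp
    rw [← E.map_comp, ← E.map_comp, A.δ_natural hS hS' φ n]
  map_δ {_} hS n := by
    dsimp
    rw [← E.map_comp, A.map_δ hS n, E.map_zero]
  δ_map {_} hS n := by
    dsimp
    rw [← E.map_comp, A.δ_map hS n, E.map_zero]
  exact₃ {_} hS n := (A.exact₃ hS n).map E
  exact₁ {_} hS n := (A.exact₁ hS n).map E

lemma DeltaFunctor.postcomp_eff (hA : A.Eff) : (A.postcomp E).Eff := by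
  intro I _ n
  exact E.map_isZero (hA I n)

end Groth.Agent.Lib.Helper42.DeltaFun
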