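import Groth.Agent.Lib.Helper42.DeltaFun
import Groth.Agent.Lib.Helper68.RightDerivedLES
import Mathlib.CategoryTheory.Abelian.RightDerived

/-! The δ-functor of right derived functors. -/

set_option autoImplicit false
universe v u v' u'

open CategoryTheory Category Limits

namespace Groth.Agent.Lib.Helper42.DeltaRDer

open Groth.Agent.Lib.Helper42.DeltaFun Groth.Agent.Lib.Helper68

variable {C : Type u} [Category.{v} C] [Abelian C] [HasInjectiveResolutions C]
variable {D : Type u'} [Category.{v'} D] [Abelian D] (K : C ⥤ D) [K.Additive]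

/-- the δ-functor `Rⁿ K` -/
noncomputable def ofRightDerived : DeltaFunctor C D where
  T n := K.rightDerived n
  δ {_} hS n := RightDerivedLES.δ K hS n
  δ_natural {_ _} hS hS' φ n := RightDerivedLES.δ_natural K hS hS' φ n
  map_δ {_} hS n := RightDerivedLES.map_g_δ K hS n
  δ_map {_} hS n := RightDerivedLES.δ_map_f K hS n
  exact₃ {_} hS n := RightDerivedLES.exact₃ K hS n
  exact₁ {_} hS n := RightDerivedLES.exact₁ K hS n

@[simp] lemma ofRightDerived_T (n : ℕ) : (ofRightDerived K).T n = K.rightDerived n := rfl

lemma ofRightDerived_eff : (ofRightDerived K).Eff := by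
  intro I _ n
  exact Functor.isZero_rightDerived_obj_injective_succ K n I

end Groth.Agent.Lib.Helper42.DeltaRDer
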