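import Groth.Agent.Lib.Helper98.CechFlatLin
import Groth.Agent.Lib.Helper92.LocCohGV
import Groth.Agent.Lib.Helper92.LocCohCompare
import Mathlib.RingTheory.LocalProperties.Submodule
import Mathlib.RingTheory.Localization.BaseChange

/-! Vanishing of local cohomology above the dimensions of the local rings along the support. -/

set_option autoImplicit false
set_option linter.style.haveILetI false
universe u
open CategoryTheory

namespace Groth.Agent.Lib.Helper42.LCDimVanish

open LocCoh Groth.Agent.Lib.Helper92.LC

variable {R : Type u} [CommRing R] [IsNoetherianRing R]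

/-- `H^i_I(M) = 0` when `dim R_p < i` for every prime `p ⊇ I` -/
theorem subsingleton_H_of_dim_lt (I : Ideal R) (M : Type u) [AddCommGroup M] [Module R M] (i : ℕ)
    (h : ∀ p : PrimeSpectrum R, I ≤ p.asIdeal →
      ringKrullDim (Localization.AtPrime p.asIdeal) < (i : WithBot ℕ∞)) :
    Subsingleton (LocCoh.H I i M) := by
  apply Module.subsingleton_of_localization_maximal (R := R)
    (fun P _ => TensorProduct R (Localization.AtPrime P) (LocCoh.H I i M))
    (fun P _ => TensorProduct.mk R (Localization.AtPrime P) (LocCoh.H I i M) 1)
  intro P hP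
  obtain ⟨e⟩ := Helper98.CechFlatLin.lc_baseChange_lin (R := R) (R' := Localization.AtPrime P) I M i
  refine e.toEquiv.subsingleton_congr.2 ?_
  by_cases hIP : I ≤ P
  · apply subsingleton_of_supportDim_lt
    exact lt_of_le_of_lt (Module.supportDim_le_ringKrullDim _ _) (h ⟨P, hP.isPrime⟩ hIP)
  · have htop : I.map (algebraMap R (Localization.AtPrime P)) = ⊤ := by
      obtain ⟨x, hxI, hxP⟩ := SetLike.not_le_iff_exists.1 hIP
      have hu : IsUnit (algebraMap R (Localization.AtPrime P) x) :=
        IsLocalization.map_units (Localization.AtPrime P) (⟨x, hxP⟩ : P.primeCompl)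
      exact Ideal.eq_top_of_isUnit_mem _ (Ideal.mem_map_of_mem _ hxI) hu
    rw [htop]
    apply subsingleton_of_smul_bijective ⊤ i _ 1 trivial
    have : (fun n : (ModuleCat.of (Localization.AtPrime P)
        (TensorProduct R (Localization.AtPrime P) M)) => (1 : Localization.AtPrime P) • n) = id := by
      funext n
      exact one_smul _ _
    rw [this]
    exact Function.bijective_id

end Groth.Agent.Lib.Helper42.LCDimVanish
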