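import Groth.Agent.Lib.Helper42.AffDepth2
import Groth.Agent.Lib.Helper42.LCDimVanish

/-! Vanishing of `H^i_Z` over an affine open of a locally Noetherian scheme when `i` exceeds the
dimensions of the local rings at the points of `Z`. -/

set_option autoImplicit false
set_option linter.style.haveILetI false
set_option linter.unusedSectionVars false
universe u
open AlgebraicGeometry CategoryTheory Opposite TopologicalSpace

namespace Groth.Agent.Lib.Helper42.DimKey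

open Groth.Agent.Lib.Helper42.LCAff Groth.Agent.Lib.Helper42.AffDepth
  Groth.Agent.Lib.Helper42.AffDepth2 Groth.Agent.Lib.Lead.QCohAff

section Prime

variable {Y : Scheme.{u}} [IsAffine Y] (F : Y.Modules) [F.IsQuasicoherent]
  [IsNoetherianRing Γ(Y, ⊤)]

theorem subsingleton_HZM_of_dim_lt (fs : List Γ(Y, ⊤)) (i : ℕ)
    (h : ∀ p : PrimeSpectrum Γ(Y, ⊤), Ideal.span {a | a ∈ fs} ≤ p.asIdeal →
      ringKrullDim (Localization.AtPrime p.asIdeal) < (i : WithBot ℕ∞)) :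
    Subsingleton (LocCohZ.HZM Y F i (UF (X := Y) fs)) := by
  obtain ⟨e⟩ := koszulHLim_equiv_HZM F fs i
  refine e.toEquiv.subsingleton_congr.1 ?_
  obtain ⟨e1⟩ := Groth.Agent.Lib.Helper98.KoszulCechLim.koszulHLim_equiv fs
    (ModuleCat.of Γ(Y, ⊤) (F.val.obj (op ⊤))) i
  obtain ⟨e2⟩ := Helper98.CechLC.main fs i (ModuleCat.of Γ(Y, ⊤) (F.val.obj (op ⊤)))
  refine (e1.trans e2).toEquiv.subsingleton_congr.2 ?_
  exact Groth.Agent.Lib.Helper42.LCDimVanish.subsingleton_H_of_dim_lt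
    (Ideal.span {x | x ∈ fs}) (F.val.obj (op ⊤)) i h

end Prime

section Key

variable {X : Scheme.{u}} [IsLocallyNoetherian X] (M : X.Modules) [M.IsQuasicoherent]
  (V : X.Opens) (hV : IsAffineOpen V) (U : X.Opens)

include hV in
theorem key (i : ℕ)
    (h : ∀ x : X, x ∈ V → x ∉ U → ringKrullDim (X.presheaf.stalk x) < (i : WithBot ℕ∞)) :
    Subsingleton (LocCohZ.HZM (V : Scheme.{u}) (M.restrict V.ι) i (V.ι ⁻¹ᵁ U)) := by
  haveI : IsAffine (V : Scheme.{u}) := hV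
  have hV₀ : IsAffineOpen (V.ι ''ᵁ ⊤) := by rw [Scheme.Opens.ι_image_top]; exact hV
  haveI hN : IsNoetherianRing Γ((V : Scheme.{u}), ⊤) :=
    (IsLocallyNoetherian.component_noetherian ⟨V.ι ''ᵁ ⊤, hV₀⟩ :
      IsNoetherianRing Γ(X, V.ι ''ᵁ ⊤))
  haveI : NoetherianSpace (V : Scheme.{u}) := noetherianSpace_of_isAffine
  obtain ⟨fs, hfs⟩ := exists_list (X := (V : Scheme.{u})) (V.ι ⁻¹ᵁ U)
    (NoetherianSpace.isCompact _)
  rw [hfs]
  apply subsingleton_HZM_of_dim_lt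
  intro p hp
  let fs₀ : List Γ(X, V.ι ''ᵁ ⊤) := fs
  have hmem : ∀ (x : X) (hx : x ∈ V),
      x ∈ U ↔ ∃ f ∈ fs₀, x ∈ X.basicOpen (U := V.ι ''ᵁ ⊤) f := by
    intro x hx
    let x' : (V : Scheme.{u}) := ⟨x, hx⟩
    have h1 : x' ∈ UF (X := (V : Scheme.{u})) fs ↔ x ∈ U := by
      rw [← hfs]
      exact Iff.rfl
    constructor
    · intro hxU
      obtain ⟨i, hi⟩ := Opens.mem_iSup.1 (h1.2 hxU)
      exact ⟨fs.get i, List.get_mem fs i, (mem_basicOpen_iff V _ _).1 hi⟩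
    · rintro ⟨f, hf, hxf⟩
      obtain ⟨i, rfl⟩ := List.get_of_mem hf
      exact h1.1 (Opens.mem_iSup.2 ⟨i, (mem_basicOpen_iff V _ x').2 hxf⟩)
  obtain ⟨x, hx₀, hpx⟩ := exists_primeIdealOf_eq hV₀ p
  have hxV : x ∈ V := by rw [← Scheme.Opens.ι_image_top V]; exact hx₀
  have hp' : Ideal.span {a | a ∈ fs₀} ≤ (hV₀.primeIdealOf ⟨x, hx₀⟩).asIdeal := by
    rw [hpx]
    exact hp
  have hxU : x ∉ U := by
    intro hxU
    obtain ⟨f, hf, hxf⟩ := (hmem x hxV).1 hxU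
    exact (span_le_primeIdealOf_iff hV₀ fs₀ x hx₀).1 hp' f hf hxf
  have h2 := h x hxV hxU
  letI : Algebra Γ(X, V.ι ''ᵁ ⊤) (X.presheaf.stalk x) :=
    TopCat.Presheaf.algebra_section_stalk X.presheaf (U := V.ι ''ᵁ ⊤) ⟨x, hx₀⟩
  haveI : IsLocalization.AtPrime (X.presheaf.stalk x) (hV₀.primeIdealOf ⟨x, hx₀⟩).asIdeal :=
    hV₀.isLocalization_stalk ⟨x, hx₀⟩
  have e := IsLocalization.algEquiv (hV₀.primeIdealOf ⟨x, hx₀⟩).asIdeal.primeCompl
    (Localization.AtPrime (hV₀.primeIdealOf ⟨x, hx₀⟩).asIdeal) (X.presheaf.stalk x)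
  have hd := ringKrullDim_eq_of_ringEquiv e.toRingEquiv
  have hp2 : (hV₀.primeIdealOf ⟨x, hx₀⟩ : PrimeSpectrum Γ((V : Scheme.{u}), ⊤)) = p := hpx
  rw [← hp2]
  exact lt_of_le_of_lt (le_of_eq hd) h2

end Key

end Groth.Agent.Lib.Helper42.DimKey
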