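import Groth.Agent.Lib.Helper42.LocCohSS
import Groth.Agent.Lib.Helper68.EdgeOutLow
import Groth.Agent.Lib.Helper67.Depth

/-! `Γ(X, ℋ^d_Z(F)) ≅ H^d_Z(X, F)` when `ℋ^i_Z(F) = 0` for `i < d`; depth of flat modules. -/

set_option autoImplicit false
universe u v

open CategoryTheory CategoryTheory.Limits TopologicalSpace Opposite Abelian

namespace Groth.Agent.Lib.Helper42.EdgeLC

open Groth.Agent.Lib.Helper53 Groth.Agent.Lib.Helper42.LocCohZ1 Groth.Agent.Lib.Helper42.LocCohZ2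
  Groth.Agent.Lib.Helper42.LocCohZ5 Groth.Agent.Lib.Helper42.LocCohZ9
  Groth.Agent.Lib.Helper42.LocCohSS

section top

variable {X : TopCat.{u}} (U : Opens X) (F : CohTop.Ab X)

theorem nonempty_sections_HZsh_equiv (d : ℕ)
    (h : ∀ i : ℕ, i < d → IsZero ((LocCohZ.HZsh U i).obj F)) :
    Nonempty (((LocCohZ.HZsh U d).obj F).obj.obj (op ⊤) ≃+ LocCohZ.HZc F d U) := by
  have hiso : IsIso (RDer.edgeOut (LocCohZ.sectSuppF U) (Γ X) d F) :=
    Groth.Agent.Lib.Helper68.EdgeOutIso.isIso_edgeOut_of_isZero_lt (LocCohZ.sectSuppF U) (Γ X) F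
      (fun Q hQ p => by
        have hfl : TopCat.Sheaf.IsFlasque Q := isFlasque_of_injective Q
        have : TopCat.Sheaf.IsFlasque (CohCx.sectSupp U Q) := isFlasque_sectSupp U Q
        exact isZero_RGamma_of_isFlasque (CohCx.sectSupp U Q) (p + 1) (Nat.succ_pos p))
      d h
  let e1 := asIso (RDer.edgeOut (LocCohZ.sectSuppF U) (Γ X) d F)
  let e2 : ((LocCohZ.sectSuppF U ⋙ Γ X).rightDerived d).obj F ≅
      AddCommGrpCat.of (LocCohZ.HZc F d U) := (RHZIso U d).app F
  exact ⟨(e1.symm ≪≫ e2).addCommGroupIsoToAddEquiv⟩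

end top

section depth

open LocCoh RingTheory.Sequence

variable {R : Type u} [CommRing R]

theorem le_idealDepth_of_flat (I : Ideal R) (M : Type v) [AddCommGroup M] [Module R M]
    [Module.Flat R M] (n : ℕ) (h : (n : ℕ∞) ≤ idealDepth I R) : (n : ℕ∞) ≤ idealDepth I M := by
  rw [Groth.Agent.Lib.Helper67.le_idealDepth_iff] at h ⊢
  rcases h with h | ⟨rs, hl, hreg, hmem⟩
  · left
    have hI : I = ⊤ := by simpa using h
    rw [hI]
    simp
  · right
    refine ⟨rs, hl, ?_, hmem⟩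
    have h1 : IsWeaklyRegular (TensorProduct R R M) rs := hreg.isWeaklyRegular_rTensor
    exact (LinearEquiv.isWeaklyRegular_congr (TensorProduct.lid R M) rs).1 h1

end depth

end Groth.Agent.Lib.Helper42.EdgeLC
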