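import Groth.Agent.Lib.Helper42.Proj
import Mathlib.LinearAlgebra.TensorProduct.RightExactness
import Mathlib.LinearAlgebra.TensorProduct.Finiteness
import Mathlib.Algebra.Category.ModuleCat.Presheaf.Abelian

set_option autoImplicit false

namespace Groth.Agent.Lib.Helper42.EqCrit

universe u
open CategoryTheory MonoidalCategory Limits Opposite ModSite TensorProduct
open Groth.Agent.Lib.Helper42.TensorSheaf Groth.Agent.Lib.Helper42.TensorColim
open Groth.Agent.Lib.Helper42.Flat Groth.Agent.Lib.Helper42.Flat2 Groth.Agent.Lib.Helper42.Proj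
open Groth.Agent.Lib.Helper42.TensorLoc

variable {C : Type u} [SmallCategory C] {J : GrothendieckTopology C} (O : Sheaf J CommRingCat.{u})

lemma isLocallyInjective_of_mono_shf {A B : PMod O} (ψ : A ⟶ B) (h : Mono ((shf O).map ψ)) :
    Presheaf.IsLocallyInjective J ((PresheafOfModules.toPresheaf _).map ψ) := by
  have nat : ψ ≫ (adjS O).unit.app B = (adjS O).unit.app A ≫ (fgt O).map ((shf O).map ψ) :=
    (adjS O).unit.naturality ψ
  have h2 : PreservesFiniteLimits (fgt O) :=
    inferInstanceAs (PreservesFiniteLimits (SheafOfModules.forget (ringSh O)))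
  have m : Mono ((fgt O).map ((shf O).map ψ)) := inferInstance
  have l1 : Presheaf.IsLocallyInjective J
      ((PresheafOfModules.toPresheaf _).map ((fgt O).map ((shf O).map ψ))) :=
    Presheaf.isLocallyInjective_of_injective J _
      (fun X => PresheafOfModules.injective_of_mono _ X)
  have l2 : Presheaf.IsLocallyInjective J
      ((PresheafOfModules.toPresheaf _).map ((adjS O).unit.app A)) :=
    ((W_iff _).mp (W_unit A)).1
  have l3 : Presheaf.IsLocallyInjective J
      ((PresheafOfModules.toPresheaf _).map (ψ ≫ (adjS O).unit.app B)) := by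
    rw [nat, Functor.map_comp]
    infer_instance
  rw [Functor.map_comp] at l3
  exact Presheaf.isLocallyInjective_of_isLocallyInjective J _
    ((PresheafOfModules.toPresheaf _).map ((adjS O).unit.app B))

lemma isLocallyInjective_whiskerRight_of_flat (F : Mod O) (hF : IsFlat F) {A B : PMod O}
    (ι : A ⟶ B) [Mono ι] :
    Presheaf.IsLocallyInjective J
      ((PresheafOfModules.toPresheaf _).map (ι ▷ (fgt O).obj F)) := by
  apply isLocallyInjective_of_mono_shf
  have := (isFlat_iff_preservesMono O F).mp hF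
  have h3 : PreservesFiniteLimits (shf O) :=
    inferInstanceAs (PreservesFiniteLimits
      (PresheafOfModules.sheafification (𝟙 (ringSh O).obj)))
  have m1 : Mono ((shf O).map ι) := inferInstance
  have m2 : Mono ((shf O ⋙ tensR O F).map ι) := by
    rw [Functor.comp_map]
    infer_instance
  exact mono_map_of_natIso (shfTensRIso O F) ι

theorem local_exactness (F : Mod O) (hF : IsFlat F) {M M'' : PMod O} (α : M ⟶ M'') (V : C)
    (z : (M.obj (op V)) ⊗[O.obj.obj (op V)] (((fgt O).obj F).obj (op V)))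
    (hz : (α ▷ (fgt O).obj F).app (op V) z = 0) :
    ∃ S ∈ J V, ∀ ⦃W : C⦄ (g : W ⟶ V), S g →
      ∃ (l : ℕ) (κ : Fin l → M.obj (op W)) (t : Fin l → ((fgt O).obj F).obj (op W)),
        (∀ k, α.app (op W) (κ k) = 0) ∧
        res (M ⊗ (fgt O).obj F) g.op z = ∑ k, (κ k) ⊗ₜ[O.obj.obj (op W)] (t k) := by
  let F₀ := (fgt O).obj F
  let I := Abelian.image α
  let π : M ⟶ I := Abelian.factorThruImage α
  let ι : I ⟶ M'' := Abelian.image.ι α
  have fac : π ≫ ι = α := Abelian.image.fac α
  have hι : Presheaf.IsLocallyInjective J ((PresheafOfModules.toPresheaf _).map (ι ▷ F₀)) :=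
    isLocallyInjective_whiskerRight_of_flat O F hF ι
  let z' : (I ⊗ F₀).obj (op V) := (π ▷ F₀).app (op V) z
  have hz' : (ι ▷ F₀).app (op V) z' = 0 := by
    have : (π ▷ F₀) ≫ (ι ▷ F₀) = α ▷ F₀ := by rw [← comp_whiskerRight, fac]
    rw [← this] at hz
    exact hz
  have hS := Presheaf.equalizerSieve_mem J ((PresheafOfModules.toPresheaf _).map (ι ▷ F₀))
    (X := op V) z' 0 (hz'.trans (map_zero ((ι ▷ F₀).app (op V)).hom).symm)
  refine ⟨_, hS, ?_⟩
  intro W g hg
  have h1 : res (I ⊗ F₀) g.op z' = 0 := hg.trans (map_zero ((I ⊗ F₀).map g.op).hom)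
  have h2 : (π ▷ F₀).app (op W) (res (M ⊗ F₀) g.op z) = 0 := by
    rw [← h1]
    exact PresheafOfModules.naturality_apply (π ▷ F₀) g.op z
  let πW : M.obj (op W) →ₗ[O.obj.obj (op W)] I.obj (op W) := (π.app (op W)).hom
  have hsurj : Function.Surjective πW := PresheafOfModules.surjective_of_epi π _
  have hex := rTensor_exact (R := O.obj.obj (op W)) (F₀.obj (op W))
    (LinearMap.exact_subtype_ker_map πW) hsurj
  obtain ⟨w, hw⟩ := (hex (res (M ⊗ F₀) g.op z)).mp h2
  obtain ⟨l, κ', t, rfl⟩ := TensorProduct.exists_sum_tmul_eq w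
  refine ⟨l, fun k => (κ' k : M.obj (op W)), t, ?_, ?_⟩
  · intro k
    have h3 : π.app (op W) (κ' k : M.obj (op W)) = 0 := LinearMap.mem_ker.mp (κ' k).2
    have h4 : α.app (op W) (κ' k : M.obj (op W)) = ι.app (op W) (π.app (op W) (κ' k : M.obj (op W))) := by
      rw [← fac]
      rfl
    rw [h4, h3, map_zero]
  · rw [← hw, map_sum]
    rfl

section Decode

variable (U : C)

def Φ (k : ℕ) : Cᵒᵖ ⥤ Type u where
  obj X := ULift.{u} (Fin k) × (X.unop ⟶ U)
  map g := ↾fun p => (p.1, g.unop ≫ p.2)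
  map_id X := by
    ext p
    · rfl
    · exact Category.id_comp _
  map_comp f g := by
    ext p
    · rfl
    · exact Category.assoc _ _ _

noncomputable def FM (k : ℕ) : PMod O := PresheafOfModules.freeObj (Φ U k)

noncomputable def e (k : ℕ) {X : Cᵒᵖ} (i : Fin k) (h : X.unop ⟶ U) : (FM O U k).obj X :=
  ModuleCat.freeMk ((ULift.up i, h) : (Φ U k).obj X)

lemma FM_map_e (k : ℕ) {X Y : Cᵒᵖ} (g : X ⟶ Y) (i : Fin k) (h : X.unop ⟶ U) :
    (FM O U k).map g (e O U k i h) = e O U k i (g.unop ≫ h) := by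
  change (ModuleCat.freeDesc _) (ModuleCat.freeMk _) = _
  rw [ModuleCat.freeDesc_apply]
  rfl

variable {n r : ℕ} (f : Fin r → Fin n → O.obj.obj (op U))

noncomputable def αφ : Φ U n ⟶ (FM O U r).presheaf ⋙ forget Ab where
  app X := ↾fun p => ∑ ρ, (O.obj.map p.2.op (f ρ p.1.down) : O.obj.obj X) • e O U r ρ p.2
  naturality X Y g := by
    ext p
    change ∑ ρ, (O.obj.map (g.unop ≫ p.2).op (f ρ p.1.down) : O.obj.obj Y) •
        e O U r ρ (g.unop ≫ p.2) =
      (FM O U r).map g (∑ ρ, (O.obj.map p.2.op (f ρ p.1.down) : O.obj.obj X) • e O U r ρ p.2)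
    rw [map_sum]
    refine Finset.sum_congr rfl fun ρ _ => ?_
    rw [PresheafOfModules.map_smul, FM_map_e]
    congr 1
    rw [op_comp, Functor.map_comp]
    rfl

noncomputable def α : FM O U n ⟶ FM O U r := PresheafOfModules.freeObjDesc (αφ O U f)

lemma α_app_e {X : Cᵒᵖ} (i : Fin n) (h : X.unop ⟶ U) :
    (α O U f).app X (e O U n i h) =
      ∑ ρ, (O.obj.map h.op (f ρ i) : O.obj.obj X) • e O U r ρ h := by
  change (ModuleCat.freeDesc _) (ModuleCat.freeMk _) = _
  rw [ModuleCat.freeDesc_apply]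
  rfl

noncomputable def coord (k : ℕ) {V : C} (i : Fin k) (g : V ⟶ U) :
    (FM O U k).obj (op V) →ₗ[O.obj.obj (op V)] O.obj.obj (op V) := by
  exact (Finsupp.lapply ((ULift.up i, g) : (Φ U k).obj (op V)) :
    ((Φ U k).obj (op V) →₀ O.obj.obj (op V)) →ₗ[O.obj.obj (op V)] O.obj.obj (op V))

open Classical in
lemma coord_e (k : ℕ) {V : C} (i i' : Fin k) (g h : V ⟶ U) :
    coord O U k i g (e O U k i' h) = if i' = i ∧ h = g then 1 else 0 := by
  change (Finsupp.single ((ULift.up i', h) : (Φ U k).obj (op V)) (1 : O.obj.obj (op V)))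
    ((ULift.up i, g) : (Φ U k).obj (op V)) = _
  rw [Finsupp.single_apply]
  congr 1
  apply propext
  constructor
  · intro hh
    have h1 := congrArg Prod.fst hh
    have h2 := congrArg Prod.snd hh
    exact ⟨ULift.up_injective h1, h2⟩
  · rintro ⟨rfl, rfl⟩
    rfl

lemma coord_α {V : C} (ρ : Fin r) (g : V ⟶ U) (κ : (FM O U n).obj (op V)) :
    coord O U r ρ g ((α O U f).app (op V) κ) =
      ∑ i, (O.obj.map g.op (f ρ i) : O.obj.obj (op V)) * coord O U n i g κ := by
  classical
  have key : ∀ (x : (Φ U n).obj (op V)) (b : O.obj.obj (op V)),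
      coord O U r ρ g ((α O U f).app (op V) (b • e O U n x.1.down x.2)) =
      ∑ i, (O.obj.map g.op (f ρ i) : O.obj.obj (op V)) *
        coord O U n i g (b • e O U n x.1.down x.2) := by
    rintro ⟨⟨i⟩, h⟩ b
    simp only [map_smul, α_app_e, map_sum, coord_e, smul_eq_mul]
    by_cases hg : h = g
    · subst hg
      simp [mul_comm]
    · simp [hg]
  have h0 : coord O U r ρ g ((α O U f).app (op V) 0) =
      ∑ i, (O.obj.map g.op (f ρ i) : O.obj.obj (op V)) * coord O U n i g 0 := by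
    simp
  have hadd : ∀ κ₁ κ₂ : (FM O U n).obj (op V),
      (coord O U r ρ g ((α O U f).app (op V) κ₁) =
        ∑ i, (O.obj.map g.op (f ρ i) : O.obj.obj (op V)) * coord O U n i g κ₁) →
      (coord O U r ρ g ((α O U f).app (op V) κ₂) =
        ∑ i, (O.obj.map g.op (f ρ i) : O.obj.obj (op V)) * coord O U n i g κ₂) →
      coord O U r ρ g ((α O U f).app (op V) (κ₁ + κ₂)) =
        ∑ i, (O.obj.map g.op (f ρ i) : O.obj.obj (op V)) * coord O U n i g (κ₁ + κ₂) := by
    intro κ₁ κ₂ h1 h2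
    simp only [map_add, h1, h2, mul_add, Finset.sum_add_distrib]
  exact Finsupp.induction_linear (motive := fun κ : (Φ U n).obj (op V) →₀ O.obj.obj (op V) =>
      coord O U r ρ g ((α O U f).app (op V) κ) =
        ∑ i, (O.obj.map g.op (f ρ i) : O.obj.obj (op V)) * coord O U n i g κ) κ h0 hadd
    (fun x b => by
      have := key x b
      have hx' : (Finsupp.single x b : (Φ U n).obj (op V) →₀ O.obj.obj (op V)) =
          b • (Finsupp.single x 1 : (Φ U n).obj (op V) →₀ O.obj.obj (op V)) := by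
        rw [Finsupp.smul_single, smul_eq_mul, mul_one]
      have hx : (Finsupp.single x b : (Φ U n).obj (op V) →₀ O.obj.obj (op V)) =
          b • e O U n x.1.down x.2 := hx'
      rw [hx]
      exact this)

noncomputable def ev {V : C} (P : PMod O) (j : Fin n) (g : V ⟶ U) :
    ((FM O U n).obj (op V)) ⊗[O.obj.obj (op V)] (P.obj (op V)) →ₗ[O.obj.obj (op V)]
      P.obj (op V) :=
  (TensorProduct.lid (O.obj.obj (op V)) (P.obj (op V))).toLinearMap ∘ₗ
    LinearMap.rTensor (P.obj (op V)) (coord O U n j g)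

lemma ev_tmul {V : C} (P : PMod O) (j : Fin n) (g : V ⟶ U) (κ : (FM O U n).obj (op V))
    (t : P.obj (op V)) : ev O U P j g (κ ⊗ₜ t) = coord O U n j g κ • t := by
  simp [ev]

lemma decode1 {V : C} (P : PMod O) (g : V ⟶ U) (sg : Fin n → P.obj (op V)) {l : ℕ}
    (κ : Fin l → (FM O U n).obj (op V)) (t : Fin l → P.obj (op V))
    (h : ∑ j', (e O U n j' g) ⊗ₜ[O.obj.obj (op V)] (sg j') =
      ∑ k, (κ k) ⊗ₜ[O.obj.obj (op V)] (t k)) (j : Fin n) :
    sg j = ∑ k, coord O U n j g (κ k) • t k := by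
  classical
  have h2 := congrArg (ev O U P j g) h
  rw [map_sum, map_sum] at h2
  simp_rw [ev_tmul, coord_e] at h2
  rw [← h2]
  simp

theorem eqCrit_forward' (F : Mod O) (hF : IsFlat F)
    (s : Fin n → ((fgt O).obj F).obj (op U)) (hrel : ∀ ρ, ∑ j, f ρ j • s j = 0) :
    ∃ S ∈ J U, ∀ ⦃V : C⦄ (g : V ⟶ U), S g →
      ∃ (l : ℕ) (t : Fin l → ((fgt O).obj F).obj (op V)) (a : Fin n → Fin l → O.obj.obj (op V)),
        (∀ j, res ((fgt O).obj F) g.op (s j) = ∑ k, a j k • t k) ∧
        (∀ ρ k, ∑ j, a j k * O.obj.map g.op (f ρ j) = 0) := by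
  classical
  let P := (fgt O).obj F
  let z : ((FM O U n).obj (op U)) ⊗[O.obj.obj (op U)] (P.obj (op U)) :=
    ∑ j, (e O U n j (𝟙 U)) ⊗ₜ[O.obj.obj (op U)] (s j)
  have hz : (α O U f ▷ P).app (op U) z = 0 := by
    have h1 : (α O U f ▷ P).app (op U) z =
        ∑ j, ((α O U f).app (op U) (e O U n j (𝟙 U))) ⊗ₜ[O.obj.obj (op U)] (s j) := by
      exact (map_sum ((α O U f ▷ P).app (op U)).hom _ _).trans
        (Finset.sum_congr rfl fun j _ => rfl)
    rw [h1]
    have h2 : ∀ j, (α O U f).app (op U) (e O U n j (𝟙 U)) =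
        ∑ ρ, f ρ j • e O U r ρ (𝟙 U) := by
      intro j
      rw [α_app_e]
      refine Finset.sum_congr rfl fun ρ _ => ?_
      congr 1
      change (O.obj.map (𝟙 (op U))) (f ρ j) = f ρ j
      rw [O.obj.map_id]
      rfl
    simp_rw [h2, TensorProduct.sum_tmul, TensorProduct.smul_tmul]
    rw [Finset.sum_comm]
    simp_rw [← TensorProduct.tmul_sum, hrel, TensorProduct.tmul_zero, Finset.sum_const_zero]
    rfl
  obtain ⟨S, hS, h⟩ := local_exactness O F hF (α O U f) U z hz
  refine ⟨S, hS, ?_⟩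
  intro V g hg
  obtain ⟨l, κ, t, hκ, hres⟩ := h g hg
  refine ⟨l, t, fun j k => coord O U n j g (κ k), ?_, ?_⟩
  · intro j
    have h1 : res ((FM O U n) ⊗ P) g.op z =
        ∑ j', (e O U n j' g) ⊗ₜ[O.obj.obj (op V)] (res P g.op (s j')) := by
      refine (res_sum ((FM O U n) ⊗ P) g.op Finset.univ
        (fun j' => (e O U n j' (𝟙 U)) ⊗ₜ[O.obj.obj (op U)] (s j'))).trans
        (Finset.sum_congr rfl fun j' _ => ?_)
      refine (res_tmul (FM O U n) P g.op (e O U n j' (𝟙 U)) (s j')).trans ?_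
      congr 1
      refine (FM_map_e O U n g.op j' (𝟙 U)).trans ?_
      change e O U n j' (g ≫ 𝟙 U) = e O U n j' g
      rw [Category.comp_id]
    exact decode1 O U P g (fun j' => res P g.op (s j')) κ t (h1.symm.trans hres) j
  · intro ρ k
    have := coord_α O U f ρ g (κ k)
    rw [hκ k, map_zero] at this
    rw [this]
    refine Finset.sum_congr rfl fun j _ => mul_comm _ _

end Decode

end Groth.Agent.Lib.Helper42.EqCrit
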