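import Groth.Agent.Lib.Helper42.EqCrit

set_option autoImplicit false

namespace Groth.Agent.Lib.Helper42.EqCrit

universe u
open CategoryTheory MonoidalCategory Limits Opposite ModSite TensorProduct
open Groth.Agent.Lib.Helper42.TensorSheaf Groth.Agent.Lib.Helper42.TensorColim
open Groth.Agent.Lib.Helper42.Flat Groth.Agent.Lib.Helper42.Flat2 Groth.Agent.Lib.Helper42.Proj
open Groth.Agent.Lib.Helper42.TensorLoc

variable {C : Type u} [SmallCategory C] {J : GrothendieckTopology C} (O : Sheaf J CommRingCat.{u})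

def Crit (P : PMod O) (r : ℕ) : Prop :=
  ∀ (U : C) (n : ℕ) (f : Fin r → Fin n → O.obj.obj (op U)) (s : Fin n → P.obj (op U)),
    (∀ ρ, ∑ j, f ρ j • s j = 0) →
    ∃ S ∈ J U, ∀ ⦃V : C⦄ (g : V ⟶ U), S g →
      ∃ (l : ℕ) (t : Fin l → P.obj (op V)) (a : Fin n → Fin l → O.obj.obj (op V)),
        (∀ j, res P g.op (s j) = ∑ k, a j k • t k) ∧
        (∀ ρ k, ∑ j, a j k * (O.obj.map g.op).hom (f ρ j) = 0)

variable {O}

lemma crit_zero (P : PMod O) : Crit O P 0 := by
  classical
  intro U n f s _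
  refine ⟨⊤, J.top_mem U, ?_⟩
  intro V g _
  refine ⟨n, fun j => res P g.op (s j), fun j k => if j = k then 1 else 0, ?_, ?_⟩
  · intro j
    simp
  · intro ρ
    exact ρ.elim0

lemma res_smul' (P : PMod O) {X Y : Cᵒᵖ} (g : X ⟶ Y) (a : O.obj.obj X) (x : P.obj X) :
    res P g (a • x) = ((O.obj.map g).hom a) • res P g x :=
  res_smul P g a x

lemma crit_succ (P : PMod O) (r : ℕ) (h1 : Crit O P 1) (hr : Crit O P r) : Crit O P (r + 1) := by
  classical
  intro U n f s hrel
  obtain ⟨S₁, hS₁, hdata⟩ := hr U n (fun ρ => f ρ.castSucc) s (fun ρ => hrel ρ.castSucc)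
  choose l t a ha1 ha2 using hdata
  have hc : ∀ ⦃V : C⦄ (g : V ⟶ U) (hg : S₁ g),
      ∑ k, (∑ j, a g hg j k * (O.obj.map g.op).hom (f (Fin.last r) j)) • t g hg k = 0 := by
    intro V g hg
    have h0 := congrArg (res P g.op) (hrel (Fin.last r))
    rw [res_sum, res_zero] at h0
    rw [← h0]
    simp_rw [res_smul', ha1 g hg, Finset.smul_sum, Finset.sum_smul, smul_smul]
    rw [Finset.sum_comm]
    refine Finset.sum_congr rfl fun j _ => Finset.sum_congr rfl fun k _ => ?_
    rw [mul_comm]
  have hdata2 := fun ⦃V : C⦄ (g : V ⟶ U) (hg : S₁ g) =>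
    h1 V (l g hg) (fun _ k => ∑ j, a g hg j k * (O.obj.map g.op).hom (f (Fin.last r) j))
      (t g hg) (fun _ => hc g hg)
  choose S₂ hS₂ hdata3 using hdata2
  refine ⟨Sieve.bind S₁ (fun V g hg => S₂ g hg), J.bind_covering hS₁ (fun V g hg => hS₂ g hg), ?_⟩
  rintro W k ⟨V, h, g, hg, hh, rfl⟩
  obtain ⟨l', t', a', hb1, hb2⟩ := hdata3 g hg h hh
  refine ⟨l', t', fun j m => ∑ k, (O.obj.map h.op).hom (a g hg j k) * a' k m, ?_, ?_⟩
  · intro j
    rw [op_comp, res_comp, ha1 g hg j, res_sum]
    simp_rw [res_smul', hb1, Finset.smul_sum, Finset.sum_smul, smul_smul]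
    rw [Finset.sum_comm]
  · intro ρ m
    have hmap : ∀ x : O.obj.obj (op U), (O.obj.map (h ≫ g).op).hom x =
        (O.obj.map h.op).hom ((O.obj.map g.op).hom x) := by
      intro x
      rw [op_comp, Functor.map_comp]
      rfl
    simp_rw [hmap, Finset.sum_mul]
    rw [Finset.sum_comm]
    induction ρ using Fin.lastCases with
    | last =>
      have := hb2 0 m
      rw [← this]
      refine Finset.sum_congr rfl fun k _ => ?_
      rw [map_sum, Finset.mul_sum]
      refine Finset.sum_congr rfl fun j _ => ?_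
      rw [map_mul]
      ring
    | cast ρ =>
      have : ∀ k, ∑ j, (O.obj.map h.op).hom (a g hg j k) * a' k m *
          (O.obj.map h.op).hom ((O.obj.map g.op).hom (f ρ.castSucc j)) =
          a' k m * (O.obj.map h.op).hom (∑ j, a g hg j k * (O.obj.map g.op).hom (f ρ.castSucc j)) := by
        intro k
        rw [map_sum, Finset.mul_sum]
        refine Finset.sum_congr rfl fun j _ => ?_
        rw [map_mul]
        ring
      simp_rw [this, ha2 g hg ρ, map_zero, mul_zero, Finset.sum_const_zero]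

theorem crit_all (P : PMod O) (h1 : Crit O P 1) : ∀ r, Crit O P r := by
  intro r
  induction r with
  | zero => exact crit_zero P
  | succ r ih => exact crit_succ P r h1 ih

variable (O)

lemma mono_shf_of_isLocallyInjective {A B : PMod O} (ψ : A ⟶ B)
    (h : Presheaf.IsLocallyInjective J ((PresheafOfModules.toPresheaf _).map ψ)) :
    Mono ((shf O).map ψ) := by
  have h1 : Sheaf.IsLocallyInjective
      ((presheafToSheaf J AddCommGrpCat).map ((PresheafOfModules.toPresheaf _).map ψ)) :=
    (Presheaf.isLocallyInjective_presheafToSheaf_map_iff J _).mpr h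
  have h2 : Mono ((presheafToSheaf J AddCommGrpCat).map ((PresheafOfModules.toPresheaf _).map ψ)) :=
    Sheaf.mono_of_isLocallyInjective _
  have h3 : Mono ((SheafOfModules.toSheaf.{u} (ringSh O)).map ((shf O).map ψ)) := h2
  exact (SheafOfModules.toSheaf.{u} (ringSh O)).mono_of_mono_map h3

variable {O}

theorem zeroSieve_mem_of_crit (F : Mod O) (hcrit : ∀ r, Crit O ((fgt O).obj F) r)
    {M M' : PMod O} (φ : M ⟶ M') (hφ : ∀ X, Function.Injective (φ.app X)) {X : Cᵒᵖ}
    (z : (M.obj X) ⊗[O.obj.obj X] (((fgt O).obj F).obj X))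
    (hz : (φ ▷ (fgt O).obj F).app X z = 0) :
    zeroSieve (M ⊗ (fgt O).obj F) z ∈ J X.unop := by
  classical
  let N := (fgt O).obj F
  obtain ⟨s, p, n, rfl⟩ := TensorProduct.exists_sum_tmul_eq z
  have hz' : ∑ k, (φ.app X).hom (p k) ⊗ₜ[O.obj.obj X] n k = 0 := by
    have e := map_sum ((φ ▷ N).app X).hom (fun k => p k ⊗ₜ[O.obj.obj X] n k) Finset.univ
    exact e.symm.trans hz
  have hz'' : ∑ k, (LinearMap.id (R := O.obj.obj X) (M := N.obj X)) (n k) ⊗ₜ[O.obj.obj X]
      ((φ.app X).hom (p k)) = 0 := by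
    have := congrArg (TensorProduct.comm (O.obj.obj X) (M'.obj X) (N.obj X)) hz'
    rw [map_sum, map_zero] at this
    exact this
  obtain ⟨e, q, κ, a, b, y, h1, h2, h3⟩ := exists_vanishing_data
    (LinearMap.id (R := O.obj.obj X) (M := N.obj X)) n (fun k => (φ.app X).hom (p k)) hz''
  let fmat : Fin κ → Fin (s + e) → O.obj.obj (op X.unop) := fun j =>
    Fin.addCases (fun k => a k j) (fun l => b l j)
  let sec : Fin (s + e) → N.obj (op X.unop) := Fin.addCases n q
  have hrel : ∀ j, ∑ i, fmat j i • sec i = 0 := by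
    intro j
    rw [Fin.sum_univ_add]
    simp only [fmat, sec, Fin.addCases_left, Fin.addCases_right]
    exact h3 j
  obtain ⟨S, hS, hdata⟩ := hcrit κ X.unop (s + e) fmat sec hrel
  refine J.superset_covering ?_ hS
  intro W g hg
  obtain ⟨l, t, c, hc1, hc2⟩ := hdata g hg
  change res (M ⊗ N) g.op (∑ k, p k ⊗ₜ[O.obj.obj X] n k) = 0
  rw [res_sum]
  let w : Fin l → M.obj (op W) := fun m => ∑ k, c (Fin.castAdd e k) m • res M g.op (p k)
  have hw : ∀ m, w m = 0 := by
    intro m
    apply hφ (op W)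
    rw [map_zero]
    simp only [w, map_sum, map_smul]
    have hp : ∀ k, φ.app (op W) (res M g.op (p k)) =
        ∑ j, (O.obj.map g.op).hom (a k j) • res M' g.op (y j) := by
      intro k
      rw [naturality_res]
      have := congrArg (res M' g.op) (h1 k)
      rw [res_sum] at this
      simp_rw [res_smul'] at this
      exact this
    simp_rw [hp, Finset.smul_sum, smul_smul]
    rw [Finset.sum_comm]
    have hrel2 : ∀ j, ∑ k, c (Fin.castAdd e k) m * (O.obj.map g.op).hom (a k j) =
        - ∑ l', c (Fin.natAdd s l') m * (O.obj.map g.op).hom (b l' j) := by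
      intro j
      have := hc2 j m
      rw [Fin.sum_univ_add] at this
      simp only [fmat, Fin.addCases_left, Fin.addCases_right] at this
      exact eq_neg_of_add_eq_zero_left this
    simp_rw [← Finset.sum_smul, hrel2, neg_smul, Finset.sum_neg_distrib, Finset.sum_smul]
    rw [neg_eq_zero, Finset.sum_comm]
    have hb : ∀ l', ∑ j, (O.obj.map g.op).hom (b l' j) • res M' g.op (y j) = 0 := by
      intro l'
      have := congrArg (res M' g.op) (h2 l')
      rw [res_sum, res_zero] at this
      simp_rw [res_smul'] at this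
      exact this
    simp_rw [mul_smul, ← Finset.smul_sum, hb, smul_zero, Finset.sum_const_zero]
  have e1 : ∑ k, res (M ⊗ N) g.op (p k ⊗ₜ[O.obj.obj X] n k) =
      ∑ m, (w m) ⊗ₜ[O.obj.obj (op W)] (t m) := by
    have hn : ∀ k, res N g.op (n k) = ∑ m, c (Fin.castAdd e k) m • t m := by
      intro k
      have := hc1 (Fin.castAdd e k)
      simp only [sec, Fin.addCases_left] at this
      exact this
    have hk : ∀ k, res (M ⊗ N) g.op (p k ⊗ₜ[O.obj.obj X] n k) =
        ∑ m, (c (Fin.castAdd e k) m • res M g.op (p k)) ⊗ₜ[O.obj.obj (op W)] (t m) := by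
      intro k
      rw [res_tmul, hn, TensorProduct.tmul_sum]
      refine Finset.sum_congr rfl fun m _ => ?_
      rw [TensorProduct.smul_tmul]
    simp_rw [hk]
    refine Finset.sum_comm.trans ?_
    refine Finset.sum_congr rfl fun m _ => ?_
    exact (TensorProduct.sum_tmul _ _ _).symm
  rw [e1]
  simp_rw [hw, TensorProduct.zero_tmul, Finset.sum_const_zero]
  rfl

theorem isFlat_of_crit (F : Mod O) (h1 : Crit O ((fgt O).obj F) 1) : IsFlat F := by
  have hall := crit_all ((fgt O).obj F) h1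
  rw [isFlat_iff_preservesMono]
  constructor
  intro G' G g hg
  have h2 : PreservesFiniteLimits (fgt O) :=
    inferInstanceAs (PreservesFiniteLimits (SheafOfModules.forget (ringSh O)))
  have m : Mono ((fgt O).map g) := inferInstance
  have hinj : ∀ X, Function.Injective (((fgt O).map g).app X) :=
    fun X => PresheafOfModules.injective_of_mono _ X
  change Mono ((shf O).map ((fgt O).map g ▷ (fgt O).obj F))
  apply mono_shf_of_isLocallyInjective
  constructor
  intro X x y h
  change (((fgt O).obj G').obj X) ⊗[O.obj.obj X] (((fgt O).obj F).obj X) at x y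
  have hz : ((fgt O).map g ▷ (fgt O).obj F).app X (x - y) = 0 := by
    have e := map_sub (((fgt O).map g ▷ (fgt O).obj F).app X).hom x y
    exact e.trans (sub_eq_zero.mpr h)
  refine J.superset_covering ?_ (zeroSieve_mem_of_crit F hall ((fgt O).map g) hinj (x - y) hz)
  intro Y f hf
  have hf' : res ((fgt O).obj G' ⊗ (fgt O).obj F) f.op (x - y) = 0 := hf
  have e := res_sub ((fgt O).obj G' ⊗ (fgt O).obj F) f.op x y
  exact sub_eq_zero.mp (e.symm.trans hf')

theorem isFlat_iff_crit (F : Mod O) :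
    IsFlat F ↔
      ∀ (U : C) (n : ℕ) (f : Fin n → O.obj.obj (op U)) (s : Fin n → ModSite.sect F U),
        ∑ j, f j • s j = 0 →
        ∃ S ∈ J U, ∀ ⦃V : C⦄ (g : V ⟶ U), S g →
          ∃ (l : ℕ) (t : Fin l → ModSite.sect F V) (a : Fin n → Fin l → O.obj.obj (op V)),
            (∀ j, (F.val.map g.op).hom (s j) = ∑ k, a j k • t k) ∧
            (∀ k, ∑ j, a j k * (O.obj.map g.op).hom (f j) = 0) := by
  constructor
  · intro hF U n f s hrel
    obtain ⟨S, hS, h⟩ := eqCrit_forward' O U (r := 1) (fun _ => f) F hF s (fun _ => hrel)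
    refine ⟨S, hS, ?_⟩
    intro V g hg
    obtain ⟨l, t, a, h1, h2⟩ := h g hg
    exact ⟨l, t, a, h1, fun k => h2 0 k⟩
  · intro h
    apply isFlat_of_crit
    intro U n f s hrel
    obtain ⟨S, hS, h'⟩ := h U n (f 0) s (hrel 0)
    refine ⟨S, hS, ?_⟩
    intro V g hg
    obtain ⟨l, t, a, h1, h2⟩ := h' g hg
    refine ⟨l, t, a, h1, fun ρ k => ?_⟩
    have : ρ = 0 := Subsingleton.elim _ _
    rw [this]
    exact h2 k

end Groth.Agent.Lib.Helper42.EqCrit
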