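import Groth.Agent.Lib.Helper42.DeltaExt
import Mathlib.CategoryTheory.Adjunction.Additive

/-! `Ext^n(F P, N) ≅ Ext^n(P, G N)` for an adjunction `F ⊣ G` with `G` exact and preserving
injectives; additive change of universe for `Ext`. -/

set_option autoImplicit false

namespace Groth.Agent.Lib.Helper42.ExtAdj

universe w w' v v' u u'
open CategoryTheory Limits Opposite Abelian
open Groth.Agent.Lib.Helper42.DeltaFun Groth.Agent.Lib.Helper42.DeltaExt

section chg

variable {C : Type u} [Category.{v} C] [Abelian C] [HasExt.{w} C] [HasExt.{w'} C]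

/-- additive change of universe for `Ext` -/
noncomputable def chgUnivAddEquiv (X Y : C) (n : ℕ) : Ext.{w} X Y n ≃+ Ext.{w'} X Y n :=
  letI := HasDerivedCategory.standard C
  (Ext.homAddEquiv.{_, w} (X := X) (Y := Y) (n := n)).trans
    (Ext.homAddEquiv.{_, w'} (X := X) (Y := Y) (n := n)).symm

end chg

variable {C : Type u} [Category.{v} C] [Abelian C] {C' : Type u'} [Category.{v'} C'] [Abelian C']
variable [HasExt.{w} C] [HasExt.{w} C']
variable {F : C' ⥤ C} {G : C ⥤ C'} (adj : F ⊣ G) [G.Additive]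

lemma addEquiv₀_comp_mk₀ {A B B' : C} (x : Ext.{w} A B 0) (φ : B ⟶ B') :
    Ext.addEquiv₀ (x.comp (Ext.mk₀ φ) (add_zero 0)) = Ext.addEquiv₀ x ≫ φ := by
  apply Ext.addEquiv₀.symm.injective
  rw [AddEquiv.symm_apply_apply, Ext.addEquiv₀_symm_apply, ← Ext.mk₀_comp_mk₀,
    Ext.mk₀_addEquiv₀_apply]

/-- the degree `0` comparison -/
noncomputable def zeroEquiv (P : C') (N : C) :
    Ext.{w} (F.obj P) N 0 ≃+ Ext.{w} P (G.obj N) 0 :=
  haveI : F.Additive := adj.left_adjoint_additive
  (Ext.addEquiv₀.trans (adj.homAddEquiv P N)).trans Ext.addEquiv₀.symm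

variable [PreservesFiniteLimits G] [PreservesFiniteColimits G]

/-- the degree `0` comparison as a natural isomorphism -/
noncomputable def zeroIso (P : C') :
    (ofExt (F.obj P)).T 0 ≅ ((ofExt P).precomp G).T 0 :=
  NatIso.ofComponents (fun N => (zeroEquiv adj P N).toAddCommGrpIso) (by
    intro N N' φ
    have : F.Additive := adj.left_adjoint_additive
    ext x
    change zeroEquiv adj P N' (x.comp (Ext.mk₀ φ) (add_zero 0)) =
      (zeroEquiv adj P N x).comp (Ext.mk₀ (G.map φ)) (add_zero 0)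
    apply Ext.addEquiv₀.injective
    rw [addEquiv₀_comp_mk₀]
    change Ext.addEquiv₀ (Ext.addEquiv₀.symm (adj.homAddEquiv P N' (Ext.addEquiv₀ _))) =
      Ext.addEquiv₀ (Ext.addEquiv₀.symm (adj.homAddEquiv P N (Ext.addEquiv₀ x))) ≫ G.map φ
    rw [AddEquiv.apply_symm_apply, AddEquiv.apply_symm_apply, addEquiv₀_comp_mk₀]
    exact adj.homEquiv_naturality_right _ _)

variable [EnoughInjectives C] [G.PreservesInjectiveObjects]

/-- `Ext^n(F P, -) ≅ Ext^n(P, G -)` -/
noncomputable def extIso (P : C') (n : ℕ) :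
    extFunctorObj (F.obj P) n ≅ G ⋙ extFunctorObj P n :=
  DeltaFunctor.isoOfZero (A := ofExt (F.obj P)) (B := (ofExt P).precomp G)
    (ofExt_eff _) (DeltaFunctor.precomp_eff _ G (ofExt_eff _)) (zeroIso adj P) n

/-- `Ext^n(F P, N) ≃+ Ext^n(P, G N)` -/
noncomputable def extEquiv (P : C') (N : C) (n : ℕ) :
    Ext.{w} (F.obj P) N n ≃+ Ext.{w} P (G.obj N) n :=
  ((extIso adj P n).app N).addCommGroupIsoToAddEquiv

end Groth.Agent.Lib.Helper42.ExtAdj
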