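import Groth.Agent.Lib.Helper42.LocRestr
import Groth.Agent.Lib.Helper42.ExtAdj
import Groth.Agent.Lib.Helper53.ModGroth

/-! Excision for `F ↦ F/F_U` on a ringed site: if `U`, `V` cover and `V` is subterminal, then
`M/M_U ≅ j_{V!}((M|_V)/(M|_V)_{U×V})`. -/

set_option autoImplicit false
set_option linter.style.haveILetI false
set_option linter.unusedSectionVars false

namespace Groth.Agent.Lib.Helper42.Excision

universe u
open CategoryTheory Limits Opposite ModSite
open Groth.Agent.Lib.Helper42.ExtZero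
open Groth.Agent.Lib.Helper42.QuotExact Groth.Agent.Lib.Helper42.QuotSectAdj
open Groth.Agent.Lib.Helper42.LocRestr

variable {C : Type u} [SmallCategory C] {J : GrothendieckTopology C} (O : Sheaf J CommRingCat.{u})

section general

variable (U : C)

lemma counit_comp_eq_zero_iff {A N : Mod O} (φ : A ⟶ N) :
    (extZeroAdj O U).counit.app A ≫ φ = 0 ↔ (restr O U).map φ = 0 :=
  (ExtSupp.mem_homZ_iff U φ).symm

lemma restr_π_eq_zero (M : Mod O) : (restr O U).map ((quotOnπ O U).app M) = 0 := by
  rw [← counit_comp_eq_zero_iff]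
  exact counit_π O U M

/-- a morphism vanishing on the members of a covering of the final object vanishes -/
lemma eq_zero_of_coversTop {ι : Type*} (Y : ι → C) (hY : J.CoversTop Y) {M N : Mod O} (φ : M ⟶ N)
    (h : ∀ i, (restr O (Y i)).map φ = 0) : φ = 0 := by
  apply SheafOfModules.hom_ext
  apply PresheafOfModules.hom_ext
  intro X
  ext m
  refine N.isSheaf.isSeparated _ _ (hY X.unop) _ _ ?_
  intro Z a ha
  obtain ⟨i, ⟨b⟩⟩ := ha
  have h1 := (restr_map_eq_zero_iff O (Y i) φ).1 (h i) (Over.mk b)
  have h2 := PresheafOfModules.naturality_apply φ.val a.op m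
  have h3 : (ConcreteCategory.hom (φ.val.app (op Z))) ((ConcreteCategory.hom (M.val.map a.op)) m) = 0 := by
    have : φ.val.app (op Z) = 0 := h1
    rw [this]
    rfl
  have h4 : (ConcreteCategory.hom (N.val.map a.op)) ((ConcreteCategory.hom (φ.val.app X)) m) = 0 :=
    h2.symm.trans h3
  have h5 : (ModuleCat.Hom.hom ((SheafOfModules.Hom.val (0 : M ⟶ N)).app X)) m = 0 := rfl
  rw [h5]
  exact h4.trans (map_zero (N.val.presheaf.map a.op).hom).symm

end general

section products

/-- the localised site at a subterminal object has binary products -/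
lemma hasBinaryProducts_over [HasBinaryProducts C] (V : C) (hV : ∀ X : C, Subsingleton (X ⟶ V)) :
    HasBinaryProducts (Over V) := by
  have : ∀ A B : Over V, HasBinaryProduct A B := by
    intro A B
    refine ⟨⟨⟨BinaryFan.mk (P := Over.mk ((prod.fst : A.left ⨯ B.left ⟶ A.left) ≫ A.hom))
      (Over.homMk prod.fst rfl) (Over.homMk prod.snd ((hV _).elim _ _)), ?_⟩⟩⟩
    refine BinaryFan.isLimitMk
      (fun s => Over.homMk (prod.lift s.fst.left s.snd.left) ((hV _).elim _ _)) ?_ ?_ ?_
    · intro s
      ext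
      exact prod.lift_fst _ _
    · intro s
      ext
      exact prod.lift_snd _ _
    · intro s m h1 h2
      ext
      apply Limits.prod.hom_ext
      · rw [← h1]
        exact (prod.lift_fst _ _).symm
      · rw [← h2]
        exact (prod.lift_snd _ _).symm
  exact hasBinaryProducts_of_hasLimit_pair _

end products

section iso

variable [HasBinaryProducts C] (U X : C) [HasPushOver (O.over X) (UX U X)]

/-- `(j_{X!} K)/(j_{X!} K)_U ≅ j_{X!}(K/K_{U×X})` -/
noncomputable def quotExtIso :
    extZero O X ⋙ quotOn O U ≅ quotOn (O.over X) (UX U X) ⋙ extZero O X :=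
  ((extZeroAdj O X).comp (QuotSectAdj.adj O U)).leftAdjointUniq
    (((QuotSectAdj.adj (O.over X) (UX U X)).comp (extZeroAdj O X)).ofNatIsoRight
      (sectNatIso O U X).symm)

end iso

section gamma

variable (U V : C) (hV : ∀ X : C, Subsingleton (X ⟶ V))
  (hUV : J.CoversTop (fun b : Bool => cond b U V))

include hV in
lemma mono_extZero_counit (M : Mod O) : Mono ((extZeroAdj O V).counit.app M) := by
  rw [counit_eq]
  have := SubTerm.mono_adjL_counit O V hV M
  exact mono_comp _ _

/-- the comparison `(j_{V!}(M|_V))/(…)_U ⟶ M/M_U` -/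
noncomputable def gamma (M : Mod O) :
    (quotOn O U).obj ((extZero O V).obj ((restr O V).obj M)) ⟶ (quotOn O U).obj M :=
  (quotOn O U).map ((extZeroAdj O V).counit.app M)

include hV in
lemma mono_gamma (M : Mod O) : Mono (gamma O U V M) := by
  have := mono_extZero_counit O V hV M
  exact quotOn_map_mono O U _

include hUV in
lemma epi_gamma (M : Mod O) : Epi (gamma O U V M) := by
  apply Preadditive.epi_of_cancel_zero
  intro N χ hχ
  have h1 : (extZeroAdj O V).counit.app M ≫ (quotOnπ O U).app M ≫ χ = 0 := by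
    have hn : (extZeroAdj O V).counit.app M ≫ (quotOnπ O U).app M =
        (quotOnπ O U).app _ ≫ gamma O U V M :=
      (quotOnπ O U).naturality ((extZeroAdj O V).counit.app M)
    rw [← Category.assoc, hn, Category.assoc, hχ, comp_zero]
  have h2 : (restr O V).map ((quotOnπ O U).app M ≫ χ) = 0 :=
    (counit_comp_eq_zero_iff O V _).1 h1
  have h3 : (restr O U).map ((quotOnπ O U).app M ≫ χ) = 0 := by
    rw [Functor.map_comp, restr_π_eq_zero, zero_comp]
  have h4 : (quotOnπ O U).app M ≫ χ = 0 := by
    apply eq_zero_of_coversTop O _ hUV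
    rintro (_ | _)
    · exact h2
    · exact h3
  rw [← cancel_epi ((quotOnπ O U).app M), h4, comp_zero]

include hV hUV in
lemma isIso_gamma (M : Mod O) : IsIso (gamma O U V M) := by
  have := mono_gamma O U V hV M
  have := epi_gamma O U V hUV M
  exact isIso_of_mono_of_epi _

variable [HasBinaryProducts C] [HasPushOver (O.over V) (UX U V)]

include hV hUV in
/-- excision: `M/M_U ≅ j_{V!}((M|_V)/(M|_V)_{U×V})` -/
lemma nonempty_iso (M : Mod O) :
    Nonempty ((quotOn O U).obj M ≅
      (extZero O V).obj ((quotOn (O.over V) (UX U V)).obj ((restr O V).obj M))) := by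
  have := isIso_gamma O U V hV hUV M
  exact ⟨(asIso (gamma O U V M)).symm ≪≫ (quotExtIso O U V).app ((restr O V).obj M)⟩

end gamma

section ext

universe w w' v' u'

/-- `Ext` is invariant under isomorphisms in the first variable -/
noncomputable def extCongrLeft {𝒜 : Type u'} [Category.{v'} 𝒜] [Abelian 𝒜] [HasExt.{w} 𝒜]
    {A A' : 𝒜} (e : A ≅ A') (N : 𝒜) (n : ℕ) :
    Abelian.Ext.{w} A N n ≃+ Abelian.Ext.{w} A' N n :=
  ((((Abelian.extFunctor.{w} n).mapIso e.op).app N).addCommGroupIsoToAddEquiv).symm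

theorem main [HasBinaryProducts C] {O : Sheaf J CommRingCat.{u}} [HasExt.{w} (ModSite.Mod O)]
    (U V : C) [HasExt.{w'} (ModSite.Mod (O.over V))]
    (hV : ∀ X : C, Subsingleton (X ⟶ V)) (hUV : J.CoversTop (fun b : Bool => cond b U V))
    (M N : ModSite.Mod O) (i : ℕ) :
    Nonempty (ExtSupp.ExtZ U M N i ≃+
      ExtSupp.ExtZover V (Over.mk (prod.snd : U ⨯ V ⟶ V)) M N i) := by
  haveI := hasBinaryProducts_over V hV
  obtain ⟨e⟩ := nonempty_iso O U V hV hUV M
  have : IsGrothendieckAbelian.{u} (ModSite.Mod O) :=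
    Groth.Agent.Lib.Helper53.ModGroth.isGrothendieckAbelian J (ModSite.ringSh O)
  have : IsGrothendieckAbelian.{u} (ModSite.Mod (O.over V)) :=
    Groth.Agent.Lib.Helper53.ModGroth.isGrothendieckAbelian (J.over V) (ModSite.ringSh (O.over V))
  have : HasExt.{u} (ModSite.Mod O) := IsGrothendieckAbelian.hasExt _
  have : HasExt.{u} (ModSite.Mod (O.over V)) := IsGrothendieckAbelian.hasExt _
  have : EnoughInjectives (ModSite.Mod O) := inferInstance
  exact ⟨(((extCongrLeft.{w} e N i).trans
    (Groth.Agent.Lib.Helper42.ExtAdj.chgUnivAddEquiv.{w, u} _ _ _)).trans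
    (Groth.Agent.Lib.Helper42.ExtAdj.extEquiv.{u} (ModSite.extZeroAdj O V)
      ((quotOn (O.over V) (UX U V)).obj ((ModSite.restr O V).obj M)) N i)).trans
    (Groth.Agent.Lib.Helper42.ExtAdj.chgUnivAddEquiv.{u, w'} _ _ _)⟩

end ext

end Groth.Agent.Lib.Helper42.Excision
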