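import Groth.Agent.Lib.Helper42.RestrTensor
import Mathlib.Algebra.DirectSum.Module

set_option autoImplicit false

namespace Groth.Agent.Lib.Helper42.ExtPre

universe u
open CategoryTheory MonoidalCategory Limits Opposite ModSite DirectSum
open Groth.Agent.Lib.Helper42.TensorSheaf Groth.Agent.Lib.Helper42.RestrTensor

variable {C : Type u} [SmallCategory C] {J : GrothendieckTopology C} (O : Sheaf J CommRingCat.{u})
  (U : C)

abbrev R₀ : Cᵒᵖ ⥤ RingCat.{u} := O.obj ⋙ forget₂ CommRingCat.{u} RingCat.{u}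

variable {O U}

def cmp (G : PMod (O.over U)) {V : C} (φ : V ⟶ U) : ModuleCat.{u} ((R₀ O).obj (op V)) :=
  G.obj (op (Over.mk φ))

noncomputable def cmpMap (G : PMod (O.over U)) {V W : C} (g : W ⟶ V) (φ : V ⟶ U) :
    cmp G φ →ₛₗ[((R₀ O).map g.op).hom] cmp G (g ≫ φ) :=
  G.restrictₛₗ (Over.homMk g : Over.mk (g ≫ φ) ⟶ Over.mk φ).op

open Classical in
noncomputable def ofc (G : PMod (O.over U)) {V : C} (φ : V ⟶ U) :
    cmp G φ →ₗ[(R₀ O).obj (op V)] (⨁ ψ : V ⟶ U, cmp G ψ) :=
  DirectSum.lof ((R₀ O).obj (op V)) (V ⟶ U) (fun ψ => cmp G ψ) φ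

lemma ofc_congr (G : PMod (O.over U)) {W : C} {ψ ψ' : W ⟶ U} (h : ψ = ψ') {X : Over U}
    (a : Over.mk ψ ⟶ X) (a' : Over.mk ψ' ⟶ X) (ha : a.left = a'.left) (x : G.obj (op X)) :
    ofc G ψ (G.map a.op x) = ofc G ψ' (G.map a'.op x) := by
  subst h
  have : a = a' := Over.OverMorphism.ext ha
  rw [this]

open Classical in
noncomputable def secMapAdd (G : PMod (O.over U)) {V W : C} (g : W ⟶ V) :
    (⨁ φ : V ⟶ U, cmp G φ) →+ (⨁ ψ : W ⟶ U, cmp G ψ) :=
  DirectSum.toAddMonoid (fun φ => (ofc G (g ≫ φ)).toAddMonoidHom.comp (cmpMap G g φ).toAddMonoidHom)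

lemma secMapAdd_ofc (G : PMod (O.over U)) {V W : C} (g : W ⟶ V) (φ : V ⟶ U) (x : cmp G φ) :
    secMapAdd G g (ofc G φ x) = ofc G (g ≫ φ) (cmpMap G g φ x) := by
  classical
  exact DirectSum.toAddMonoid_of _ _ _

lemma sec_induction (G : PMod (O.over U)) {V : C} {p : (⨁ φ : V ⟶ U, cmp G φ) → Prop}
    (m : ⨁ φ : V ⟶ U, cmp G φ) (h0 : p 0) (h1 : ∀ φ x, p (ofc G φ x))
    (h2 : ∀ a b, p a → p b → p (a + b)) : p m := by
  classical
  exact DirectSum.induction_on m h0 h1 h2

lemma secMapAdd_smul (G : PMod (O.over U)) {V W : C} (g : W ⟶ V)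
    (r : (R₀ O).obj (op V)) (m : ⨁ φ : V ⟶ U, cmp G φ) :
    secMapAdd G g (r • m) = ((R₀ O).map g.op).hom r • secMapAdd G g m := by
  induction m using sec_induction with
  | h0 => simp
  | h1 φ x =>
    rw [← map_smul, secMapAdd_ofc, secMapAdd_ofc, map_smulₛₗ, map_smul]
  | h2 a b ha hb => rw [smul_add, map_add, ha, hb, map_add, smul_add]

lemma secMapAdd_id (G : PMod (O.over U)) {V : C} (m : ⨁ φ : V ⟶ U, cmp G φ) :
    secMapAdd G (𝟙 V) m = m := by
  induction m using sec_induction with
  | h0 => simp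
  | h1 φ x =>
    rw [secMapAdd_ofc]
    have := ofc_congr G (Category.id_comp φ) (Over.homMk (𝟙 V) : Over.mk (𝟙 V ≫ φ) ⟶ Over.mk φ)
      (𝟙 (Over.mk φ)) rfl x
    refine this.trans ?_
    congr 1
    exact CategoryTheory.congr_fun (G.map_id _) x
  | h2 a b ha hb => rw [map_add, ha, hb]

lemma secMapAdd_comp (G : PMod (O.over U)) {V W T : C} (g : W ⟶ V) (k : T ⟶ W)
    (m : ⨁ φ : V ⟶ U, cmp G φ) :
    secMapAdd G (k ≫ g) m = secMapAdd G k (secMapAdd G g m) := by
  induction m using sec_induction with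
  | h0 => simp
  | h1 φ x =>
    rw [secMapAdd_ofc, secMapAdd_ofc, secMapAdd_ofc]
    have := ofc_congr G (Category.assoc k g φ)
      (Over.homMk (k ≫ g) : Over.mk ((k ≫ g) ≫ φ) ⟶ Over.mk φ)
      ((Over.homMk k : Over.mk (k ≫ g ≫ φ) ⟶ Over.mk (g ≫ φ)) ≫
        (Over.homMk g : Over.mk (g ≫ φ) ⟶ Over.mk φ)) rfl x
    refine this.trans ?_
    congr 1
    exact G.map_comp_apply _ _ x
  | h2 a b ha hb => rw [map_add, ha, hb, map_add, map_add]

noncomputable def extAb (G : PMod (O.over U)) : Cᵒᵖ ⥤ Ab.{u} where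
  obj X := AddCommGrpCat.of (⨁ φ : X.unop ⟶ U, cmp G φ)
  map g := AddCommGrpCat.ofHom (secMapAdd G g.unop)
  map_id X := by
    refine AddCommGrpCat.hom_ext (AddMonoidHom.ext fun m => ?_)
    exact secMapAdd_id G m
  map_comp f g := by
    refine AddCommGrpCat.hom_ext (AddMonoidHom.ext fun m => ?_)
    exact secMapAdd_comp G f.unop g.unop m

noncomputable instance (G : PMod (O.over U)) (X : Cᵒᵖ) :
    Module ((R₀ O).obj X) ((extAb G).obj X) :=
  inferInstanceAs (Module ((R₀ O).obj X) (⨁ φ : X.unop ⟶ U, cmp G φ))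

noncomputable def extObj (G : PMod (O.over U)) : PMod O :=
  PresheafOfModules.ofPresheaf (extAb G) (fun _ _ f r m => secMapAdd_smul G f.unop r m)

noncomputable def ι (G : PMod (O.over U)) {V : C} (φ : V ⟶ U) :
    cmp G φ →ₗ[(R₀ O).obj (op V)] (extObj G).obj (op V) := ofc G φ

lemma ι_injective (G : PMod (O.over U)) {V : C} (φ : V ⟶ U) : Function.Injective (ι G φ) := by
  classical
  exact DirectSum.of_injective (β := fun ψ : V ⟶ U => cmp G ψ) φ

lemma ext_induction (G : PMod (O.over U)) {V : C} {p : (extObj G).obj (op V) → Prop}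
    (m : (extObj G).obj (op V)) (h0 : p 0) (h1 : ∀ φ x, p (ι G φ x))
    (h2 : ∀ a b, p a → p b → p (a + b)) : p m :=
  sec_induction G (p := p) m h0 h1 h2

lemma extObj_map_ι (G : PMod (O.over U)) {V W : C} (g : W ⟶ V) (φ : V ⟶ U) (x : cmp G φ) :
    (extObj G).map g.op (ι G φ x) = ι G (g ≫ φ) (cmpMap G g φ x) :=
  secMapAdd_ofc G g φ x

lemma ι_congr (G : PMod (O.over U)) {W : C} {ψ ψ' : W ⟶ U} (h : ψ = ψ') {X : Over U}
    (a : Over.mk ψ ⟶ X) (a' : Over.mk ψ' ⟶ X) (ha : a.left = a'.left) (x : G.obj (op X)) :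
    ι G ψ (G.map a.op x) = ι G ψ' (G.map a'.op x) :=
  ofc_congr G h a a' ha x

structure DescData (G : PMod (O.over U)) (Q : PMod O) where
  t : ∀ {V : C} (φ : V ⟶ U), cmp G φ →ₗ[(R₀ O).obj (op V)] Q.obj (op V)
  compat : ∀ {V W : C} (g : W ⟶ V) (φ : V ⟶ U) (x : cmp G φ),
    Q.map g.op (t φ x) = t (g ≫ φ) (cmpMap G g φ x)

open Classical in
noncomputable def descLin {G : PMod (O.over U)} {Q : PMod O} (d : DescData G Q) (V : C) :
    (extObj G).obj (op V) →ₗ[(R₀ O).obj (op V)] Q.obj (op V) :=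
  DirectSum.toModule _ _ _ (fun φ => d.t φ)

lemma descLin_ι {G : PMod (O.over U)} {Q : PMod O} (d : DescData G Q) {V : C} (φ : V ⟶ U)
    (x : cmp G φ) : descLin d V (ι G φ x) = d.t φ x := by
  classical
  exact DirectSum.toModule_lof _ _ _

noncomputable def desc {G : PMod (O.over U)} {Q : PMod O} (d : DescData G Q) : extObj G ⟶ Q :=
  PresheafOfModules.homMk
    { app := fun X => AddCommGrpCat.ofHom (descLin d X.unop).toAddMonoidHom
      naturality := by
        intro X Y f
        refine AddCommGrpCat.hom_ext ?_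
        classical
        refine DirectSum.addHom_ext fun φ x => ?_
        change descLin d Y.unop (secMapAdd G f.unop (ofc G φ x)) =
          Q.map f (descLin d X.unop (ofc G φ x))
        rw [secMapAdd_ofc]
        have h1 := descLin_ι d φ x
        have h2 := descLin_ι d (f.unop ≫ φ) (cmpMap G f.unop φ x)
        refine h2.trans ?_
        refine Eq.trans ?_ (congrArg (Q.map f) h1.symm)
        exact (d.compat f.unop φ x).symm }
    (fun X r m => (descLin d X.unop).map_smul r m)

lemma desc_app_ι {G : PMod (O.over U)} {Q : PMod O} (d : DescData G Q) {V : C} (φ : V ⟶ U)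
    (x : cmp G φ) : (desc d).app (op V) (ι G φ x) = d.t φ x :=
  descLin_ι d φ x

lemma ext_hom_ext {G : PMod (O.over U)} {Q : PMod O} (f f' : extObj G ⟶ Q)
    (h : ∀ {V : C} (φ : V ⟶ U) (x : cmp G φ), f.app (op V) (ι G φ x) = f'.app (op V) (ι G φ x)) :
    f = f' := by
  refine PresheafOfModules.hom_ext fun X => ModuleCat.hom_ext ?_
  classical
  refine DirectSum.linearMap_ext _ fun φ => LinearMap.ext fun x => ?_
  exact h φ x

noncomputable def extMap {G G' : PMod (O.over U)} (f : G ⟶ G') : extObj G ⟶ extObj G' :=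
  desc
    { t := fun φ => (ι G' φ).comp (f.app (op (Over.mk φ))).hom
      compat := by
        intro V W g φ x
        change (extObj G').map g.op (ι G' φ (f.app (op (Over.mk φ)) x)) =
          ι G' (g ≫ φ) (f.app (op (Over.mk (g ≫ φ))) (cmpMap G g φ x))
        rw [extObj_map_ι]
        congr 1
        exact (PresheafOfModules.naturality_apply f
          (Over.homMk g : Over.mk (g ≫ φ) ⟶ Over.mk φ).op x).symm }

lemma extMap_app_ι {G G' : PMod (O.over U)} (f : G ⟶ G') {V : C} (φ : V ⟶ U) (x : cmp G φ) :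
    (extMap f).app (op V) (ι G φ x) = ι G' φ (f.app (op (Over.mk φ)) x) :=
  desc_app_ι _ φ x

noncomputable def appAdd {G G' : PMod (O.over U)} (f : G ⟶ G') (V : C) :
    (⨁ φ : V ⟶ U, cmp G φ) →+ (⨁ φ : V ⟶ U, cmp G' φ) :=
  ((extMap f).app (op V)).hom.toAddMonoidHom

lemma appAdd_eq_map {G G' : PMod (O.over U)} (f : G ⟶ G') (V : C) :
    appAdd f V = DirectSum.map (fun φ : V ⟶ U => ((f.app (op (Over.mk φ))).hom.toAddMonoidHom :
        cmp G φ →+ cmp G' φ)) := by
  classical
  refine DirectSum.addHom_ext fun φ x => ?_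
  have h1 := extMap_app_ι f φ x
  have h2 := DirectSum.map_of (fun φ : V ⟶ U => ((f.app (op (Over.mk φ))).hom.toAddMonoidHom :
        cmp G φ →+ cmp G' φ)) φ x
  exact h1.trans h2.symm

lemma extMap_app_injective {G G' : PMod (O.over U)} (f : G ⟶ G')
    (hf : ∀ X, Function.Injective (f.app X)) (X : Cᵒᵖ) :
    Function.Injective ((extMap f).app X) := by
  have h : Function.Injective (appAdd f X.unop) := by
    rw [appAdd_eq_map]
    exact (DirectSum.map_injective _).mpr (fun φ => hf (op (Over.mk φ)))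
  exact h

variable (O U) in
noncomputable def extPre : PMod (O.over U) ⥤ PMod O where
  obj G := extObj G
  map f := extMap f
  map_id G := by
    refine ext_hom_ext _ _ fun φ x => ?_
    rw [extMap_app_ι]
    rfl
  map_comp f g := by
    refine ext_hom_ext _ _ fun φ x => ?_
    rw [extMap_app_ι]
    change _ = (extMap g).app _ ((extMap f).app _ (ι _ φ x))
    rw [extMap_app_ι, extMap_app_ι]
    rfl

noncomputable def unitApp (G : PMod (O.over U)) : G ⟶ (pushPre O U).obj (extObj G) :=
  PresheafOfModules.homMk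
    { app := fun X => AddCommGrpCat.ofHom (ι G X.unop.hom).toAddMonoidHom
      naturality := by
        intro X Y a
        refine AddCommGrpCat.hom_ext (AddMonoidHom.ext fun x => ?_)
        change ι G Y.unop.hom (G.map a x) = (extObj G).map (a.unop.left).op (ι G X.unop.hom x)
        rw [extObj_map_ι]
        exact ι_congr G (Over.w a.unop).symm a.unop (Over.homMk a.unop.left) rfl x }
    (fun X r m => (ι G X.unop.hom).map_smul r m)

lemma unitApp_app (G : PMod (O.over U)) (X : (Over U)ᵒᵖ) (x : G.obj X) :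
    (unitApp G).app X x = ι G X.unop.hom x := rfl

noncomputable def counitData (Q : PMod O) : DescData ((pushPre O U).obj Q) Q where
  t := fun φ => LinearMap.id
  compat := by
    intro V W g φ x
    rfl

noncomputable def counitApp (Q : PMod O) : extObj ((pushPre O U).obj Q) ⟶ Q :=
  desc (counitData Q)

lemma counitApp_app_ι (Q : PMod O) {V : C} (φ : V ⟶ U) (x : Q.obj (op V)) :
    (counitApp (U := U) Q).app (op V) (ι ((pushPre O U).obj Q) φ x) = x :=
  desc_app_ι (counitData Q) φ x

variable (O U) in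
noncomputable def adjPre : extPre O U ⊣ pushPre O U :=
  Adjunction.mkOfUnitCounit
    { unit :=
        { app := fun G => unitApp G
          naturality := by
            intro G G' f
            refine PresheafOfModules.hom_ext fun X => ModuleCat.hom_ext (LinearMap.ext fun x => ?_)
            change ι G' X.unop.hom (f.app X x) = (extMap f).app _ (ι G X.unop.hom x)
            rw [extMap_app_ι]
            rfl }
      counit :=
        { app := fun Q => counitApp Q
          naturality := by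
            intro Q Q' q
            refine ext_hom_ext _ _ fun φ x => ?_
            change (counitApp Q').app _ ((extMap ((pushPre O U).map q)).app _ (ι _ φ x)) =
              q.app _ ((counitApp Q).app _ (ι _ φ x))
            rw [extMap_app_ι, counitApp_app_ι, counitApp_app_ι]
            rfl }
      left_triangle := by
        ext G : 2
        refine ext_hom_ext _ _ fun φ x => ?_
        change (counitApp (extObj G)).app _ ((extMap (unitApp G)).app _ (ι G φ x)) = ι G φ x
        rw [extMap_app_ι, counitApp_app_ι]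
        rfl
      right_triangle := by
        ext Q : 2
        refine PresheafOfModules.hom_ext fun X => ModuleCat.hom_ext (LinearMap.ext fun x => ?_)
        change (counitApp Q).app _ (ι _ X.unop.hom x) = x
        exact counitApp_app_ι Q _ x }

end Groth.Agent.Lib.Helper42.ExtPre
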