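import Groth.Agent.Lib.Helper42.ExtSuppSS
import Groth.Agent.Lib.Helper42.Proj

/-! `R^q(N ↦ Γ_Z ℋom(M, N)) ≅ Ext^q(M/M_U, -)` on a ringed site. -/

set_option autoImplicit false

namespace Groth.Agent.Lib.Helper42.ExtSuppR

universe u
open CategoryTheory Limits Opposite ModSite Abelian
open Groth.Agent.Lib.Helper42.QuotExact Groth.Agent.Lib.Helper42.DeltaFun
  Groth.Agent.Lib.Helper42.DeltaExt Groth.Agent.Lib.Helper42.DeltaRDer
  Groth.Agent.Lib.Helper42.ExtSuppSS Groth.Agent.Lib.Helper42.Proj
  Groth.Agent.Lib.Helper42.TensorColim Groth.Agent.Lib.Helper42.Flat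
  Groth.Agent.Lib.Helper42.Flat2 Groth.Agent.Lib.Helper42.RestrTensor

variable {C : Type u} [SmallCategory C] {J : GrothendieckTopology C} (O : Sheaf J CommRingCat.{u})
  (U : C) [HasPushOver O U] (M : Mod O)

/-- a map out of `A ⊗ M` kills `A_U ⊗ M` iff it vanishes on `U` -/
lemma tens_counit_comp_eq_zero_iff (A : Mod O) {N : Mod O} (φ : (tensR O M).obj A ⟶ N) :
    (tensR O M).map ((extZeroAdj O U).counit.app A) ≫ φ = 0 ↔ (restr O U).map φ = 0 := by
  constructor
  · intro h
    -- `φ` factors through `(A/A_U) ⊗ M`, which is null on `U`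
    let S : ShortComplex (Mod O) := ShortComplex.mk ((extZeroAdj O U).counit.app A)
      ((quotOnπ O U).app A) (cokernel.condition _)
    have hS : S.Exact := ShortComplex.exact_of_g_is_cokernel _ (cokernelIsCokernel _)
    have hg : Epi S.g := inferInstanceAs (Epi (cokernel.π ((extZeroAdj O U).counit.app A)))
    have hS' : (S.map (tensR O M)).Exact :=
      hS.map_of_epi_of_preservesCokernel (tensR O M) hg inferInstance
    have hg' : Epi (S.map (tensR O M)).g := by
      change Epi ((tensR O M).map S.g)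
      infer_instance
    let g' : (tensR O M).obj A ⟶ (tensR O M).obj ((quotOn O U).obj A) :=
      (tensR O M).map ((quotOnπ O U).app A)
    let φbar : (tensR O M).obj ((quotOn O U).obj A) ⟶ N := hS'.desc φ h
    have hfac : g' ≫ φbar = φ := hS'.g_desc φ h
    have hz : IsZero ((restr O U).obj ((tensR O M).obj ((quotOn O U).obj A))) := by
      refine IsZero.of_iso ?_ (restrTensorIso O U ((quotOn O U).obj A) M)
      exact Functor.map_isZero (tensR (O.over U) ((restr O U).obj M))
        (ExtSupp.isNullOn_quotOn O U A)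
    rw [← hfac, Functor.map_comp, hz.eq_of_tgt ((restr O U).map g') 0, zero_comp]
  · intro h
    let θ := (projFunIso O U M).app ((restr O U).obj A)
    have hθ : IsIso θ.hom := inferInstance
    rw [← cancel_epi θ.hom, comp_zero]
    apply ((extZeroAdj O U).homEquiv _ _).injective
    rw [Adjunction.homEquiv_unit, Adjunction.homEquiv_unit, Functor.map_comp, Functor.map_comp,
      h, comp_zero, comp_zero, Functor.map_zero, comp_zero]

section generic

/-- restriction of an additive equivalence to subgroups -/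
def restrictEquiv {A B : Type*} [AddCommGroup A] [AddCommGroup B] (e : A ≃+ B)
    (S : AddSubgroup A) (T : AddSubgroup B) (h : ∀ a, e a ∈ T ↔ a ∈ S) : S ≃+ T where
  toFun a := ⟨e a.1, (h a.1).2 a.2⟩
  invFun b := ⟨e.symm b.1, (h _).1 (by rw [AddEquiv.apply_symm_apply]; exact b.2)⟩
  left_inv a := Subtype.ext (e.symm_apply_apply a.1)
  right_inv b := Subtype.ext (e.apply_symm_apply b.1)
  map_add' a b := Subtype.ext (e.map_add a.1 b.1)

end generic

variable [HasSheafHom M]

instance : ((tensorBi O).flip.obj M).Additive := inferInstanceAs (tensR O M).Additive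

/-- `Hom(O, ℋom(M, N)) ≃ Hom(M, N)` -/
noncomputable def kappa (N : Mod O) : (ModSite.unit O ⟶ (sheafHom M).obj N) ≃+ (M ⟶ N) :=
  ((sheafHomAdj M).homAddEquiv (ModSite.unit O) N).symm.trans
    (homCongrAddEquiv ((tensLUnitIso O).app M) N)

lemma kappa_apply (N : Mod O) (φ : ModSite.unit O ⟶ (sheafHom M).obj N) :
    kappa O M N φ = ((tensLUnitIso O).app M).inv ≫
      ((sheafHomAdj M).homEquiv (ModSite.unit O) N).symm φ := rfl

lemma kappa_naturality {N N' : Mod O} (ψ : N ⟶ N') (φ : ModSite.unit O ⟶ (sheafHom M).obj N) :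
    kappa O M N' (φ ≫ (sheafHom M).map ψ) = kappa O M N φ ≫ ψ := by
  rw [kappa_apply, kappa_apply, Adjunction.homEquiv_naturality_right_symm]
  exact (Category.assoc _ _ _).symm

lemma kappa_mem_iff (N : Mod O) (φ : ModSite.unit O ⟶ (sheafHom M).obj N) :
    kappa O M N φ ∈ ExtSupp.homZ U M N ↔
      φ ∈ ExtSupp.homZ U (ModSite.unit O) ((sheafHom M).obj N) := by
  let φ' : (tensR O M).obj (ModSite.unit O) ⟶ N :=
    ((sheafHomAdj M).homEquiv (ModSite.unit O) N).symm φ
  let l : M ⟶ (tensR O M).obj (ModSite.unit O) := ((tensLUnitIso O).app M).inv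
  have hl : IsIso l := inferInstanceAs (IsIso ((tensLUnitIso O).app M).inv)
  have hk : kappa O M N φ = l ≫ φ' := rfl
  have s1 : kappa O M N φ ∈ ExtSupp.homZ U M N ↔ (restr O U).map φ' = 0 := by
    change (restr O U).map (kappa O M N φ) = 0 ↔ _
    rw [hk, Functor.map_comp]
    constructor
    · intro h
      exact (cancel_epi ((restr O U).map l)).1 (h.trans comp_zero.symm)
    · intro h
      rw [h, comp_zero]
  have s2 := tens_counit_comp_eq_zero_iff O U M (ModSite.unit O) φ'
  have e3 : ((sheafHomAdj M).homEquiv _ N).symm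
      ((extZeroAdj O U).counit.app (ModSite.unit O) ≫ φ) =
      (tensR O M).map ((extZeroAdj O U).counit.app (ModSite.unit O)) ≫ φ' :=
    Adjunction.homEquiv_naturality_left_symm _ _ _
  have s3 : (tensR O M).map ((extZeroAdj O U).counit.app (ModSite.unit O)) ≫ φ' = 0 ↔
      (extZeroAdj O U).counit.app (ModSite.unit O) ≫ φ = 0 := by
    rw [← e3]
    constructor
    · intro h
      apply ((sheafHomAdj M).homEquiv _ N).symm.injective
      rw [h]
      exact ((sheafHomAdj M).homAddEquiv _ N).symm.map_zero.symm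
    · intro h
      rw [h]
      exact ((sheafHomAdj M).homAddEquiv _ N).symm.map_zero
  exact s1.trans (s2.symm.trans (s3.trans (ExtSupp.mem_homZ_iff U φ).symm))

variable [HasExt.{u} (Mod O)]

/-- the degree zero comparison -/
noncomputable def zeroEquiv (N : Mod O) :
    (ModSite.unit O ⟶ (sectOn O U).obj ((sheafHom M).obj N)) ≃+ ExtSupp.ExtZ U M N 0 :=
  ((homSectEquiv U (ModSite.unit O) ((sheafHom M).obj N)).trans
    (restrictEquiv (kappa O M N) _ _ (kappa_mem_iff O U M N))).trans
    (ExtSupp.ext0Equiv U M N).symm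

lemma ext0Equiv_zeroEquiv (N : Mod O)
    (f : ModSite.unit O ⟶ (sectOn O U).obj ((sheafHom M).obj N)) :
    (ExtSupp.ext0Equiv U M N (zeroEquiv O U M N f)).1 =
      kappa O M N (f ≫ (sectOnι O U).app ((sheafHom M).obj N)) := by
  unfold zeroEquiv
  rw [AddEquiv.trans_apply, AddEquiv.apply_symm_apply]
  rfl

lemma zeroEquiv_naturality {N N' : Mod O} (ψ : N ⟶ N')
    (f : ModSite.unit O ⟶ (sectOn O U).obj ((sheafHom M).obj N)) :
    zeroEquiv O U M N' (f ≫ (sectOn O U).map ((sheafHom M).map ψ)) =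
      (zeroEquiv O U M N f).comp (Ext.mk₀ ψ) (add_zero 0) := by
  apply (ExtSupp.ext0Equiv U M N').injective
  apply Subtype.ext
  rw [ext0Equiv_zeroEquiv, ext0Equiv_comp_mk₀, ext0Equiv_zeroEquiv, ← kappa_naturality,
    Category.assoc, Category.assoc]
  congr 2
  exact (sectOnι O U).naturality ((sheafHom M).map ψ)

/-- `Γ(Γ_Z ℋom(M, -)) ≅ Ext^0(M/M_U, -)` -/
noncomputable def zeroIso :
    ExtSupp.gammaZHom U M ≅ extFunctorObj ((quotOn O U).obj M) 0 :=
  NatIso.ofComponents (fun N => (zeroEquiv O U M N).toAddCommGrpIso) (by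
    intro N N' ψ
    ext f
    exact zeroEquiv_naturality O U M ψ f)

variable [HasInjectiveResolutions (Mod O)]

instance : PreservesFiniteLimits (ExtSupp.gammaZHom U M) := by
  have h1 : PreservesFiniteLimits (preadditiveCoyoneda.obj (op ((quotOn O U).obj M))) :=
    inferInstance
  have h2 : PreservesFiniteLimits (extFunctorObj ((quotOn O U).obj M) 0) :=
    preservesFiniteLimits_of_natIso (homIso0 ((quotOn O U).obj M))
  exact preservesFiniteLimits_of_natIso (zeroIso O U M).symm

/-- `R^q(N ↦ Γ(Γ_Z ℋom(M, N))) ≅ Ext^q(M/M_U, -)` -/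
noncomputable def RIso (q : ℕ) :
    ExtSupp.ExtZR U M q ≅ extFunctorObj ((quotOn O U).obj M) q :=
  haveI : EnoughInjectives (Mod O) :=
    Groth.Agent.Lib.Helper68.GSSDer.enoughInjectives_of_hasInjectiveResolutions
  DeltaFunctor.isoOfZero
    (A := ofRightDerived (ExtSupp.gammaZHom U M))
    (B := ofExt ((quotOn O U).obj M)) (ofRightDerived_eff _) (ofExt_eff _)
    ((ExtSupp.gammaZHom U M).rightDerivedZeroIsoSelf ≪≫ zeroIso O U M) q

end Groth.Agent.Lib.Helper42.ExtSuppR
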