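import Groth.Agent.Lib.Helper42.QuotExact
import Groth.Agent.Lib.Helper42.DeltaExt
import Groth.Agent.Lib.Helper42.DeltaRDer
import Groth.Agent.Lib.Helper68.GSSDer7
import Mathlib.CategoryTheory.Preadditive.Yoneda.Limits

/-! The spectral sequence `Ext^p(M, ℋ^q_Z N) ⇒ Ext^{p+q}_Z(M, N)` on a ringed site. -/

set_option autoImplicit false

namespace Groth.Agent.Lib.Helper42.ExtSuppSS

universe u
open CategoryTheory Limits Opposite ModSite Abelian
open Groth.Agent.Lib.Helper42.QuotExact Groth.Agent.Lib.Helper42.DeltaFun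
  Groth.Agent.Lib.Helper42.DeltaExt Groth.Agent.Lib.Helper42.DeltaRDer

section general

variable {𝒜 : Type (u + 1)} [Category.{u} 𝒜] [Abelian 𝒜] [HasExt.{u} 𝒜]

lemma addEquiv₀_comp_mk₀ {A B B' : 𝒜} (x : Ext.{u} A B 0) (φ : B ⟶ B') :
    Ext.addEquiv₀ (x.comp (Ext.mk₀ φ) (add_zero 0)) = Ext.addEquiv₀ x ≫ φ := by
  apply Ext.addEquiv₀.symm.injective
  rw [AddEquiv.symm_apply_apply, Ext.addEquiv₀_symm_apply, ← Ext.mk₀_comp_mk₀,
    Ext.mk₀_addEquiv₀_apply]

/-- `Hom(M, -) ≅ Ext^0(M, -)` -/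
noncomputable def homIso0 (M : 𝒜) : preadditiveCoyoneda.obj (op M) ≅ extFunctorObj M 0 :=
  NatIso.ofComponents (fun N => (Ext.addEquiv₀ (X := M) (Y := N)).symm.toAddCommGrpIso) (by
    intro N N' φ
    ext f
    change Ext.mk₀ (f ≫ φ) = (Ext.mk₀ f).comp (Ext.mk₀ φ) (add_zero 0)
    rw [Ext.mk₀_comp_mk₀])

variable [HasInjectiveResolutions 𝒜]

/-- `R^p Hom(M, -) ≅ Ext^p(M, -)` -/
noncomputable def RHomIso (M : 𝒜) (p : ℕ) :
    (preadditiveCoyoneda.obj (op M)).rightDerived p ≅ extFunctorObj M p :=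
  haveI : EnoughInjectives 𝒜 :=
    Groth.Agent.Lib.Helper68.GSSDer.enoughInjectives_of_hasInjectiveResolutions
  DeltaFunctor.isoOfZero (A := ofRightDerived (preadditiveCoyoneda.obj (op M)))
    (B := ofExt M) (ofRightDerived_eff _) (ofExt_eff _)
    ((preadditiveCoyoneda.obj (op M)).rightDerivedZeroIsoSelf ≪≫ homIso0 M) p

end general

variable {C : Type u} [SmallCategory C] {J : GrothendieckTopology C} {O : Sheaf J CommRingCat.{u}}
  (U : C) [HasPushOver O U] (M : Mod O)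

/-- morphisms into `Γ_Z N` are the morphisms to `N` vanishing on `U` -/
noncomputable def homSectEquiv (N : Mod O) :
    (M ⟶ (sectOn O U).obj N) ≃+ ExtSupp.homZ U M N where
  toFun f := ⟨f ≫ (sectOnι O U).app N, by
    rw [ExtSupp.mem_homZ_iff, ← comp_unit_eq_zero_iff, Category.assoc]
    have : (sectOnι O U).app N ≫ (restrPushOverAdj O U).unit.app N = 0 := kernel.condition _
    rw [this, comp_zero]⟩
  invFun φ := kernel.lift _ φ.1 ((comp_unit_eq_zero_iff O U φ.1).2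
    ((ExtSupp.mem_homZ_iff U φ.1).1 φ.2))
  left_inv f := by
    have : Mono ((sectOnι O U).app N) :=
      inferInstanceAs (Mono (kernel.ι ((restrPushOverAdj O U).unit.app N)))
    rw [← cancel_mono ((sectOnι O U).app N)]
    exact kernel.lift_ι _ _ _
  right_inv φ := Subtype.ext (kernel.lift_ι _ _ _)
  map_add' f g := Subtype.ext (Preadditive.add_comp _ _ _ _ _ _)

variable [HasExt.{u} (Mod O)]

/-- the degree zero comparison -/
noncomputable def zeroEquiv (N : Mod O) :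
    (M ⟶ (sectOn O U).obj N) ≃+ ExtSupp.ExtZ U M N 0 :=
  (homSectEquiv U M N).trans (ExtSupp.ext0Equiv U M N).symm

lemma ext0Equiv_zeroEquiv (N : Mod O) (f : M ⟶ (sectOn O U).obj N) :
    (ExtSupp.ext0Equiv U M N (zeroEquiv U M N f)).1 = f ≫ (sectOnι O U).app N := by
  unfold zeroEquiv
  rw [AddEquiv.trans_apply, AddEquiv.apply_symm_apply]
  rfl

omit [HasPushOver O U] in
lemma ext0Equiv_comp_mk₀ {N N' : Mod O} (ψ : N ⟶ N') (x : ExtSupp.ExtZ U M N 0) :
    (ExtSupp.ext0Equiv U M N' (x.comp (Ext.mk₀ ψ) (add_zero 0))).1 =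
      (ExtSupp.ext0Equiv U M N x).1 ≫ ψ := by
  change (quotOnπ O U).app M ≫ Ext.addEquiv₀ (x.comp (Ext.mk₀ ψ) (add_zero 0)) =
    ((quotOnπ O U).app M ≫ Ext.addEquiv₀ x) ≫ ψ
  rw [addEquiv₀_comp_mk₀, Category.assoc]

lemma zeroEquiv_naturality {N N' : Mod O} (ψ : N ⟶ N') (f : M ⟶ (sectOn O U).obj N) :
    zeroEquiv U M N' (f ≫ (sectOn O U).map ψ) =
      (zeroEquiv U M N f).comp (Ext.mk₀ ψ) (add_zero 0) := by
  apply (ExtSupp.ext0Equiv U M N').injective
  apply Subtype.ext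
  rw [ext0Equiv_zeroEquiv, ext0Equiv_comp_mk₀, ext0Equiv_zeroEquiv, Category.assoc,
    Category.assoc]
  congr 1
  exact (sectOnι O U).naturality ψ

/-- `Hom(M, Γ_Z(-)) ≅ Ext^0(M/M_U, -)` -/
noncomputable def zeroIso :
    sectOn O U ⋙ preadditiveCoyoneda.obj (op M) ≅
      extFunctorObj ((quotOn O U).obj M) 0 :=
  NatIso.ofComponents (fun N => (zeroEquiv U M N).toAddCommGrpIso) (by
    intro N N' ψ
    ext f
    exact zeroEquiv_naturality U M ψ f)

variable [HasInjectiveResolutions (Mod O)]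

instance : PreservesFiniteLimits (sectOn O U ⋙ preadditiveCoyoneda.obj (op M)) := by
  have h1 : PreservesFiniteLimits (preadditiveCoyoneda.obj (op ((quotOn O U).obj M))) :=
    inferInstance
  have h2 : PreservesFiniteLimits (extFunctorObj ((quotOn O U).obj M) 0) :=
    preservesFiniteLimits_of_natIso (homIso0 ((quotOn O U).obj M))
  exact preservesFiniteLimits_of_natIso (zeroIso U M).symm

/-- `R^n Hom(M, Γ_Z(-)) ≅ Ext^n(M/M_U, -)` -/
noncomputable def RIso (n : ℕ) :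
    (sectOn O U ⋙ preadditiveCoyoneda.obj (op M)).rightDerived n ≅
      extFunctorObj ((quotOn O U).obj M) n :=
  haveI : EnoughInjectives (Mod O) :=
    Groth.Agent.Lib.Helper68.GSSDer.enoughInjectives_of_hasInjectiveResolutions
  DeltaFunctor.isoOfZero
    (A := ofRightDerived (sectOn O U ⋙ preadditiveCoyoneda.obj (op M)))
    (B := ofExt ((quotOn O U).obj M)) (ofRightDerived_eff _) (ofExt_eff _)
    ((sectOn O U ⋙ preadditiveCoyoneda.obj (op M)).rightDerivedZeroIsoSelf ≪≫ zeroIso U M) n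

lemma isZero_punit : IsZero (AddCommGrpCat.of PUnit.{u + 1}) :=
  AddCommGrpCat.isZero_of_subsingleton _

/-- the spectral sequence `Ext^p(M, ℋ^q_Z N) ⇒ Ext^{p+q}_Z(M, N)` -/
theorem ss (N : Mod O) :
    ∃ (E : E₂CohomologicalSpectralSequence AddCommGrpCat.{u})
      (a : SpSeq.Abutment E (fun n : ℤ =>
        if 0 ≤ n then AddCommGrpCat.of (ExtSupp.ExtZ U M N n.toNat) else AddCommGrpCat.of PUnit.{u + 1})),
      (∀ n, a.IsFinite n) ∧ SpSeq.IsBounded E ∧
      ∀ p q : ℤ, Nonempty ((E.page 2 le_rfl).X (p, q) ≅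
        (if 0 ≤ p ∧ 0 ≤ q then AddCommGrpCat.of (Abelian.Ext.{u} M ((ModSite.HZsh O U q.toNat).obj N) p.toNat)
         else AddCommGrpCat.of PUnit.{u + 1})) := by
  obtain ⟨E, a, h1, h2, h3⟩ := Groth.Agent.Lib.Helper68.GSSDer.exists_spectralSequence_of_iso
    (sectOn O U) (preadditiveCoyoneda.obj (op M))
    (fun Q hQ q hq => by
      obtain ⟨n, rfl⟩ : ∃ n, q = n + 1 := ⟨q - 1, by omega⟩
      have : Injective ((sectOn O U).obj Q) := sectOn_injective O U Q
      exact Functor.isZero_rightDerived_obj_injective_succ _ n _)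
    N
    (fun n : ℤ =>
        if 0 ≤ n then AddCommGrpCat.of (ExtSupp.ExtZ U M N n.toNat) else AddCommGrpCat.of PUnit.{u + 1})
    (fun n hn => (RIso U M n.toNat).app N ≪≫ eqToIso (by rw [if_pos hn]; rfl))
    (fun n hn => by rw [if_neg (by omega)]; exact isZero_punit)
  refine ⟨E, a, h1, h2, fun p q => ?_⟩
  obtain ⟨e⟩ := h3 p q
  by_cases hpq : 0 ≤ p ∧ 0 ≤ q
  · rw [if_pos hpq] at e ⊢
    exact ⟨e ≪≫ (RHomIso M p.toNat).app _⟩
  · rw [if_neg hpq] at e ⊢
    exact ⟨e ≪≫ (isZero_zero _).iso isZero_punit⟩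

end Groth.Agent.Lib.Helper42.ExtSuppSS
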