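import Groth.Agent.Lib.Helper42.QuotTensor
import Groth.Agent.Lib.Helper68.LocGlobExt
import Groth.Prelude.Def_ExtSupp

/-! The spectral sequence `H^p(C, ℰxt^q_{O,Z}(M, N)) ⇒ Ext^{p+q}_Z(M, N)` on a ringed site. -/

set_option autoImplicit false

namespace Groth.Agent.Lib.Helper42.ExtSuppSS2

universe u
open CategoryTheory Limits Opposite ModSite Abelian
open Groth.Agent.Lib.Helper42.QuotTensor Groth.Agent.Lib.Helper42.QuotSectAdj
open Groth.Agent.Lib.Helper42.TensorColim
open Groth.Agent.Lib.Helper68.LocGlobExt Groth.Agent.Lib.Helper68.InjModAcyclic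

variable {C : Type u} [SmallCategory C] {J : GrothendieckTopology C} (O : Sheaf J CommRingCat.{u})
  (U : C) [HasPushOver O U] (M : Mod O) [HasSheafHom M]

/-- `N ↦ Γ_Z ℋom(M, N)` -/
noncomputable abbrev T : Mod O ⥤ Mod O := sheafHom M ⋙ sectOn O U

instance : HasSheafHom ((quotOn O U).obj M) := hasSheafHom O _

instance : PreservesFiniteLimits (sheafHom M) :=
  haveI : (sheafHom M).IsRightAdjoint := (sheafHomAdj M).isRightAdjoint
  inferInstance

/-- global sections of `Γ_Z ℋom(M, X)` are the morphisms `M/M_U ⟶ X` -/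
noncomputable def θZ (X : Mod O) : (T O U M ⋙ S O).obj X ≃+ ((quotOn O U).obj M ⟶ X) :=
  (((S O).mapIso ((sectHomQuotIso U M).app X)).addCommGroupIsoToAddEquiv).trans
    (θ O ((quotOn O U).obj M) X)

lemma θZ_naturality {X X' : Mod O} (f : X ⟶ X') (x : (T O U M ⋙ S O).obj X) :
    θZ O U M X' ((T O U M ⋙ S O).map f x) = θZ O U M X x ≫ f := by
  have hn := (sectHomQuotIso U M).hom.naturality f
  have h1 : (S O).map ((T O U M).map f) ≫ (S O).map ((sectHomQuotIso U M).hom.app X') =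
      (S O).map ((sectHomQuotIso U M).hom.app X) ≫
        (S O).map ((sheafHom ((quotOn O U).obj M)).map f) := by
    rw [← Functor.map_comp, ← Functor.map_comp, hn]
  have h2 := congrArg (fun ψ => ψ.hom x) h1
  change θ O ((quotOn O U).obj M) X'
      ((S O).map ((sectHomQuotIso U M).hom.app X') ((S O).map ((T O U M).map f) x)) =
    θ O ((quotOn O U).obj M) X ((S O).map ((sectHomQuotIso U M).hom.app X) x) ≫ f
  rw [← θ_naturality]
  exact congrArg (θ O ((quotOn O U).obj M) X') h2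

variable [HasInjectiveResolutions (Mod O)] [HasExt.{u} (Mod O)]

theorem ss (N : Mod O) :
    ∃ (E : E₂CohomologicalSpectralSequence AddCommGrpCat.{u})
      (a : SpSeq.Abutment E (fun n : ℤ =>
        if 0 ≤ n then AddCommGrpCat.of (ExtSupp.ExtZ U M N n.toNat)
        else AddCommGrpCat.of PUnit.{u + 1})),
      (∀ n, a.IsFinite n) ∧ SpSeq.IsBounded E ∧
      ∀ p q : ℤ, Nonempty ((E.page 2 le_rfl).X (p, q) ≅
        (if 0 ≤ p ∧ 0 ≤ q then
          AddCommGrpCat.of (ModSite.HC O ((ModSite.extZSh U M q.toNat).obj N) p.toNat)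
         else AddCommGrpCat.of PUnit.{u + 1})) := by
  have hT : ∀ Q : Mod O, Injective Q → ∀ q : ℕ, 0 < q →
      IsZero (((S O).rightDerived q).obj ((T O U M).obj Q)) := by
    intro Q hQ q hq
    obtain ⟨q, rfl⟩ : ∃ q', q = q' + 1 := ⟨q - 1, by lia⟩
    refine IsZero.of_iso ?_ ((RSIso O (q + 1)).app ((T O U M).obj Q))
    have hacyc : CohCx.IsTotallyAcyclic (toAb ((T O U M).obj Q)) :=
      isTotallyAcyclic_of_iso
        ((SheafOfModules.toSheaf (ringSh O)).mapIso ((sectHomQuotIso U M).app Q).symm)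
        (Groth.Agent.Lib.Helper68.SheafHomFlasque.isTotallyAcyclic_sheafHom O
          ((quotOn O U).obj M) Q)
    have := subsingleton_H_of_isTotallyAcyclic (toAb ((T O U M).obj Q)) hacyc q
    exact AddCommGrpCat.isZero_of_subsingleton
      (AddCommGrpCat.of (Sheaf.H.{u} (toAb ((T O U M).obj Q)) (q + 1)))
  obtain ⟨E, a, ha, hb, hE⟩ := Groth.Agent.Lib.Helper68.GSSDer.exists_spectralSequence_of_iso
    (T O U M) (S O) hT N
    (fun n : ℤ => if 0 ≤ n then AddCommGrpCat.of (ExtSupp.ExtZ U M N n.toNat)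
        else AddCommGrpCat.of PUnit.{u + 1})
    (fun n hn => (Groth.Agent.Lib.Helper68.ExtRD.nonempty_iso (T O U M ⋙ S O)
      ((quotOn O U).obj M) (θZ O U M)
      (fun f x => θZ_naturality O U M f x) N n.toNat).some ≪≫ eqToIso (by rw [if_pos hn]))
    (fun n hn => by
      rw [if_neg (by lia)]
      exact AddCommGrpCat.isZero_of_subsingleton _)
  refine ⟨E, a, ha, hb, fun p q => ?_⟩
  obtain ⟨e⟩ := hE p q
  by_cases hpq : 0 ≤ p ∧ 0 ≤ q
  · rw [if_pos hpq] at e ⊢
    exact ⟨e ≪≫ (RSIso O p.toNat).app ((ModSite.extZSh U M q.toNat).obj N)⟩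
  · rw [if_neg hpq] at e ⊢
    exact ⟨e ≪≫ (isZero_zero _).iso (AddCommGrpCat.isZero_of_subsingleton _)⟩

end Groth.Agent.Lib.Helper42.ExtSuppSS2
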