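import Mathlib.CategoryTheory.Abelian.RightDerived
import Mathlib.Algebra.Homology.HomologySequenceLemmas
import Mathlib.Algebra.Homology.HomologicalComplexAbelian

/-! The long exact sequence of right derived functors attached to a short exact sequence of
additive functors `F₁ ⟶ F₂ ⟶ F₃` (exact on injective objects), evaluated at a fixed object:
`⋯ ⟶ RⁿF₁(X) ⟶ RⁿF₂(X) ⟶ RⁿF₃(X) ⟶ Rⁿ⁺¹F₁(X) ⟶ ⋯`, with naturality in `X`.
(Dual of `Groth.Agent.Lib.Helper68.FunctorSES`.) -/

set_option autoImplicit false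
universe v u v' u'

open CategoryTheory Category Limits

namespace Groth.Agent.Lib.Helper42.FunctorSESR

variable {C : Type u} [Category.{v} C] [Abelian C]
  {D : Type u'} [Category.{v'} D] [Abelian D]
  {F₁ F₂ F₃ : C ⥤ D} [F₁.Additive] [F₂.Additive] [F₃.Additive]
  (α : F₁ ⟶ F₂) (β : F₂ ⟶ F₃)

/-- the sequence of functors is short exact on injective objects -/
structure ExactOnInj : Prop where
  zero : α ≫ β = 0
  shortExact : ∀ (I : C) [Injective I],
    (ShortComplex.mk (α.app I) (β.app I)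
      (by rw [← NatTrans.comp_app, zero]; rfl)).ShortExact

variable {α β}

lemma rel_succ (n : ℕ) : (ComplexShape.up ℕ).Rel n (n + 1) := by simp

omit [Abelian C] [F₁.Additive] [F₂.Additive] [F₃.Additive] in
lemma ExactOnInj.app_zero (h : ExactOnInj α β) (Y : C) : α.app Y ≫ β.app Y = 0 := by
  rw [← NatTrans.comp_app, h.zero]; rfl

/-- the short complex of complexes `F₁(K) ⟶ F₂(K) ⟶ F₃(K)` -/
noncomputable def cx (h : ExactOnInj α β) (K : CochainComplex C ℕ) :
    ShortComplex (CochainComplex D ℕ) :=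
  ShortComplex.mk ((NatTrans.mapHomologicalComplex α (ComplexShape.up ℕ)).app K)
    ((NatTrans.mapHomologicalComplex β (ComplexShape.up ℕ)).app K) (by
      ext n
      exact h.app_zero (K.X n))

/-- functoriality of `cx` in the complex -/
noncomputable def cxMap (h : ExactOnInj α β) {K L : CochainComplex C ℕ} (φ : K ⟶ L) :
    cx h K ⟶ cx h L :=
  ShortComplex.homMk ((F₁.mapHomologicalComplex _).map φ) ((F₂.mapHomologicalComplex _).map φ)
    ((F₃.mapHomologicalComplex _).map φ)
    ((NatTrans.mapHomologicalComplex α (ComplexShape.up ℕ)).naturality φ)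
    ((NatTrans.mapHomologicalComplex β (ComplexShape.up ℕ)).naturality φ)

section

variable {X : C} (h : ExactOnInj α β) (P : InjectiveResolution X)

theorem cx_shortExact : (cx h P.cocomplex).ShortExact := by
  apply HomologicalComplex.shortExact_of_degreewise_shortExact
  intro n
  have := P.injective n
  exact h.shortExact (P.cocomplex.X n)

variable [HasInjectiveResolutions C]

/-- comparison isomorphism -/
noncomputable def iso₁ (n : ℕ) :
    (F₁.rightDerived n).obj X ≅ (cx h P.cocomplex).X₁.homology n :=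
  P.isoRightDerivedObj F₁ n

/-- comparison isomorphism -/
noncomputable def iso₂ (n : ℕ) :
    (F₂.rightDerived n).obj X ≅ (cx h P.cocomplex).X₂.homology n :=
  P.isoRightDerivedObj F₂ n

/-- comparison isomorphism -/
noncomputable def iso₃ (n : ℕ) :
    (F₃.rightDerived n).obj X ≅ (cx h P.cocomplex).X₃.homology n :=
  P.isoRightDerivedObj F₃ n

/-- the connecting morphism computed from a resolution -/
noncomputable def deltaAux (n : ℕ) :
    (F₃.rightDerived n).obj X ⟶ (F₁.rightDerived (n + 1)).obj X :=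
  (iso₃ h P n).hom ≫ (cx_shortExact h P).δ n (n + 1) (rel_succ n) ≫
    (iso₁ h P (n + 1)).inv

@[reassoc]
lemma sqα (n : ℕ) :
    (NatTrans.rightDerived α n).app X ≫ (iso₂ h P n).hom =
      (iso₁ h P n).hom ≫ HomologicalComplex.homologyMap (cx h P.cocomplex).f n := by
  rw [P.rightDerived_app_eq α n]
  simp only [assoc]
  erw [Iso.inv_hom_id, comp_id]
  rfl

@[reassoc]
lemma sqβ (n : ℕ) :
    (NatTrans.rightDerived β n).app X ≫ (iso₃ h P n).hom =
      (iso₂ h P n).hom ≫ HomologicalComplex.homologyMap (cx h P.cocomplex).g n := by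
  rw [P.rightDerived_app_eq β n]
  simp only [assoc]
  erw [Iso.inv_hom_id, comp_id]
  rfl

include h P in
lemma app_comp_app (n : ℕ) :
    (NatTrans.rightDerived α n).app X ≫ (NatTrans.rightDerived β n).app X = 0 := by
  rw [← cancel_mono (iso₃ h P n).hom, assoc, sqβ, sqα_assoc, zero_comp,
    ← HomologicalComplex.homologyMap_comp, (cx h P.cocomplex).zero,
    HomologicalComplex.homologyMap_zero, comp_zero]

lemma app_deltaAux (n : ℕ) :
    (NatTrans.rightDerived β n).app X ≫ deltaAux h P n = 0 := by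
  unfold deltaAux
  rw [sqβ_assoc, (cx_shortExact h P).comp_δ_assoc, zero_comp, comp_zero]

lemma deltaAux_app (n : ℕ) :
    deltaAux h P n ≫ (NatTrans.rightDerived α (n + 1)).app X = 0 := by
  unfold deltaAux
  rw [← cancel_mono (iso₂ h P (n + 1)).hom]
  simp only [assoc, zero_comp]
  rw [sqα, Iso.inv_hom_id_assoc, (cx_shortExact h P).δ_comp, comp_zero]

lemma exact₂_aux (n : ℕ) :
    (ShortComplex.mk ((NatTrans.rightDerived α n).app X) ((NatTrans.rightDerived β n).app X)
      (app_comp_app h P n)).Exact :=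
  (ShortComplex.exact_iff_of_iso (ShortComplex.isoMk (iso₁ h P n)
    (iso₂ h P n) (iso₃ h P n)
    (sqα h P n).symm (sqβ h P n).symm)).mpr
    ((cx_shortExact h P).homology_exact₂ n)

lemma exact₃_aux (n : ℕ) :
    (ShortComplex.mk ((NatTrans.rightDerived β n).app X) (deltaAux h P n)
      (app_deltaAux h P n)).Exact :=
  (ShortComplex.exact_iff_of_iso (ShortComplex.isoMk
    (iso₂ h P n) (iso₃ h P n) (iso₁ h P (n + 1))
    (sqβ h P n).symm (by simp [deltaAux]))).mpr
    ((cx_shortExact h P).homology_exact₃ n (n + 1) (rel_succ n))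

lemma exact₁_aux (n : ℕ) :
    (ShortComplex.mk (deltaAux h P n) ((NatTrans.rightDerived α (n + 1)).app X)
      (deltaAux_app h P n)).Exact :=
  (ShortComplex.exact_iff_of_iso (ShortComplex.isoMk
    (iso₃ h P n) (iso₁ h P (n + 1)) (iso₂ h P (n + 1))
    (by simp [deltaAux]) (sqα h P (n + 1)).symm)).mpr
    ((cx_shortExact h P).homology_exact₁ n (n + 1) (rel_succ n))

include h P in
lemma mono_aux : Mono ((NatTrans.rightDerived α 0).app X) := by
  have := (cx_shortExact h P).mono_f
  have h1 : Mono (HomologicalComplex.homologyMap (cx h P.cocomplex).f 0) :=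
    HomologicalComplex.mono_homologyMap_of_mono_of_not_rel _ 0 (by simp)
  have h2 := sqα h P 0
  have h3 : Mono ((NatTrans.rightDerived α 0).app X ≫ (iso₂ h P 0).hom) := by
    rw [h2]; infer_instance
  exact mono_of_mono _ (iso₂ h P 0).hom

lemma deltaAux_comp_iso (n : ℕ) :
    deltaAux h P n ≫ (iso₁ h P (n + 1)).hom =
      (iso₃ h P n).hom ≫ (cx_shortExact h P).δ n (n + 1) (rel_succ n) := by
  simp only [deltaAux, assoc, Iso.inv_hom_id, comp_id]

end

variable [HasInjectiveResolutions C] (h : ExactOnInj α β)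

/-- naturality of the connecting morphism computed from resolutions -/
theorem deltaAux_natural {X Y : C} (f : X ⟶ Y) (P : InjectiveResolution X)
    (Q : InjectiveResolution Y) (n : ℕ) :
    (F₃.rightDerived n).map f ≫ deltaAux h Q n =
      deltaAux h P n ≫ (F₁.rightDerived (n + 1)).map f := by
  let φ := InjectiveResolution.desc f Q P
  have hφ : P.ι.f 0 ≫ φ.f 0 = f ≫ Q.ι.f 0 := InjectiveResolution.desc_commutes_zero _ _ _
  have nat := HomologicalComplex.HomologySequence.δ_naturality (cxMap h φ) (cx_shortExact h P)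
    (cx_shortExact h Q) n (n + 1) (rel_succ n)
  have e3 : (F₃.rightDerived n).map f ≫ (iso₃ h Q n).hom =
      (iso₃ h P n).hom ≫ HomologicalComplex.homologyMap (cxMap h φ).τ₃ n :=
    InjectiveResolution.isoRightDerivedObj_hom_naturality f P Q φ hφ F₃ n
  have e1 : (F₁.rightDerived (n + 1)).map f ≫ (iso₁ h Q (n + 1)).hom =
      (iso₁ h P (n + 1)).hom ≫ HomologicalComplex.homologyMap (cxMap h φ).τ₁ (n + 1) :=
    InjectiveResolution.isoRightDerivedObj_hom_naturality f P Q φ hφ F₁ (n + 1)
  rw [← cancel_mono (iso₁ h Q (n + 1)).hom, assoc, assoc, deltaAux_comp_iso, reassoc_of% e3,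
    ← nat, e1, reassoc_of% (deltaAux_comp_iso h P n)]

/-- independence of the resolution -/
theorem deltaAux_eq {X : C} (P Q : InjectiveResolution X) (n : ℕ) :
    deltaAux h P n = deltaAux h Q n := by
  have := deltaAux_natural h (𝟙 X) P Q n
  simpa using this.symm

variable (X : C)

/-- the connecting morphism `RⁿF₃(X) ⟶ Rⁿ⁺¹F₁(X)` -/
noncomputable def δ (n : ℕ) : (F₃.rightDerived n).obj X ⟶ (F₁.rightDerived (n + 1)).obj X :=
  deltaAux h (injectiveResolution X) n

lemma δ_eq {X : C} (P : InjectiveResolution X) (n : ℕ) : δ h X n = deltaAux h P n :=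
  deltaAux_eq h _ _ n

/-- naturality of the connecting morphism -/
theorem δ_natural {X Y : C} (f : X ⟶ Y) (n : ℕ) :
    (F₃.rightDerived n).map f ≫ δ h Y n = δ h X n ≫ (F₁.rightDerived (n + 1)).map f :=
  deltaAux_natural h f _ _ n

/-- the connecting morphism as a natural transformation -/
noncomputable def δNat (n : ℕ) : F₃.rightDerived n ⟶ F₁.rightDerived (n + 1) where
  app X := δ h X n
  naturality _ _ f := δ_natural h f n

include h in
@[reassoc]
lemma app_comp_app' (n : ℕ) :
    (NatTrans.rightDerived α n).app X ≫ (NatTrans.rightDerived β n).app X = 0 :=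
  app_comp_app h (injectiveResolution X) n

@[reassoc (attr := simp)]
lemma app_δ (n : ℕ) : (NatTrans.rightDerived β n).app X ≫ δ h X n = 0 :=
  app_deltaAux h _ n

@[reassoc (attr := simp)]
lemma δ_app (n : ℕ) : δ h X n ≫ (NatTrans.rightDerived α (n + 1)).app X = 0 :=
  deltaAux_app h _ n

/-- exactness of `RⁿF₁(X) ⟶ RⁿF₂(X) ⟶ RⁿF₃(X)` -/
theorem exact₂ (n : ℕ) :
    (ShortComplex.mk ((NatTrans.rightDerived α n).app X) ((NatTrans.rightDerived β n).app X)
      (app_comp_app' h X n)).Exact :=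
  exact₂_aux h (injectiveResolution X) n

/-- exactness of `RⁿF₂(X) ⟶ RⁿF₃(X) ⟶ Rⁿ⁺¹F₁(X)` -/
theorem exact₃ (n : ℕ) :
    (ShortComplex.mk ((NatTrans.rightDerived β n).app X) (δ h X n) (app_δ h X n)).Exact :=
  exact₃_aux h _ n

/-- exactness of `RⁿF₃(X) ⟶ Rⁿ⁺¹F₁(X) ⟶ Rⁿ⁺¹F₂(X)` -/
theorem exact₁ (n : ℕ) :
    (ShortComplex.mk (δ h X n) ((NatTrans.rightDerived α (n + 1)).app X) (δ_app h X n)).Exact :=
  exact₁_aux h _ n

include h in
/-- `R⁰F₁(X) ⟶ R⁰F₂(X)` is a monomorphism -/
theorem mono_app_zero : Mono ((NatTrans.rightDerived α 0).app X) :=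
  mono_aux h (injectiveResolution X)

/-- `δ` is a monomorphism when `RⁿF₂(X) = 0`. -/
lemma mono_δ (n : ℕ) (h2 : IsZero ((F₂.rightDerived n).obj X)) : Mono (δ h X n) :=
  (exact₃ h X n).mono_g (h2.eq_of_src _ _)

/-- `δ` is an epimorphism when `Rⁿ⁺¹F₂(X) = 0`. -/
lemma epi_δ (n : ℕ) (h2 : IsZero ((F₂.rightDerived (n + 1)).obj X)) : Epi (δ h X n) :=
  (exact₁ h X n).epi_f (h2.eq_of_tgt _ _)

/-- dimension shifting: `δ` is an isomorphism when `RⁿF₂(X) = 0 = Rⁿ⁺¹F₂(X)`. -/
lemma isIso_δ (n : ℕ) (h2 : IsZero ((F₂.rightDerived n).obj X))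
    (h2' : IsZero ((F₂.rightDerived (n + 1)).obj X)) : IsIso (δ h X n) := by
  have := mono_δ h X n h2
  have := epi_δ h X n h2'
  exact isIso_of_mono_of_epi _

end Groth.Agent.Lib.Helper42.FunctorSESR
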