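import Groth.Agent.Lib.Helper42.FunctorSESR
import Mathlib.CategoryTheory.Limits.Preserves.Shapes.Kernels
import Mathlib.CategoryTheory.Limits.FunctorCategory.Basic

/-! Right derived functors of the kernel of a natural transformation `η : 𝟭 ⟶ G`
which is an epimorphism on injective objects: `R¹K ≅ coker η` and `Rⁿ⁺²K ≅ Rⁿ⁺¹G`. -/

set_option autoImplicit false
universe v u v' u'

open CategoryTheory Category Limits

namespace Groth.Agent.Lib.Helper42.KerDer

open FunctorSESR

section General

variable {C : Type u} [Category.{v} C] [Abelian C] [HasInjectiveResolutions C]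
  {D : Type u'} [Category.{v'} D] [Abelian D]

/-- naturality of `toRightDerivedZero` in the functor -/
lemma toRightDerivedZero_naturality {F G : C ⥤ D} [F.Additive] [G.Additive] (α : F ⟶ G) (X : C) :
    α.app X ≫ G.toRightDerivedZero.app X =
      F.toRightDerivedZero.app X ≫ (NatTrans.rightDerived α 0).app X := by
  let I := injectiveResolution X
  rw [I.toRightDerivedZero_eq F, I.toRightDerivedZero_eq G, I.rightDerived_app_eq α 0]
  simp only [assoc]
  have h1 : α.app X ≫ I.toRightDerivedZero' G =
      I.toRightDerivedZero' F ≫ HomologicalComplex.cyclesMap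
        ((NatTrans.mapHomologicalComplex α (ComplexShape.up ℕ)).app I.cocomplex) 0 := by
    rw [← cancel_mono (HomologicalComplex.iCycles _ _)]
    simp only [assoc, InjectiveResolution.toRightDerivedZero'_comp_iCycles,
      HomologicalComplex.cyclesMap_i, InjectiveResolution.toRightDerivedZero'_comp_iCycles_assoc,
      NatTrans.mapHomologicalComplex_app_f]
    exact (α.naturality (I.ι.f 0)).symm
  rw [reassoc_of% h1]
  congr 1
  simp only [HomologicalComplex.isoHomologyπ_hom]
  have h2 := HomologicalComplex.homologyπ_naturality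
    ((NatTrans.mapHomologicalComplex α (ComplexShape.up ℕ)).app I.cocomplex) 0
  erw [Iso.inv_hom_id_assoc]
  exact ((reassoc_of% h2) _).symm

end General

section Id

variable {C : Type u} [Category.{v} C] [Abelian C] [HasInjectiveResolutions C]

lemma isZero_rightDerived_id_succ (X : C) (n : ℕ) :
    IsZero (((𝟭 C).rightDerived (n + 1)).obj X) := by
  let I := injectiveResolution X
  refine IsZero.of_iso ?_ (I.isoRightDerivedObj (𝟭 C) (n + 1))
  refine IsZero.of_iso ?_ ((HomologicalComplex.homologyFunctor C (ComplexShape.up ℕ) (n + 1)).mapIso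
    ((Functor.mapHomologicalComplexIdIso C (ComplexShape.up ℕ)).app I.cocomplex))
  exact (HomologicalComplex.exactAt_iff_isZero_homology _ _).1 (I.cocomplex_exactAt_succ n)

variable {K G : C ⥤ C} [K.Additive] [G.Additive] {ι : K ⟶ 𝟭 C} {η : 𝟭 C ⟶ G}
  (h : ExactOnInj ι η)

instance isIso_δ_succ (X : C) (n : ℕ) : IsIso (δ h X (n + 1)) :=
  isIso_δ h X (n + 1) (isZero_rightDerived_id_succ X n) (isZero_rightDerived_id_succ X (n + 1))

instance isIso_δNat_succ (n : ℕ) : IsIso (δNat h (n + 1)) := by
  have : ∀ X, IsIso ((δNat h (n + 1)).app X) := fun X => isIso_δ_succ h X n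
  exact NatIso.isIso_of_isIso_app _

/-- `Rⁿ⁺¹G ≅ Rⁿ⁺²K` -/
noncomputable def shiftIso (n : ℕ) : G.rightDerived (n + 1) ≅ K.rightDerived (n + 2) :=
  asIso (δNat h (n + 1))

/-- the boundary map `G ⟶ R¹K` -/
noncomputable def bd : G ⟶ K.rightDerived 1 := G.toRightDerivedZero ≫ δNat h 0

lemma η_bd_app (X : C) : η.app X ≫ (bd h).app X = 0 := by
  change η.app X ≫ G.toRightDerivedZero.app X ≫ δ h X 0 = 0
  rw [reassoc_of% (toRightDerivedZero_naturality η X), app_δ, comp_zero]

lemma η_bd : η ≫ bd h = 0 := by
  ext X
  exact η_bd_app h X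

variable [PreservesFiniteLimits G]

lemma exact_bd (X : C) : (ShortComplex.mk (η.app X) ((bd h).app X) (η_bd_app h X)).Exact := by
  have e : ShortComplex.mk (η.app X) ((bd h).app X) (η_bd_app h X) ≅
      ShortComplex.mk ((NatTrans.rightDerived η 0).app X) (δ h X 0) (app_δ h X 0) :=
    ShortComplex.isoMk
      (asIso ((𝟭 C).toRightDerivedZero.app X)) (asIso (G.toRightDerivedZero.app X)) (Iso.refl _)
      (toRightDerivedZero_naturality η X).symm (by
        change G.toRightDerivedZero.app X ≫ δ h X 0 = (bd h).app X ≫ 𝟙 _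
        rw [comp_id]
        rfl)
  exact (ShortComplex.exact_iff_of_iso e).mpr (exact₃ h X 0)

instance epi_bd (X : C) : Epi ((bd h).app X) := by
  have : Epi (δ h X 0) := epi_δ h X 0 (isZero_rightDerived_id_succ X 0)
  change Epi (G.toRightDerivedZero.app X ≫ δ h X 0)
  infer_instance

lemma isIso_cokernelDesc_app (X : C) :
    IsIso (cokernel.desc (η.app X) ((bd h).app X) (η_bd_app h X)) := by
  have hc : IsColimit (CokernelCofork.ofπ ((bd h).app X) (η_bd_app h X)) :=
    (exact_bd h X).gIsCokernel
  let e := IsColimit.coconePointUniqueUpToIso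
    (colimit.isColimit (parallelPair (η.app X) 0)) hc
  have he : e.hom = cokernel.desc (η.app X) ((bd h).app X) (η_bd_app h X) := by
    apply coequalizer.hom_ext
    simp [e]
  rw [← he]
  infer_instance

instance isIso_cokernelDesc : IsIso (cokernel.desc η (bd h) (η_bd h)) := by
  have : ∀ X, IsIso ((cokernel.desc η (bd h) (η_bd h)).app X) := by
    intro X
    have e : (PreservesCokernel.iso ((evaluation C C).obj X) η).inv ≫
        (cokernel.desc η (bd h) (η_bd h)).app X =
          cokernel.desc (η.app X) ((bd h).app X) (η_bd_app h X) := by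
      apply coequalizer.hom_ext
      rw [PreservesCokernel.iso_inv]
      erw [π_comp_cokernelComparison_assoc]
      change (cokernel.π η).app X ≫ (cokernel.desc η (bd h) (η_bd h)).app X = _
      rw [← NatTrans.comp_app, cokernel.π_desc]
      exact (cokernel.π_desc _ _ _).symm
    have e' : (cokernel.desc η (bd h) (η_bd h)).app X =
        (PreservesCokernel.iso ((evaluation C C).obj X) η).hom ≫
          cokernel.desc (η.app X) ((bd h).app X) (η_bd_app h X) := by
      rw [← e, Iso.hom_inv_id_assoc]
    rw [e']
    have := isIso_cokernelDesc_app h X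
    infer_instance
  exact NatIso.isIso_of_isIso_app _

/-- `coker η ≅ R¹K` -/
noncomputable def cokerIso : cokernel η ≅ K.rightDerived 1 :=
  asIso (cokernel.desc η (bd h) (η_bd h))

end Id

end Groth.Agent.Lib.Helper42.KerDer
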