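import Groth.Agent.Lib.Helper42.LocCohZ6

/-! Vanishing of the local cohomology sheaves below `n` can be tested on a basis of opens. -/

set_option autoImplicit false
universe u
open CategoryTheory CategoryTheory.Limits TopologicalSpace Opposite

namespace Groth.Agent.Lib.Helper42.LocCohBasis

open Groth.Agent.Lib.Helper42.LocCohZ5 Groth.Agent.Lib.Helper42.LocCohZ6

variable {X : TopCat.{u}} (U : Opens X) (B : Set (Opens X)) (hB : Opens.IsBasis B)

include hB in
lemma isZero_sectSupp_of_basis (F : CohTop.Ab X)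
    (h : ∀ V ∈ B, Subsingleton (LocCohZ.HZ F 0 (inf_le_left : V ⊓ U ≤ V))) :
    IsZero (CohCx.sectSupp U F) := by
  rw [isZero_sectSupp_iff]
  intro V s hs
  -- cover `V` by basic opens
  obtain ⟨Us, hUs, hV⟩ := Opens.isBasis_iff_cover.1 hB V
  apply TopCat.Sheaf.eq_of_locally_eq' ⟨F.obj, F.property⟩ (fun W : Us => (W : Opens X)) V
    (fun W => homOfLE (by rw [hV]; exact le_sSup W.2))
    (by rw [hV, sSup_eq_iSup'])
  intro W
  have hW : (W : Opens X) ∈ B := hUs W.2
  have hWV : (W : Opens X) ≤ V := by rw [hV]; exact le_sSup W.2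
  rw [map_zero]
  refine (subsingleton_HZ_zero_iff F (inf_le_left : (W : Opens X) ⊓ U ≤ W)).1 (h _ hW) _ ?_
  have hle : (W : Opens X) ⊓ U ≤ V ⊓ U := inf_le_inf_right U hWV
  have e1 : F.obj.map (homOfLE (inf_le_left : (W : Opens X) ⊓ U ≤ W)).op
      (F.obj.map (homOfLE hWV).op s) =
      F.obj.map (homOfLE hle).op (F.obj.map (homOfLE (inf_le_left : V ⊓ U ≤ V)).op s) := by
    rw [← ConcreteCategory.comp_apply, ← ConcreteCategory.comp_apply, ← Functor.map_comp,
      ← Functor.map_comp]
    rfl
  rw [e1, hs, map_zero]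

include hB in
/-- vanishing of the local cohomology sheaves below `n` follows from the vanishing of the
local cohomology groups below `n` over the members of a basis -/
theorem isZero_HZsh_of_basis (n : ℕ) : ∀ F : CohTop.Ab X,
    (∀ V ∈ B, ∀ i : ℕ, i < n →
        Subsingleton (LocCohZ.HZ F i (inf_le_left : V ⊓ U ≤ V))) →
      ∀ i : ℕ, i < n → IsZero ((LocCohZ.HZsh U i).obj F) := by
  induction n with
  | zero => intro F _ i hi; exact absurd hi (Nat.not_lt_zero i)
  | succ n ih =>
    intro F hR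
    have hΓ : IsZero (CohCx.sectSupp U F) :=
      isZero_sectSupp_of_basis U B hB F (fun V hV => hR V hV 0 (by omega))
    have h0 : IsZero ((LocCohZ.HZsh U 0).obj F) := (((HZshZeroIso U).app F).isZero_iff).2 hΓ
    have hQ : ∀ i : ℕ, i < n → IsZero ((LocCohZ.HZsh U i).obj (Q U F)) :=
      ih (Q U F) (fun V hV i hi => (subsingleton_HZ_Q_iff U F hΓ i V).2 (hR V hV (i + 1) (by omega)))
    intro i hi
    cases i with
    | zero => exact h0
    | succ j => exact (isZero_HZsh_Q_iff U F hΓ j).1 (hQ j (by omega))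

end Groth.Agent.Lib.Helper42.LocCohBasis
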