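import Groth.Agent.Lib.Helper42.LocCohZ9
import Groth.Agent.Lib.Helper53.RestrInj

/-! `H^i_Z(X, F) ≅ H^i_Z(V, F|_V)` naturally in `F`. -/

set_option autoImplicit false
universe u

open CategoryTheory CategoryTheory.Limits TopologicalSpace Opposite Abelian

namespace Groth.Agent.Lib.Helper42.LocCohZ10

open Groth.Agent.Lib.Helper53 Groth.Agent.Lib.Helper42.LocCohZ1 Groth.Agent.Lib.Helper42.LocCohZ2
  Groth.Agent.Lib.Helper42.LocCohZ5 Groth.Agent.Lib.Helper42.LocCohZ9
  Groth.Agent.Lib.Helper42.DeltaFun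
  Groth.Agent.Lib.Helper42.DeltaExt Groth.Agent.Lib.Helper42.DeltaRDer

variable {X : TopCat.{u}}

lemma map_eq_homOfLE (F : CohTop.Ab X) {A B : Opens X} (f : A ⟶ B) (s : F.obj.obj (op B)) :
    F.obj.map f.op s = F.obj.map (homOfLE (leOfHom f)).op s := by
  congr

variable {W V : Opens X} (h : W ≤ V)

lemma jW_le : (jFun V).obj ((Opens.map (CohCx.incl V)).obj W) ≤ V :=
  (jj_le V W).trans inf_le_right

include h in
lemma le_jW : W ≤ (jFun V).obj ((Opens.map (CohCx.incl V)).obj W) :=
  (le_inf le_rfl h).trans (le_jj V W)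

lemma restr_map_secEquiv (F : CohTop.Ab X) (s : F.obj.obj (op V)) :
    (CohTop.restr F V).obj.map
        (homOfLE (le_top : (Opens.map (CohCx.incl V)).obj W ≤ ⊤)).op (secEquiv V F s) =
      F.obj.map (homOfLE (jW_le (W := W) (V := V))).op s := by
  change F.obj.map ((jFun V).map (homOfLE le_top)).op (F.obj.map (eqToHom (jFun_top V)).op s) = _
  rw [map_eq_homOfLE, map_eq_homOfLE F (eqToHom _), map_map_eq]

lemma secEquiv_mem_iff (F : CohTop.Ab X) (s : F.obj.obj (op V)) :
    secEquiv V F s ∈ LocCohZ.sectZ (CohTop.restr F V)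
        (le_top : (Opens.map (CohCx.incl V)).obj W ≤ ⊤) ↔ s ∈ LocCohZ.sectZ F h := by
  rw [AddMonoidHom.mem_ker, AddMonoidHom.mem_ker]
  change (CohTop.restr F V).obj.map (homOfLE le_top).op (secEquiv V F s) = 0 ↔
    F.obj.map (homOfLE h).op s = 0
  rw [restr_map_secEquiv]
  change F.obj.map (homOfLE (jW_le (W := W) (V := V))).op s =
    (0 : F.obj.obj (op ((jFun V).obj ((Opens.map (CohCx.incl V)).obj W)))) ↔ _
  constructor
  · intro h1
    have := congrArg (F.obj.map (homOfLE (le_jW h)).op) h1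
    rw [map_map_eq, map_zero] at this
    exact this
  · intro h1
    have := congrArg (F.obj.map (homOfLE ((jj_le V W).trans inf_le_left)).op) h1
    rw [map_map_eq, map_zero] at this
    exact this

/-- sections over `V` vanishing on `W` are global sections of `F|_V` vanishing on `W` -/
noncomputable def sectZEquiv (F : CohTop.Ab X) :
    LocCohZ.sectZ F h ≃+ LocCohZ.sectZ (CohTop.restr F V)
      (le_top : (Opens.map (CohCx.incl V)).obj W ≤ ⊤) :=
  AddEquiv.ofBijective
    (AddMonoidHom.codRestrict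
      ((secEquiv V F).toAddMonoidHom.comp (LocCohZ.sectZ F h).subtype) _
      (fun s => (secEquiv_mem_iff h F s.1).2 s.2))
    ⟨fun a b hab => Subtype.ext ((secEquiv V F).injective (congrArg Subtype.val hab)),
     fun t => ⟨⟨(secEquiv V F).symm t.1, (secEquiv_mem_iff h F _).1 (by
        rw [AddEquiv.apply_symm_apply]; exact t.2)⟩,
        Subtype.ext ((secEquiv V F).apply_symm_apply t.1)⟩⟩

lemma sectZEquiv_val (F : CohTop.Ab X) (s : LocCohZ.sectZ F h) :
    (sectZEquiv h F s).1 = secEquiv V F s.1 := rfl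

/-- the degree zero comparison -/
noncomputable def zeroEquiv (F : CohTop.Ab X) :
    LocCohZ.HZ F 0 h ≃+
      LocCohZ.HZc (CohTop.restr F V) 0 ((Opens.map (CohCx.incl V)).obj W) :=
  ((LocCohZ.sect0Equiv F h).trans (sectZEquiv h F)).trans
    (LocCohZ.sect0Equiv (CohTop.restr F V) le_top).symm

lemma sect0Equiv_zeroEquiv (F : CohTop.Ab X) (x : LocCohZ.HZ F 0 h) :
    (LocCohZ.sect0Equiv (CohTop.restr F V) le_top (zeroEquiv h F x)).1 =
      secEquiv V F (LocCohZ.sect0Equiv F h x).1 := by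
  unfold zeroEquiv
  rw [AddEquiv.trans_apply, AddEquiv.apply_symm_apply, AddEquiv.trans_apply, sectZEquiv_val]

lemma zeroEquiv_naturality {F G : CohTop.Ab X} (φ : F ⟶ G) (x : LocCohZ.HZ F 0 h) :
    zeroEquiv h G (LocCohZ.map φ 0 h x) =
      LocCohZ.map ((CohTop.restrFunctor V).map φ) 0
        (le_top : (Opens.map (CohCx.incl V)).obj W ≤ ⊤) (zeroEquiv h F x) := by
  apply (LocCohZ.sect0Equiv (CohTop.restr G V) le_top).injective
  apply Subtype.ext
  rw [sect0Equiv_zeroEquiv, sect0Equiv_map, sect0Equiv_map, sect0Equiv_zeroEquiv,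
    secEquiv_naturality]

instance restr_preservesInjectiveObjects :
    (CohTop.restrFunctor V).PreservesInjectiveObjects where
  injective_obj {I} _ := injective_restr V I

/-- the δ-functor `F ↦ Ext^n(ℤ_{V}/ℤ_{W}, F|_V)` computed on `V` -/
noncomputable def deltaRestr (W V : Opens X) : DeltaFunctor (CohTop.Ab X) AddCommGrpCat.{u} :=
  (ofExt (LocCohZ.zq (le_top : (Opens.map (CohCx.incl V)).obj W ≤ ⊤))).precomp
    (CohTop.restrFunctor V)

/-- the degree zero isomorphism of functors -/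
noncomputable def zeroIso : (ofExt (LocCohZ.zq h)).T 0 ≅ (deltaRestr W V).T 0 :=
  NatIso.ofComponents (fun F => (zeroEquiv h F).toAddCommGrpIso) (by
    intro F G φ
    ext x
    exact zeroEquiv_naturality h φ x)

/-- the comparison in all degrees -/
noncomputable def compIso (i : ℕ) : (ofExt (LocCohZ.zq h)).T i ≅ (deltaRestr W V).T i :=
  DeltaFunctor.isoOfZero (ofExt_eff _)
    (DeltaFunctor.precomp_eff _ _ (ofExt_eff _)) (zeroIso h) i

theorem exists_equiv (i : ℕ) :
    ∃ e : ∀ F : CohTop.Ab X,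
        LocCohZ.HZ F i h ≃+ LocCohZ.HZc (CohTop.restr F V) i ((Opens.map (CohCx.incl V)).obj W),
      ∀ (F G : CohTop.Ab X) (φ : F ⟶ G) (x : LocCohZ.HZ F i h),
        e G (LocCohZ.map φ i h x) =
          LocCohZ.map ((CohTop.restrFunctor V).map φ) i
            (le_top : (Opens.map (CohCx.incl V)).obj W ≤ ⊤) (e F x) := by
  refine ⟨fun F => ((compIso h i).app F).addCommGroupIsoToAddEquiv, ?_⟩
  intro F G φ x
  exact congrArg (fun ψ => ψ.hom x) ((compIso h i).hom.naturality φ)

end Groth.Agent.Lib.Helper42.LocCohZ10
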