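import Groth.Agent.Lib.Helper42.LCVanish
import Groth.Agent.Lib.Helper42.EdgeLC
import Groth.Agent.Lib.Helper12.GZInj3
import Groth.Agent.Lib.Helper68.EdgeOutLow
import Groth.Agent.Lib.Helper22.Syzygy
import Groth.Agent.Lib.Helper15.DCohLocal
import Groth.Agent.S6034
import Groth.Prelude.Def_CxOX

/-! `Γ_Z` only depends on the range of the open immersion; vanishing of `RᵖΓ_Z(X, M)` for `p < d`
for a finite locally free module `M` when the depth of `O_X` along `Z` is at least `d`. -/

set_option autoImplicit false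
set_option linter.style.haveILetI false
set_option linter.unusedSectionVars false
universe u
open CategoryTheory CategoryTheory.Limits TopologicalSpace AlgebraicGeometry Opposite
open AlgebraicGeometry.Scheme.Modules

namespace Groth.Agent.Lib.Helper42.GammaZRange
open Groth.Agent.Lib.Helper26.ModMV Groth.Agent.Lib.Helper26 Groth.Agent.Lib.Helper26.QCohRpush

variable {X : Scheme.{u}}

section compare

variable {U₁ U₂ : Scheme.{u}} (j₁ : U₁ ⟶ X) (j₂ : U₂ ⟶ X) [IsOpenImmersion j₁]
  [IsOpenImmersion j₂] (hr : j₁.opensRange = j₂.opensRange)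

include hr in
lemma comp_unit_eq_zero {A M : X.Modules} (f : A ⟶ M)
    (h : f ≫ (restrictAdjunction j₁).unit.app M = 0) :
    f ≫ (restrictAdjunction j₂).unit.app M = 0 := by
  apply Scheme.Modules.hom_ext
  intro T
  have h3 : f.app T ≫ M.presheaf.map (homOfLE (j₁.image_preimage_le T)).op = 0 := by
    have h4 : (f ≫ (restrictAdjunction j₁).unit.app M).app T = 0 := by rw [h]; rfl
    exact h4
  have hT : j₂ ''ᵁ (j₂ ⁻¹ᵁ T) = j₁ ''ᵁ (j₁ ⁻¹ᵁ T) := by
    rw [Scheme.Hom.image_preimage_eq_opensRange_inf, Scheme.Hom.image_preimage_eq_opensRange_inf, hr]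
  have h2 : M.presheaf.map (homOfLE (j₂.image_preimage_le T)).op =
      M.presheaf.map (homOfLE (j₁.image_preimage_le T)).op ≫
        M.presheaf.map (eqToHom hT).op := by
    rw [← Functor.map_comp]
    rfl
  show f.app T ≫ M.presheaf.map (homOfLE (j₂.image_preimage_le T)).op = 0
  rw [h2]
  calc f.app T ≫ M.presheaf.map (homOfLE (j₁.image_preimage_le T)).op ≫
        M.presheaf.map (eqToHom hT).op
      = (f.app T ≫ M.presheaf.map (homOfLE (j₁.image_preimage_le T)).op) ≫
        M.presheaf.map (eqToHom hT).op := (Category.assoc _ _ _).symm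
    _ = 0 := by rw [h3, zero_comp]

/-- the kernels of the two units agree -/
noncomputable def kerIso (M : X.Modules) :
    kernel ((restrictAdjunction j₁).unit.app M) ≅ kernel ((restrictAdjunction j₂).unit.app M) where
  hom := kernel.lift _ (kernel.ι ((restrictAdjunction j₁).unit.app M))
    (comp_unit_eq_zero j₁ j₂ hr _ (kernel.condition _))
  inv := kernel.lift _ (kernel.ι ((restrictAdjunction j₂).unit.app M))
    (comp_unit_eq_zero j₂ j₁ hr.symm _ (kernel.condition _))
  hom_inv_id := by
    rw [← cancel_mono (kernel.ι ((restrictAdjunction j₁).unit.app M))]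
    rw [Category.assoc, kernel.lift_ι, kernel.lift_ι, Category.id_comp]
  inv_hom_id := by
    rw [← cancel_mono (kernel.ι ((restrictAdjunction j₂).unit.app M))]
    rw [Category.assoc, kernel.lift_ι, kernel.lift_ι, Category.id_comp]

lemma kerIso_hom_ι (M : X.Modules) :
    (kerIso j₁ j₂ hr M).hom ≫ kernel.ι ((restrictAdjunction j₂).unit.app M) =
      kernel.ι ((restrictAdjunction j₁).unit.app M) :=
  kernel.lift_ι _ _ _

/-- `Γ_Z(M)` only depends on the range of the open immersion -/
noncomputable def gammaZObjIso (M : X.Modules) :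
    (DCoh.gammaZ j₁).obj M ≅ (DCoh.gammaZ j₂).obj M := kerIso j₁ j₂ hr M

/-- the inclusion `Γ_Z(M) ⟶ M` -/
noncomputable def ιZ {U : Scheme.{u}} (j : U ⟶ X) [IsOpenImmersion j] (M : X.Modules) :
    (DCoh.gammaZ j).obj M ⟶ M := kernel.ι ((restrictAdjunction j).unit.app M)

instance {U : Scheme.{u}} (j : U ⟶ X) [IsOpenImmersion j] (M : X.Modules) : Mono (ιZ j M) :=
  inferInstanceAs (Mono (kernel.ι ((restrictAdjunction j).unit.app M)))

lemma gammaZObjIso_hom_ι (M : X.Modules) :
    (gammaZObjIso j₁ j₂ hr M).hom ≫ ιZ j₂ M = ιZ j₁ M :=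
  kerIso_hom_ι j₁ j₂ hr M

lemma gammaZ_map_ι {U : Scheme.{u}} (j : U ⟶ X) [IsOpenImmersion j] {M N : X.Modules}
    (φ : M ⟶ N) :
    (DCoh.gammaZ j).map φ ≫ ιZ j N = ιZ j M ≫ φ :=
  kernel.lift_ι _ _ _

noncomputable def gammaZIso : DCoh.gammaZ j₁ ≅ DCoh.gammaZ j₂ :=
  NatIso.ofComponents (fun M => gammaZObjIso j₁ j₂ hr M) (by
    intro M N φ
    rw [← cancel_mono (ιZ j₂ N)]
    rw [Category.assoc, gammaZObjIso_hom_ι, gammaZ_map_ι, Category.assoc, gammaZ_map_ι,
      ← Category.assoc, gammaZObjIso_hom_ι])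

end compare

section depth

variable {U : Scheme.{u}} (j : U ⟶ X) [IsOpenImmersion j]

lemma preservesFiniteLimits_gammaAb : PreservesFiniteLimits (DCoh.gammaAb X) := by
  unfold DCoh.gammaAb
  have h1 : PreservesFiniteLimits
      ((evaluation (TopologicalSpace.Opens ↥X)ᵒᵖ AddCommGrpCat.{u}).obj (Opposite.op ⊤)) :=
    ⟨fun J _ _ => inferInstance⟩
  have h2 : PreservesFiniteLimits (Scheme.Modules.toPresheaf X) :=
    ⟨fun J _ _ => inferInstance⟩
  exact comp_preservesFiniteLimits _ _

/-- the sheaf-level local cohomology of a finite locally free module vanishes below the depth -/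
theorem isZero_rightDerived_gammaZ_of_depth [IsLocallyNoetherian X] (d : ℕ)
    (hdepth : ∀ y : ↥X, y ∉ Set.range j.base →
      (d : ℕ∞) ≤ LocCoh.depth ↑(X.presheaf.stalk y) ↑(X.presheaf.stalk y))
    (M : X.Modules) (hM : FlatMod.IsFinLocFree M) (i : ℕ) (hi : i < d) :
    haveI := hasInjectiveResolutions_modules X
    IsZero (((DCoh.gammaZ j).rightDerived i).obj M) := by
  haveI := hasInjectiveResolutions_modules X
  have hr : j.opensRange = (j.opensRange).ι.opensRange := by simp
  refine IsZero.of_iso ?_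
    ((DegComposite.rightDerivedMapIso (gammaZIso j (j.opensRange).ι hr) i).app M)
  apply Groth.Agent.Lib.Helper42.LCVanish.isZero_rightDerived_gammaZ (j.opensRange) M i
  have hCoh := Groth.Agent.Lib.Helper15.DCohLocal.isCoh_of_isFinLocFree M hM
  have hv := (Groth.Agent.S6034.result X (j.opensRange) M hCoh d).2 (fun x hx => by
    have hfree := Groth.Agent.Lib.Helper22.Syzygy.free_stalk_of_isFinLocFree M hM x
    have hflat : Module.Flat (X.presheaf.stalk x) (M.presheaf.stalk x) := inferInstance
    exact Groth.Agent.Lib.Helper42.EdgeLC.le_idealDepth_of_flat _ _ d (hdepth x hx))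
  exact hv i hi

/-- the global local cohomology vanishes below the depth -/
theorem isZero_rightDerived_sectZAb_of_depth [IsLocallyNoetherian X] (d : ℕ)
    (hdepth : ∀ y : ↥X, y ∉ Set.range j.base →
      (d : ℕ∞) ≤ LocCoh.depth ↑(X.presheaf.stalk y) ↑(X.presheaf.stalk y))
    (M : X.Modules) (hM : FlatMod.IsFinLocFree M) (p : ℕ) (hp : p < d) :
    haveI := hasInjectiveResolutions_modules X
    IsZero (((CxOX.sectZAb j).rightDerived p).obj M) := by
  haveI := hasInjectiveResolutions_modules X
  haveI : PreservesFiniteLimits (DCoh.gammaAb X) := preservesFiniteLimits_gammaAb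
  have hiso : IsIso (RDer.edgeOut (DCoh.gammaZ j) (DCoh.gammaAb X) p M) :=
    Groth.Agent.Lib.Helper68.EdgeOutIso.isIso_edgeOut_of_isZero_lt (DCoh.gammaZ j)
      (DCoh.gammaAb X) M
      (fun I hI q => by
        haveI := hI
        haveI : Injective ((DCoh.gammaZ j).obj I) :=
          Groth.Agent.Lib.Helper12.GZInj.injective_gammaZ j I
        exact Functor.isZero_rightDerived_obj_injective_succ _ q _)
      p (fun i hi => isZero_rightDerived_gammaZ_of_depth j d hdepth M hM i (lt_trans hi hp))
  have hz : IsZero ((DCoh.gammaAb X).obj (((DCoh.gammaZ j).rightDerived p).obj M)) :=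
    Functor.map_isZero _ (isZero_rightDerived_gammaZ_of_depth j d hdepth M hM p hp)
  exact hz.of_iso (asIso (RDer.edgeOut (DCoh.gammaZ j) (DCoh.gammaAb X) p M))

end depth

end Groth.Agent.Lib.Helper42.GammaZRange
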