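import Groth.Agent.Lib.Helper64.PushRestrictDepth
import Groth.Agent.Lib.Helper64.FinTypeStalk

/-!
# Converse Hartogs for an arbitrary open (helper42)

If `M` is coherent on a locally Noetherian scheme and restriction `M(V) → M(V ∩ U)` is bijective for
every open `V`, then `depth M_x ≥ 2` at every `x ∉ U`.  Assembly of helper64's
`HartogsConv.two_le_depth_of_hartogsAt`.
-/

set_option autoImplicit false
set_option linter.style.haveILetI false
universe u
open CategoryTheory CategoryTheory.Limits TopologicalSpace AlgebraicGeometry Opposite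

namespace Groth.Agent.Lib.Helper42.HartogsIff

open Groth.Agent.Lib.Helper64.HartogsConv Groth.Agent.Lib.Helper64.PushRestrictDepth

theorem two_le_depth_of_bijective (X : Scheme.{u}) [IsLocallyNoetherian X] (U : X.Opens)
    (M : X.Modules) (hM : Coh.IsCoh M)
    (h : ∀ V : X.Opens, Function.Bijective (M.presheaf.map (homOfLE (inf_le_left : V ⊓ U ≤ V)).op))
    (x : X) (hx : x ∉ (U : Set X)) :
    (2 : ℕ∞) ≤ LocCoh.depth (X.presheaf.stalk x) (M.presheaf.stalk x) := by
  haveI : M.IsQuasicoherent := hM.1
  haveI : Module.Finite (X.presheaf.stalk x) (M.presheaf.stalk x) :=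
    Groth.Agent.Lib.Helper64.FinTypeStalk.finite_stalk M hM.2 x
  have hle : U ≤ complClosure x := le_complClosure U x hx
  have key : ∀ V : X.Opens, Function.Bijective
      (M.presheaf.map (homOfLE (inf_le_left : V ⊓ complClosure x ≤ V)).op) := by
    intro V
    have h1 := h V
    have h2 := h (V ⊓ complClosure x)
    have hle2 : V ⊓ U ≤ V ⊓ complClosure x := inf_le_inf_left V hle
    have hle3 : V ⊓ U ≤ (V ⊓ complClosure x) ⊓ U := le_inf hle2 inf_le_right
    have hle4 : (V ⊓ complClosure x) ⊓ U ≤ V ⊓ U := inf_le_inf_right U inf_le_left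
    have hcomp : (M.presheaf.map
          (homOfLE (inf_le_left : (V ⊓ complClosure x) ⊓ U ≤ V ⊓ complClosure x)).op) ∘
        (M.presheaf.map (homOfLE (inf_le_left : V ⊓ complClosure x ≤ V)).op) =
        (M.presheaf.map (homOfLE hle4).op) ∘
          (M.presheaf.map (homOfLE (inf_le_left : V ⊓ U ≤ V)).op) := by
      funext s
      simp only [Function.comp_apply]
      rw [← ConcreteCategory.comp_apply, ← ConcreteCategory.comp_apply, ← Functor.map_comp,
        ← Functor.map_comp]
      rfl
    have hb4 : Function.Bijective (M.presheaf.map (homOfLE hle4).op) := by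
      have : IsIso (M.presheaf.map (homOfLE hle4).op) := by
        have : IsIso (homOfLE hle4) :=
          ⟨homOfLE hle3, Subsingleton.elim _ _, Subsingleton.elim _ _⟩
        infer_instance
      exact ConcreteCategory.bijective_of_isIso _
    have hb : Function.Bijective ((M.presheaf.map
          (homOfLE (inf_le_left : (V ⊓ complClosure x) ⊓ U ≤ V ⊓ complClosure x)).op) ∘
        (M.presheaf.map (homOfLE (inf_le_left : V ⊓ complClosure x ≤ V)).op)) := by
      rw [hcomp]; exact hb4.comp h1
    exact (Function.Bijective.of_comp_iff' h2 _).mp hb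
  exact two_le_depth_of_hartogsAt M x
    ⟨fun V _ σ hσ => (key V).1 (hσ.trans (map_zero _).symm), fun V _ s => (key V).2 s⟩

end Groth.Agent.Lib.Helper42.HartogsIff
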