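import Groth.Agent.Lib.Helper42.ProjBi
import Groth.Agent.Lib.Helper42.RestrExact
import Groth.Agent.Lib.Helper12.TotFun2
import Groth.Prelude.Def_KFlatSite

/-! Restriction of a K-flat complex to a localised ringed site is K-flat. -/

set_option autoImplicit false
set_option linter.style.haveILetI false
set_option linter.unusedSectionVars false

namespace Groth.Agent.Lib.Helper42.KFlatRestr

open CategoryTheory CategoryTheory.Limits

section Abstract

open Groth.Agent.Lib.Helper12.TotFun

variable {C₁ C₂ C₃ D₁ D₂ D₃ : Type*} [Category C₁] [Category C₂] [Category C₃]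
  [Category D₁] [Category D₂] [Category D₃]
  [Preadditive C₁] [Preadditive C₂] [Preadditive C₃] [Preadditive D₁] [Preadditive D₂]
  [Preadditive D₃]
  {I₁ I₂ J : Type*} {c₁ : ComplexShape I₁} {c₂ : ComplexShape I₂}
  (F : C₁ ⥤ C₂ ⥤ C₃) [F.PreservesZeroMorphisms] [∀ X₁, (F.obj X₁).PreservesZeroMorphisms]
  (F' : D₁ ⥤ D₂ ⥤ D₃) [F'.PreservesZeroMorphisms] [∀ X₁, (F'.obj X₁).PreservesZeroMorphisms]
  (G₁ : C₁ ⥤ D₁) (H₂ : D₂ ⥤ C₂) (G₃ : C₃ ⥤ D₃) [G₁.Additive] [H₂.Additive] [G₃.Additive]
  (e : ∀ (a : C₁) (b : D₂), G₃.obj ((F.obj a).obj (H₂.obj b)) ≅ (F'.obj (G₁.obj a)).obj b)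
  (he₁ : ∀ {a a' : C₁} (f : a ⟶ a') (b : D₂),
    G₃.map ((F.map f).app (H₂.obj b)) ≫ (e a' b).hom = (e a b).hom ≫ (F'.map (G₁.map f)).app b)
  (he₂ : ∀ (a : C₁) {b b' : D₂} (g : b ⟶ b'),
    G₃.map ((F.obj a).map (H₂.map g)) ≫ (e a b').hom = (e a b).hom ≫ (F'.obj (G₁.obj a)).map g)
  (K₁ : HomologicalComplex C₁ c₁) (K₂ : HomologicalComplex D₂ c₂)

noncomputable def biIso' :
    mapBi G₃ (((F.mapBifunctorHomologicalComplex c₁ c₂).obj K₁).obj
        ((H₂.mapHomologicalComplex c₂).obj K₂)) ≅
      ((F'.mapBifunctorHomologicalComplex c₁ c₂).obj ((G₁.mapHomologicalComplex c₁).obj K₁)).obj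
        K₂ :=
  HomologicalComplex.Hom.isoOfComponents
    (fun i₁ => HomologicalComplex.Hom.isoOfComponents (fun i₂ => e (K₁.X i₁) (K₂.X i₂))
      (fun i₂ i₂' _ => (he₂ (K₁.X i₁) (K₂.d i₂ i₂')).symm))
    (fun i₁ i₁' _ => by
      ext i₂
      exact (he₁ (K₁.d i₁ i₁') (K₂.X i₂)).symm)

variable (c : ComplexShape J) [TotalComplexShape c₁ c₂ c] [DecidableEq J]
  [HomologicalComplex.HasMapBifunctor K₁ ((H₂.mapHomologicalComplex c₂).obj K₂) F c]
  [HomologicalComplex.HasMapBifunctor ((G₁.mapHomologicalComplex c₁).obj K₁) K₂ F' c]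
  [(mapBi G₃ (((F.mapBifunctorHomologicalComplex c₁ c₂).obj K₁).obj
    ((H₂.mapHomologicalComplex c₂).obj K₂))).HasTotal c]
  [∀ j, PreservesColimit (Discrete.functor
    ((((F.mapBifunctorHomologicalComplex c₁ c₂).obj K₁).obj
      ((H₂.mapHomologicalComplex c₂).obj K₂)).toGradedObject.mapObjFun
      (ComplexShape.π c₁ c₂ c) j)) G₃]

noncomputable def mapBifunctorIso' :
    (G₃.mapHomologicalComplex c).obj (HomologicalComplex.mapBifunctor K₁
        ((H₂.mapHomologicalComplex c₂).obj K₂) F c) ≅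
      HomologicalComplex.mapBifunctor ((G₁.mapHomologicalComplex c₁).obj K₁) K₂ F' c :=
  totalIso c G₃ (((F.mapBifunctorHomologicalComplex c₁ c₂).obj K₁).obj
      ((H₂.mapHomologicalComplex c₂).obj K₂)) ≪≫
    HomologicalComplex₂.total.mapIso (biIso' F F' G₁ H₂ G₃ e he₁ he₂ K₁ K₂) c

end Abstract

section Site

universe u
open ModSite Groth.Agent.Lib.Helper42.TensorSheaf Groth.Agent.Lib.Helper42.ExtZero
  Groth.Agent.Lib.Helper42.ProjBi Groth.Agent.Lib.Helper42.RestrExact

variable {C : Type u} [SmallCategory C] {J : GrothendieckTopology C} (O : Sheaf J CommRingCat.{u})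
  (U : C)

instance L_preservesColimits : PreservesColimitsOfSize.{u, u} (L O U) :=
  (adjL O U).leftAdjoint_preservesColimits

instance L_preservesFiniteColimits : PreservesFiniteColimits (L O U) :=
  PreservesColimitsOfSize.preservesFiniteColimits _

instance L_additive : (L O U).Additive :=
  Groth.Agent.Lib.Helper42.Snake.additive_of_preservesFiniteColimits _

instance L_preservesFiniteLimits : PreservesFiniteLimits (L O U) :=
  haveI := extZero_preservesFiniteLimits O U
  preservesFiniteLimits_of_natIso (extZeroIso O U)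

instance L_faithful : (L O U).Faithful := Functor.Faithful.of_iso (extZeroIso O U)

lemma isZero_of_isZero_L_obj (X : Mod (O.over U)) (h : IsZero ((L O U).obj X)) : IsZero X := by
  rw [IsZero.iff_id_eq_zero]
  apply (L O U).map_injective
  rw [CategoryTheory.Functor.map_id, Functor.map_zero]
  exact (IsZero.iff_id_eq_zero _).mp h

/-- the restriction of a K-flat complex to the localised site is K-flat -/
theorem isKFlat_restr (K : CochainComplex (Mod O) ℤ) (hK : IsKFlat K) :
    IsKFlat (((restr O U).mapHomologicalComplex (ComplexShape.up ℤ)).obj K) := by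
  intro M hM i
  haveI : PreservesColimitsOfSize.{0, 0} (L O U) := (adjL O U).leftAdjoint_preservesColimits
  have e : ((L O U).mapHomologicalComplex (ComplexShape.up ℤ)).obj
        (((tensorCx (O.over U)).obj M).obj
          (((restr O U).mapHomologicalComplex (ComplexShape.up ℤ)).obj K)) ≅
      ((tensorCx O).obj (((L O U).mapHomologicalComplex (ComplexShape.up ℤ)).obj M)).obj K :=
    mapBifunctorIso' (tensorBi (O.over U)) (tensorBi O) (L O U) (restr O U) (L O U) (eL O U)
      (fun f b => eL_natural_left f b) (fun a _ _ g => eL_natural_right a g) M K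
      (ComplexShape.up ℤ)
  have hLM : ∀ i, IsZero ((((L O U).mapHomologicalComplex (ComplexShape.up ℤ)).obj M).homology i) :=
    fun i => IsZero.of_iso ((L O U).map_isZero (hM i)) ((M.sc i).mapHomologyIso (L O U))
  have h1 := hK _ hLM i
  have h2 := IsZero.of_iso h1 ((HomologicalComplex.homologyFunctor _ _ i).mapIso e)
  have h3 := IsZero.of_iso h2 (((((tensorCx (O.over U)).obj M).obj
    (((restr O U).mapHomologicalComplex (ComplexShape.up ℤ)).obj K)).sc i).mapHomologyIso
      (L O U)).symm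
  exact isZero_of_isZero_L_obj O U _ h3

end Site

end Groth.Agent.Lib.Helper42.KFlatRestr
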