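import Groth.Agent.Lib.Helper42.LCAffine
import Groth.Agent.S2438
import Groth.Agent.S2442
import Groth.Agent.Lib.Helper26.CechLES
import Groth.Agent.Lib.Helper26.AffineVanishing

/-! Local cohomology of a quasi-coherent module on an affine scheme is the colimit of Koszul
cohomology (all degrees). -/

set_option autoImplicit false
set_option linter.style.haveILetI false
set_option linter.unusedSectionVars false
universe u
open AlgebraicGeometry CategoryTheory Opposite TopologicalSpace

namespace Groth.Agent.Lib.Helper42.LCAff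

open Groth.Agent.Lib.Helper42.LCAffine

variable {X : Scheme.{u}} (F : X.Modules) [IsAffine X] [hF : F.IsQuasicoherent]
  (fs : List Γ(X, ⊤))

/-- the union of the basic opens of a list of global functions -/
noncomputable abbrev UF : X.Opens := ⨆ i : Fin fs.length, X.basicOpen (fs.get i)

lemma iSup_ulift :
    (⨆ i : ULift.{u} (Fin fs.length), X.basicOpen (fs.get i.down)) = UF (X := X) fs := by
  apply le_antisymm
  · exact iSup_le fun i => le_iSup (fun i : Fin fs.length => X.basicOpen (fs.get i)) i.down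
  · exact iSup_le fun i =>
      le_iSup (fun i : ULift.{u} (Fin fs.length) => X.basicOpen (fs.get i.down)) ⟨i⟩

include hF in
theorem deg0 :
    Nonempty (CohIII.koszulHLim fs (ModuleCat.of Γ(X, ⊤) (F.val.obj (op ⊤))) 0 ≃+
      LocCohZ.HZM X F 0 (UF (X := X) fs)) := by
  haveI : Coh.IsQCoh F := hF
  obtain ⟨⟨e⟩, -⟩ := Groth.Agent.S2442.result X fs F
  exact ⟨e.symm.trans (LocCohZ.sect0Equiv _ _).symm⟩

include hF in
theorem deg1 :
    Nonempty (CohIII.koszulHLim fs (ModuleCat.of Γ(X, ⊤) (F.val.obj (op ⊤))) 1 ≃+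
      LocCohZ.HZM X F 1 (UF (X := X) fs)) := by
  haveI : Coh.IsQCoh F := hF
  obtain ⟨-, ⟨e⟩⟩ := Groth.Agent.S2442.result X fs F
  have hV : Subsingleton (CohTop.HU (Coh.toAb F) 1 ⊤) :=
    Groth.Agent.Lib.Helper26.AffineVanishing.subsingleton_HU_succ F 0 (isAffineOpen_top X)
  let G := Coh.toAb F
  have hle : UF (X := X) fs ≤ ⊤ := le_top
  let g : G.obj.obj (op (UF (X := X) fs)) →+ LocCohZ.HZ G 1 hle := deltaSec G hle
  have hg : Function.Surjective g := deltaSec_surjective G hle hV
  have hker : (G.obj.map (homOfLE hle).op).hom.range = g.ker := by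
    ext s
    rw [AddMonoidHom.mem_range, AddMonoidHom.mem_ker]
    exact (deltaSec_eq_zero_iff G hle s).symm
  exact ⟨e.symm.trans ((QuotientAddGroup.quotientAddEquivOfEq hker).trans
    (QuotientAddGroup.quotientKerEquivOfSurjective g hg))⟩

include hF in
theorem degSucc (q : ℕ) :
    Nonempty (CohIII.koszulHLim fs (ModuleCat.of Γ(X, ⊤) (F.val.obj (op ⊤))) (q + 2) ≃+
      LocCohZ.HZM X F (q + 2) (UF (X := X) fs)) := by
  haveI : Coh.IsQCoh F := hF
  obtain ⟨c⟩ := Groth.Agent.S2438.key F fs q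
  have hacy : ∀ (n : ℕ) (a : Fin (n + 1) → ULift.{u} (Fin fs.length)) (q' : ℕ),
      Subsingleton (CohTop.HU (Coh.toAb F) (q' + 1)
        (iInf fun k => X.basicOpen (fs.get (a k).down))) := by
    intro n a q'
    apply Groth.Agent.Lib.Helper26.AffineVanishing.subsingleton_HU_succ F q'
    exact IsAffineOpen.iInf (fun k => (isAffineOpen_top X).basicOpen _)
  obtain ⟨l⟩ := Groth.Agent.Lib.Helper26.CechLES.leray
    (fun i : ULift.{u} (Fin fs.length) => X.basicOpen (fs.get i.down)) (Coh.toAb F) hacy (q + 1)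
  rw [iSup_ulift] at l
  have h1 : Subsingleton (CohTop.HU (Coh.toAb F) (q + 1) ⊤) :=
    Groth.Agent.Lib.Helper26.AffineVanishing.subsingleton_HU_succ F q (isAffineOpen_top X)
  have h2 : Subsingleton (CohTop.HU (Coh.toAb F) (q + 2) ⊤) :=
    Groth.Agent.Lib.Helper26.AffineVanishing.subsingleton_HU_succ F (q + 1) (isAffineOpen_top X)
  let d := deltaEquiv (Coh.toAb F) (le_top : UF (X := X) fs ≤ ⊤) q h1 h2
  exact ⟨c.symm.trans (l.trans d)⟩

include hF in
/-- the comparison, in all degrees -/
theorem koszulHLim_equiv_HZM (i : ℕ) :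
    Nonempty (CohIII.koszulHLim fs (ModuleCat.of Γ(X, ⊤) (F.val.obj (op ⊤))) i ≃+
      LocCohZ.HZM X F i (UF (X := X) fs)) := by
  match i with
  | 0 => exact deg0 F fs
  | 1 => exact deg1 F fs
  | q + 2 => exact degSucc F fs q

end Groth.Agent.Lib.Helper42.LCAff
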