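import Groth.Agent.Lib.Helper42.LocCohZ3
import Groth.Agent.Lib.Helper53.Restrict

/-! Low-degree and shifted descriptions of cohomology with supports `H^i_Z(V, F)`, `Z = V ∖ W`,
when the higher cohomology of `F` over `V` vanishes. -/

set_option autoImplicit false
universe u

open CategoryTheory CategoryTheory.Limits TopologicalSpace Opposite Abelian

namespace Groth.Agent.Lib.Helper42.LCAffine

open Groth.Agent.Lib.Helper42.LocCohZ3 Groth.Agent.Lib.Helper53

variable {X : TopCat.{u}} (F : CohTop.Ab X) {W V : Opens X} (h : W ≤ V)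

/-- sections over `W` as classes in `H^0(W, F)`, additively -/
noncomputable def ofSecEquiv : F.obj.obj (op W) ≃+ CohTop.HU F 0 W :=
  (freeSheafHomAddEquiv W F).symm.trans Ext.addEquiv₀.symm

lemma ofSecEquiv_apply (t : F.obj.obj (op W)) : ofSecEquiv F t = ofSec F t := rfl

/-- the connecting map on sections `F(W) ⟶ H^1_Z(V, F)` -/
noncomputable def deltaSec : F.obj.obj (op W) →+ LocCohZ.HZ F 1 h :=
  (LocCohZ.delta F 0 h).comp (ofSecEquiv F (W := W)).toAddMonoidHom

lemma deltaSec_apply (t : F.obj.obj (op W)) :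
    deltaSec F h t = LocCohZ.delta F 0 h (ofSec F t) := rfl

lemma deltaSec_surjective (hV : Subsingleton (CohTop.HU F 1 V)) :
    Function.Surjective (deltaSec F h) := by
  intro z
  obtain ⟨x, hx⟩ := exists_delta_of_toHU_eq_zero F h 0 z (Subsingleton.elim _ _)
  obtain ⟨t, rfl⟩ := exists_ofSec F x
  exact ⟨t, hx⟩

lemma deltaSec_eq_zero_iff (t : F.obj.obj (op W)) :
    deltaSec F h t = 0 ↔ ∃ s : F.obj.obj (op V), F.obj.map (homOfLE h).op s = t := by
  constructor
  · intro ht
    obtain ⟨y, hy⟩ := exists_res_of_delta_eq_zero F h 0 (ofSec F t) ht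
    obtain ⟨s, rfl⟩ := exists_ofSec F y
    rw [res_ofSec] at hy
    exact ⟨s, ofSec_injective F hy⟩
  · rintro ⟨s, rfl⟩
    rw [deltaSec_apply, ← res_ofSec]
    exact delta_res F h 0 _

/-- the shift `H^{p+1}(W, F) ≃ H^{p+2}_Z(V, F)` when `F` has no higher cohomology over `V` -/
lemma delta_bijective (p : ℕ) (h1 : Subsingleton (CohTop.HU F (p + 1) V))
    (h2 : Subsingleton (CohTop.HU F (p + 2) V)) :
    Function.Bijective (LocCohZ.delta F (p + 1) h) := by
  constructor
  · rw [injective_iff_map_eq_zero]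
    intro x hx
    obtain ⟨y, rfl⟩ := exists_res_of_delta_eq_zero F h (p + 1) x hx
    rw [Subsingleton.elim y 0, map_zero]
  · intro z
    exact exists_delta_of_toHU_eq_zero F h (p + 1) z (Subsingleton.elim _ _)

/-- the shift as an additive equivalence -/
noncomputable def deltaEquiv (p : ℕ) (h1 : Subsingleton (CohTop.HU F (p + 1) V))
    (h2 : Subsingleton (CohTop.HU F (p + 2) V)) :
    CohTop.HU F (p + 1) W ≃+ LocCohZ.HZ F (p + 2) h :=
  AddEquiv.ofBijective (LocCohZ.delta F (p + 1) h) (delta_bijective F h p h1 h2)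

end Groth.Agent.Lib.Helper42.LCAffine
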