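import Groth.Agent.Lib.Helper42.LocCohZ3

/-! Vanishing of local cohomology of flasque sheaves. -/

set_option autoImplicit false
universe u

open CategoryTheory CategoryTheory.Limits TopologicalSpace Opposite Abelian

namespace Groth.Agent.Lib.Helper42.LocCohZ4

open Groth.Agent.Lib.Helper53 Groth.Agent.Lib.Helper42.LocCohZ1 Groth.Agent.Lib.Helper42.LocCohZ2
  Groth.Agent.Lib.Helper42.LocCohZ3

variable {X : TopCat.{u}} (F : CohTop.Ab X)

theorem subsingleton_HZ_succ [TopCat.Sheaf.IsFlasque F] {W V : Opens X} (h : W ≤ V) (n : ℕ) :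
    Subsingleton (LocCohZ.HZ F (n + 1) h) := by
  refine subsingleton_of_forall_eq 0 (fun z => ?_)
  have h1 : LocCohZ.toHU F (n + 1) h z = 0 := (subsingleton_HU_succ F V n).elim _ _
  obtain ⟨x, rfl⟩ := exists_delta_of_toHU_eq_zero F h n z h1
  cases n with
  | zero =>
    obtain ⟨t, rfl⟩ := exists_ofSec F x
    obtain ⟨s, rfl⟩ := surjective_of_isFlasque F h t
    rw [← res_ofSec, delta_res]
  | succ m =>
    have : x = 0 := (subsingleton_HU_succ F W m).elim _ _
    rw [this, map_zero]

/-- the value of the cokernel of the unit at `F` is the cokernel of the unit at `F` -/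
noncomputable def cokernelObjIso (U : Opens X) :
    (cokernel (η U)).obj F ≅ cokernel ((η U).app F) :=
  PreservesCokernel.iso ((evaluation (CohTop.Ab X) (CohTop.Ab X)).obj F) (η U)

theorem isZero_HZsh_succ [TopCat.Sheaf.IsFlasque F] (U : Opens X) (n : ℕ) :
    IsZero ((LocCohZ.HZsh U (n + 1)).obj F) := by
  cases n with
  | zero =>
    refine IsZero.of_iso ?_ ((HZshOneIso U).app F ≪≫ cokernelObjIso F U)
    have := epi_η U F
    exact isZero_cokernel_of_epi _
  | succ m =>
    refine IsZero.of_iso ?_ ((HZshSuccIso U m).app F)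
    have : TopCat.Sheaf.IsFlasque ((CohTop.restrFunctor U).obj F) := isFlasque_restr U F
    refine IsZero.of_iso (isZero_Rpush_succ (CohCx.incl U) ((CohTop.restrFunctor U).obj F) m)
      ((CohTop.Rpush (CohCx.incl U) (m + 1)).mapIso ((pullRestrIso U).app F))

end Groth.Agent.Lib.Helper42.LocCohZ4
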