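import Groth.Agent.Lib.Helper42.SpecSys
import Groth.Agent.Lib.Helper42.LCAffine
import Groth.Agent.Lib.Helper98.KoszulCechLim
import Groth.Agent.Lib.Helper26.AffineVanishing

/-! Local cohomology of `M~` on `Spec A` in degrees `0` and `1` is extended Čech cohomology. -/

set_option autoImplicit false
universe u
open AlgebraicGeometry CategoryTheory Opposite TopologicalSpace

namespace Groth.Agent.Lib.Helper42.LCSpec

open Groth.Agent.Lib.Helper98.CechGlue
open Groth.Agent.Lib.Helper42.SpecSys Groth.Agent.Lib.Helper42.LCAffine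
open Helper98.CechFun

section general

variable {R : CommRingCat.{u}}

/-- the extended Čech complexes of isomorphic modules are isomorphic -/
noncomputable def cechIso {M N : ModuleCat.{u} R} (e : M ≅ N) (fs : List R) :
    DerCA.extCech M fs ≅ DerCA.extCech N fs where
  hom := cechMap e.hom fs
  inv := cechMap e.inv fs
  hom_inv_id := by
    rw [← Groth.Agent.Lib.Helper98.CechGlueAlg.cechMap_comp, e.hom_inv_id,
      Groth.Agent.Lib.Helper98.CechGlueAlg.cechMap_id]
  inv_hom_id := by
    rw [← Groth.Agent.Lib.Helper98.CechGlueAlg.cechMap_comp, e.inv_hom_id,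
      Groth.Agent.Lib.Helper98.CechGlueAlg.cechMap_id]

/-- two surjections with the same kernel have isomorphic targets -/
noncomputable def equivOfSurjective {G B C : Type*} [AddCommGroup G] [AddCommGroup B]
    [AddCommGroup C] (f : G →+ B) (g : G →+ C) (hf : Function.Surjective f)
    (hg : Function.Surjective g) (hk : ∀ x, f x = 0 ↔ g x = 0) : B ≃+ C :=
  (QuotientAddGroup.quotientKerEquivOfSurjective f hf).symm.trans
    ((QuotientAddGroup.quotientAddEquivOfEq (by
      ext x
      exact hk x)).trans (QuotientAddGroup.quotientKerEquivOfSurjective g hg))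

end general

section main

variable (A : Type u) [CommRing A] (fs : List A) (M : ModuleCat.{u} A)

lemma punctured_eq :
    LocCoh.puncturedOpen A (Ideal.span {a | a ∈ fs}) =
      ⊤ ⊓ (sys (tilde (R := CommRingCat.of A) M)).UL fs := by
  apply Opens.ext
  rw [top_inf_eq, coe_UL]
  simp [LocCoh.puncturedOpen, PrimeSpectrum.zeroLocus_span]
  rfl

/-- the homology of the extended Čech complex of `Γ(Spec A, M~)` is that of `M` -/
noncomputable def homologyEquiv (p : ℤ) :
    (DerCA.extCech M fs).homology p ≃+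
      (DerCA.extCech ((sys (tilde (R := CommRingCat.of A) M)).P ⊤) fs).homology p :=
  ((HomologicalComplex.homologyFunctor _ _ p).mapIso
    (cechIso (R := CommRingCat.of A) (topIso (R := CommRingCat.of A) M) fs)).toLinearEquiv.toAddEquiv

theorem deg0 :
    Nonempty (CohIII.koszulHLim fs M 0 ≃+
      LocCohZ.HZM (Spec (CommRingCat.of A)) (tilde (R := CommRingCat.of A) M) 0
        (LocCoh.puncturedOpen A (Ideal.span {a | a ∈ fs}))) := by
  rw [punctured_eq A fs M]
  obtain ⟨e1⟩ := Groth.Agent.Lib.Helper98.KoszulCechLim.koszulHLim_equiv fs M 0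
  obtain ⟨e2⟩ := Groth.Agent.Lib.Helper98.CechGlue.H0 (sys (tilde (R := CommRingCat.of A) M)) ⊤
    (good_top (R := CommRingCat.of A) M) fs
  refine ⟨e1.toAddEquiv.trans ((homologyEquiv A fs M _).trans (e2.symm.toAddEquiv.trans ?_))⟩
  refine AddEquiv.trans ?_ (LocCohZ.sect0Equiv _ _).symm
  exact
    { toFun := fun x => ⟨x.1, x.2⟩
      invFun := fun x => ⟨x.1, x.2⟩
      left_inv := fun _ => rfl
      right_inv := fun _ => rfl
      map_add' := fun _ _ => rfl }

theorem deg1 :
    Nonempty (CohIII.koszulHLim fs M 1 ≃+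
      LocCohZ.HZM (Spec (CommRingCat.of A)) (tilde (R := CommRingCat.of A) M) 1
        (LocCoh.puncturedOpen A (Ideal.span {a | a ∈ fs}))) := by
  rw [punctured_eq A fs M]
  obtain ⟨e1⟩ := Groth.Agent.Lib.Helper98.KoszulCechLim.koszulHLim_equiv fs M 1
  obtain ⟨θ, hθ1, hθ2⟩ := Groth.Agent.Lib.Helper98.CechGlue.H1
    (sys (tilde (R := CommRingCat.of A) M)) ⊤ (good_top (R := CommRingCat.of A) M) fs
  have hV : Subsingleton (CohTop.HU (Coh.toAb (tilde (R := CommRingCat.of A) M)) 1 ⊤) :=
    Groth.Agent.Lib.Helper26.AffineVanishing.subsingleton_HU_succ _ 0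
      (isAffineOpen_top (Spec (CommRingCat.of A)))
  refine ⟨e1.toAddEquiv.trans ((homologyEquiv A fs M _).trans ?_)⟩
  let F := Coh.toAb (tilde (R := CommRingCat.of A) M)
  have hle : ⊤ ⊓ (sys (tilde (R := CommRingCat.of A) M)).UL fs ≤ (⊤ : (Spec (CommRingCat.of A)).Opens) :=
    inf_le_left
  let g : F.obj.obj (op (⊤ ⊓ (sys (tilde (R := CommRingCat.of A) M)).UL fs)) →+
      LocCohZ.HZ F 1 hle := deltaSec F hle
  let f : F.obj.obj (op (⊤ ⊓ (sys (tilde (R := CommRingCat.of A) M)).UL fs)) →+
      (DerCA.extCech ((sys (tilde (R := CommRingCat.of A) M)).P ⊤) fs).homology 1 :=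
    θ.toAddMonoidHom
  exact equivOfSurjective f g hθ1 (deltaSec_surjective F hle hV) (fun x =>
    (hθ2 x).trans (deltaSec_eq_zero_iff F hle x).symm)

end main

end Groth.Agent.Lib.Helper42.LCSpec
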