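import Groth.Agent.Lib.Helper42.LCSpec
import Groth.Agent.S2438
import Groth.Agent.Lib.Helper98.CechBC
import Groth.Agent.Lib.Helper26.CechLES

/-! Local cohomology of `M~` on `Spec A` in degrees `≥ 2` is extended Čech cohomology. -/

set_option autoImplicit false
universe u
open AlgebraicGeometry CategoryTheory Opposite TopologicalSpace

namespace Groth.Agent.Lib.Helper42.LCSpec2

open Groth.Agent.Lib.Helper98.CechGlue
open Groth.Agent.Lib.Helper42.SpecSys Groth.Agent.Lib.Helper42.LCAffine
open Groth.Agent.Lib.Helper42.LCSpec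
open Helper98.CechFun

section transport

variable {A R : Type u} [CommRing A] [CommRing R] (e : A →+* R)

/-- restriction of scalars carries localisation at `e a` to localisation at `a` -/
lemma locCompat (a : A) :
    Helper98.CechBC.LocCompat (ModuleCat.restrictScalars.{u} e) (e a) a := by
  intro Y
  let g : Y →ₗ[R] LocalizedModule (Submonoid.powers (e a)) Y :=
    LocalizedModule.mkLinearMap (Submonoid.powers (e a)) Y
  constructor
  · rintro ⟨s, n, rfl⟩
    have h1 := IsLocalizedModule.map_units (S := Submonoid.powers (e a)) g ⟨(e a) ^ n, ⟨n, rfl⟩⟩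
    rw [Module.End.isUnit_iff] at h1 ⊢
    have h2 : ∀ y : LocalizedModule (Submonoid.powers (e a)) Y,
        (algebraMap A (Module.End A ((ModuleCat.restrictScalars.{u} e).obj
          ((DerCA.locFunctor (Submonoid.powers (e a))).obj Y)))) (a ^ n) y =
        (algebraMap R (Module.End R (LocalizedModule (Submonoid.powers (e a)) Y))) ((e a) ^ n) y := by
      intro y
      change e (a ^ n) • y = (e a) ^ n • y
      rw [map_pow]
    exact ⟨fun y₁ y₂ h => h1.1 ((h2 y₁).symm.trans (h.trans (h2 y₂))),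
      fun y => by
        obtain ⟨z, hz⟩ := h1.2 y
        exact ⟨z, (h2 z).trans hz⟩⟩
  · intro y
    obtain ⟨⟨x, ⟨t, n, rfl⟩⟩, hx⟩ := IsLocalizedModule.surj (Submonoid.powers (e a)) g y
    refine ⟨⟨x, ⟨a ^ n, n, rfl⟩⟩, ?_⟩
    change e (a ^ n) • y = g x
    rw [map_pow]
    exact hx
  · intro x₁ x₂ h
    obtain ⟨⟨t, n, rfl⟩, hc⟩ := IsLocalizedModule.exists_of_eq (S := Submonoid.powers (e a))
      (f := g) h
    refine ⟨⟨a ^ n, n, rfl⟩, ?_⟩
    change e (a ^ n) • x₁ = e (a ^ n) • x₂
    rw [map_pow]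
    exact hc

/-- extended Čech cohomology commutes with restriction of scalars -/
theorem cechH_restrict (fs : List A) (N : ModuleCat.{u} R) (q : ℤ) :
    Nonempty ((DerCA.extCech ((ModuleCat.restrictScalars.{u} e).obj N) fs).homology q ≃+
      (DerCA.extCech N (fs.map e)).homology q) := by
  let l : List (R × A) := fs.map (fun a => (e a, a))
  have hl : ∀ p ∈ l, Helper98.CechBC.LocCompat (ModuleCat.restrictScalars.{u} e) p.1 p.2 := by
    intro p hp
    obtain ⟨a, -, rfl⟩ := List.mem_map.1 hp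
    exact locCompat e a
  have h1 : l.map Prod.snd = fs := by
    simp [l, List.map_map, Function.comp_def]
  have h2 : l.map Prod.fst = fs.map e := by
    simp [l, List.map_map, Function.comp_def]
  obtain ⟨i⟩ := Helper98.CechBC.cechH_functor (ModuleCat.restrictScalars.{u} e) l hl N q
  rw [h1, h2] at i
  exact ⟨i.toLinearEquiv.toAddEquiv.trans (AddEquiv.refl _)⟩

end transport

section main

variable (A : Type u) [CommRing A] (fs : List A) (M : ModuleCat.{u} A)

/-- the ring map `A ⟶ Γ(Spec A, ⊤)` -/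
noncomputable def eΓ : A →+* Γ(Spec (CommRingCat.of A), ⊤) :=
  (Scheme.ΓSpecIso (CommRingCat.of A)).inv.hom

/-- the global sections of `M~`, as a module over the ring of global functions -/
noncomputable abbrev NΓ : ModuleCat.{u} Γ(Spec (CommRingCat.of A), ⊤) :=
  ModuleCat.of Γ(Spec (CommRingCat.of A), ⊤) ((tilde (R := CommRingCat.of A) M).val.obj (op ⊤))

/-- restricting scalars on global sections gives the module of the system -/
noncomputable def restrIso :
    (ModuleCat.restrictScalars.{u} (eΓ A)).obj (NΓ A M) ≅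
      (sys (tilde (R := CommRingCat.of A) M)).P ⊤ :=
  Iso.refl _

/-- the opens of the covering of the punctured spectrum -/
noncomputable abbrev UU : ULift.{u} (Fin (fs.map (eΓ A)).length) → (Spec (CommRingCat.of A)).Opens :=
  fun i => (Spec (CommRingCat.of A)).basicOpen ((fs.map (eΓ A)).get i.down)

lemma iSup_UU :
    iSup (UU A fs) = LocCoh.puncturedOpen A (Ideal.span {a | a ∈ fs}) := by
  have hU : ∀ i : ULift.{u} (Fin (fs.map (eΓ A)).length),
      UU A fs i = PrimeSpectrum.basicOpen (R := A) (fs.get (i.down.cast (List.length_map _))) := by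
    intro i
    have h1 : (fs.map (eΓ A)).get i.down = eΓ A (fs.get (i.down.cast (List.length_map _))) := by
      simp
    change (Spec (CommRingCat.of A)).basicOpen ((fs.map (eΓ A)).get i.down) = _
    rw [h1]
    exact basicOpen_eq_of_affine (R := CommRingCat.of A) _
  apply Opens.ext
  ext x
  simp only [Opens.coe_iSup, Set.mem_iUnion, SetLike.mem_coe, hU, LocCoh.puncturedOpen,
    PrimeSpectrum.zeroLocus_span]
  constructor
  · rintro ⟨i, hi⟩ hx
    exact hi (hx (List.get_mem fs _))
  · intro hx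
    have hx' : ¬ ({a | a ∈ fs} ⊆ ((PrimeSpectrum.asIdeal (R := A) x : Ideal A) : Set A)) :=
      fun h => hx ((PrimeSpectrum.mem_zeroLocus (R := A) x _).2 h)
    rw [Set.not_subset] at hx'
    obtain ⟨a, ha, hax⟩ := hx'
    obtain ⟨j, rfl⟩ := List.get_of_mem ha
    exact ⟨⟨j.cast (List.length_map _).symm⟩, hax⟩

theorem degSucc (q : ℕ) :
    Nonempty (CohIII.koszulHLim fs M (q + 2) ≃+
      LocCohZ.HZM (Spec (CommRingCat.of A)) (tilde (R := CommRingCat.of A) M) (q + 2)
        (LocCoh.puncturedOpen A (Ideal.span {a | a ∈ fs}))) := by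
  let X := Spec (CommRingCat.of A)
  let F := tilde (R := CommRingCat.of A) M
  obtain ⟨k1⟩ := Groth.Agent.Lib.Helper98.KoszulCechLim.koszulHLim_equiv fs M (q + 2)
  obtain ⟨k2⟩ := Groth.Agent.Lib.Helper98.KoszulCechLim.koszulHLim_equiv (fs.map (eΓ A))
    (NΓ A M) (q + 2)
  obtain ⟨t⟩ := cechH_restrict (eΓ A) fs (NΓ A M) ((q + 2 : ℕ) : ℤ)
  obtain ⟨c⟩ := Groth.Agent.S2438.key F (fs.map (eΓ A)) q
  have hacy : ∀ (n : ℕ) (a : Fin (n + 1) → ULift.{u} (Fin (fs.map (eΓ A)).length)) (q' : ℕ),
      Subsingleton (CohTop.HU (Coh.toAb F) (q' + 1) (iInf fun k => UU A fs (a k))) := by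
    intro n a q'
    apply Groth.Agent.Lib.Helper26.AffineVanishing.subsingleton_HU_succ F q'
    exact IsAffineOpen.iInf (fun k => (isAffineOpen_top X).basicOpen _)
  obtain ⟨l⟩ := Groth.Agent.Lib.Helper26.CechLES.leray (UU A fs) (Coh.toAb F) hacy (q + 1)
  rw [iSup_UU] at l
  have h1 : Subsingleton (CohTop.HU (Coh.toAb F) (q + 1) ⊤) :=
    Groth.Agent.Lib.Helper26.AffineVanishing.subsingleton_HU_succ F q (isAffineOpen_top X)
  have h2 : Subsingleton (CohTop.HU (Coh.toAb F) (q + 2) ⊤) :=
    Groth.Agent.Lib.Helper26.AffineVanishing.subsingleton_HU_succ F (q + 1) (isAffineOpen_top X)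
  let d := deltaEquiv (Coh.toAb F)
    (le_top : LocCoh.puncturedOpen A (Ideal.span {a | a ∈ fs}) ≤ ⊤) q h1 h2
  let r := (HomologicalComplex.homologyFunctor _ _ ((q + 2 : ℕ) : ℤ)).mapIso
    (cechIso (R := CommRingCat.of A) (restrIso A M) fs)
  exact ⟨k1.toAddEquiv.trans ((homologyEquiv A fs M _).trans
    (r.symm.toLinearEquiv.toAddEquiv.trans (t.trans (k2.symm.toAddEquiv.trans
      (c.symm.trans (l.trans d))))))⟩

end main

end Groth.Agent.Lib.Helper42.LCSpec2
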