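import Groth.Agent.Lib.Helper42.LCSpec2
import Groth.Agent.S6023

/-! Flasqueness of `M~` for injective `M` in terms of Koszul cohomology (Noetherian spectrum). -/

set_option autoImplicit false
universe u
open AlgebraicGeometry CategoryTheory Opposite TopologicalSpace

namespace Groth.Agent.Lib.Helper42.LCSpec3

open Groth.Agent.Lib.Helper42.LCSpec Groth.Agent.Lib.Helper42.LCSpec2

variable (A : Type u) [CommRing A]

/-- the comparison, in all degrees -/
theorem koszulHLim_equiv_HZM (fs : List A) (M : ModuleCat.{u} A) (i : ℕ) :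
    Nonempty (CohIII.koszulHLim fs M i ≃+
      LocCohZ.HZM (Spec (CommRingCat.of A)) (tilde (R := CommRingCat.of A) M) i
        (LocCoh.puncturedOpen A (Ideal.span {a | a ∈ fs}))) := by
  match i with
  | 0 => exact deg0 A fs M
  | 1 => exact deg1 A fs M
  | q + 2 => exact degSucc A fs M q

lemma exists_list [NoetherianSpace (PrimeSpectrum A)] (U : (Spec (CommRingCat.of A)).Opens) :
    ∃ fs : List A, U = LocCoh.puncturedOpen A (Ideal.span {a | a ∈ fs}) := by
  let s : Set (PrimeSpectrum A) := U.1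
  have hc : IsCompact s := NoetherianSpace.isCompact _
  have ho : IsOpen s := U.2
  obtain ⟨t, ht⟩ := PrimeSpectrum.isCompact_isOpen_iff.mp ⟨hc, ho⟩
  refine ⟨t.toList, ?_⟩
  apply Opens.ext
  have h1 : {a | a ∈ t.toList} = (t : Set A) := by
    ext a
    simp
  simp only [LocCoh.puncturedOpen, PrimeSpectrum.zeroLocus_span, h1]
  exact ht.symm

theorem subsingleton_of_isFlasque (fs : List A) (M : ModuleCat.{u} A)
    (hM : TopCat.Sheaf.IsFlasque (Coh.toAb (tilde (R := CommRingCat.of A) M))) (i : ℕ)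
    (hi : 0 < i) : Subsingleton (CohIII.koszulHLim fs M i) := by
  obtain ⟨e⟩ := koszulHLim_equiv_HZM A fs M i
  have := (Groth.Agent.S6023.result (Coh.toAb (tilde (R := CommRingCat.of A) M))).1
    (LocCoh.puncturedOpen A (Ideal.span {a | a ∈ fs})) ⊤ le_top i hi
  exact e.toEquiv.subsingleton

theorem isFlasque_of_subsingleton [NoetherianSpace (PrimeSpectrum A)] (M : ModuleCat.{u} A)
    (h : ∀ fs : List A, Subsingleton (CohIII.koszulHLim fs M 1)) :
    TopCat.Sheaf.IsFlasque (Coh.toAb (tilde (R := CommRingCat.of A) M)) := by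
  apply Groth.Agent.Lib.Helper42.LocCohZ3.isFlasque_of_HZc_one
  intro U
  obtain ⟨fs, rfl⟩ := exists_list A U
  obtain ⟨e⟩ := koszulHLim_equiv_HZM A fs M 1
  have := h fs
  exact e.symm.toEquiv.subsingleton

end Groth.Agent.Lib.Helper42.LCSpec3
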