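import Groth.Agent.Lib.Helper42.LocCohZ9
import Groth.Agent.Lib.Helper42.LocCohZ4
import Groth.Agent.Lib.Helper68.GSSDer7

/-! Spectral sequences for cohomology with supports. -/

set_option autoImplicit false
universe u

open CategoryTheory CategoryTheory.Limits TopologicalSpace Opposite Abelian

namespace Groth.Agent.Lib.Helper42.LocCohSS

open Groth.Agent.Lib.Helper53 Groth.Agent.Lib.Helper42.LocCohZ1 Groth.Agent.Lib.Helper42.LocCohZ2
  Groth.Agent.Lib.Helper42.LocCohZ5 Groth.Agent.Lib.Helper42.LocCohZ9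
  Groth.Agent.Lib.Helper42.DeltaFun
  Groth.Agent.Lib.Helper42.DeltaExt Groth.Agent.Lib.Helper42.DeltaRDer

variable (X : TopCat.{u})

/-- global sections of abelian sheaves -/
noncomputable def Γ : CohTop.Ab X ⥤ AddCommGrpCat.{u} :=
  sheafToPresheaf (Opens.grothendieckTopology X) AddCommGrpCat.{u} ⋙
    (evaluation (Opens X)ᵒᵖ AddCommGrpCat.{u}).obj (op ⊤)

instance : (Γ X).Additive := by
  unfold Γ; infer_instance

instance : PreservesFiniteLimits (Γ X) := by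
  unfold Γ; infer_instance

variable {X}

/-- `Hom(ℤ_V, G) = G(V)` on `Ext^0` -/
noncomputable def extZeroEquiv (V : Opens X) (G : CohTop.Ab X) :
    Ext.{u} (freeSheaf V) G 0 ≃+ G.obj.obj (op V) :=
  Ext.addEquiv₀.trans (CohFree.homEquivSect (Opens.grothendieckTopology X) V G)

lemma extZeroEquiv_naturality (V : Opens X) {G G' : CohTop.Ab X} (φ : G ⟶ G')
    (x : Ext.{u} (freeSheaf V) G 0) :
    extZeroEquiv V G' (x.comp (Ext.mk₀ φ) (add_zero 0)) = φ.hom.app (op V) (extZeroEquiv V G x) := by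
  unfold extZeroEquiv
  rw [AddEquiv.trans_apply, addEquiv₀_comp_mk₀]
  rfl

/-- the degree zero isomorphism -/
noncomputable def gammaZeroIso : extFunctorObj (freeSheaf (⊤ : Opens X)) 0 ≅ Γ X :=
  NatIso.ofComponents (fun G => (extZeroEquiv ⊤ G).toAddCommGrpIso) (by
    intro G G' φ
    ext x
    exact extZeroEquiv_naturality ⊤ φ x)

/-- `R^q Γ(X, -) ≅ Ext^q(ℤ_X, -)` -/
noncomputable def RGammaIso (q : ℕ) :
    (Γ X).rightDerived q ≅ extFunctorObj (freeSheaf (⊤ : Opens X)) q :=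
  DeltaFunctor.isoOfZero (A := ofRightDerived (Γ X)) (B := ofExt (freeSheaf (⊤ : Opens X)))
    (ofRightDerived_eff _) (ofExt_eff _)
    ((Γ X).rightDerivedZeroIsoSelf ≪≫ gammaZeroIso.symm) q

lemma isZero_RGamma_of_isFlasque (G : CohTop.Ab X) [TopCat.Sheaf.IsFlasque G] (q : ℕ)
    (hq : 0 < q) : IsZero (((Γ X).rightDerived q).obj G) := by
  obtain ⟨n, rfl⟩ : ∃ n, q = n + 1 := ⟨q - 1, by omega⟩
  refine IsZero.of_iso ?_ ((RGammaIso (n + 1)).app G)
  have : Subsingleton (CohTop.HU G (n + 1) ⊤) := subsingleton_HU_succ G ⊤ n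
  exact AddCommGrpCat.isZero_of_subsingleton (AddCommGrpCat.of (CohTop.HU G (n + 1) ⊤))

lemma isZero_RHZ_of_isFlasque (U : Opens X) (G : CohTop.Ab X) [TopCat.Sheaf.IsFlasque G] (q : ℕ)
    (hq : 0 < q) : IsZero ((LocCohZ.RHZ U q).obj G) := by
  obtain ⟨n, rfl⟩ : ∃ n, q = n + 1 := ⟨q - 1, by omega⟩
  refine IsZero.of_iso ?_ ((RHZIso U (n + 1)).app G)
  have : Subsingleton (LocCohZ.HZc G (n + 1) U) :=
    LocCohZ4.subsingleton_HZ_succ G (le_top : U ≤ ⊤) n
  exact AddCommGrpCat.isZero_of_subsingleton (AddCommGrpCat.of (LocCohZ.HZc G (n + 1) U))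

lemma isZero_punit : IsZero (AddCommGrpCat.of PUnit.{u + 1}) :=
  AddCommGrpCat.isZero_of_subsingleton _

/-- the spectral sequence `H^p(X, ℋ^q_Z(F)) ⇒ H^{p+q}_Z(X, F)` -/
theorem ss_sheaf (F : CohTop.Ab X) (U : Opens X) :
    ∃ (E : E₂CohomologicalSpectralSequence AddCommGrpCat.{u})
      (a : SpSeq.Abutment E (fun n : ℤ =>
        if 0 ≤ n then AddCommGrpCat.of (LocCohZ.HZc F n.toNat U) else AddCommGrpCat.of PUnit.{u + 1})),
      (∀ n : ℤ, a.IsFinite n) ∧ SpSeq.IsBounded E ∧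
      ∀ p q : ℤ, Nonempty ((E.page 2 le_rfl).X (p, q) ≅
        (if 0 ≤ p ∧ 0 ≤ q then AddCommGrpCat.of (CohTop.HU ((LocCohZ.HZsh U q.toNat).obj F) p.toNat ⊤)
          else AddCommGrpCat.of PUnit.{u + 1})) := by
  obtain ⟨E, a, h1, h2, h3⟩ := Groth.Agent.Lib.Helper68.GSSDer.exists_spectralSequence_of_iso
    (LocCohZ.sectSuppF U) (Γ X)
    (fun Q hQ q hq => by
      have hfl : TopCat.Sheaf.IsFlasque Q := isFlasque_of_injective Q
      have : TopCat.Sheaf.IsFlasque (CohCx.sectSupp U Q) := isFlasque_sectSupp U Q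
      exact isZero_RGamma_of_isFlasque (CohCx.sectSupp U Q) q hq)
    F
    (fun n : ℤ =>
        if 0 ≤ n then AddCommGrpCat.of (LocCohZ.HZc F n.toNat U) else AddCommGrpCat.of PUnit.{u + 1})
    (fun n hn => (RHZIso U n.toNat).app F ≪≫ eqToIso (by rw [if_pos hn]; rfl))
    (fun n hn => by rw [if_neg (by omega)]; exact isZero_punit)
  refine ⟨E, a, h1, h2, fun p q => ?_⟩
  obtain ⟨e⟩ := h3 p q
  by_cases hpq : 0 ≤ p ∧ 0 ≤ q
  · rw [if_pos hpq] at e ⊢
    exact ⟨e ≪≫ (RGammaIso p.toNat).app _⟩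
  · rw [if_neg hpq] at e ⊢
    exact ⟨e ≪≫ (isZero_zero _).iso isZero_punit⟩

end Groth.Agent.Lib.Helper42.LocCohSS
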