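import Groth.Agent.Lib.Helper42.LocCohSS

/-! The spectral sequence `H^p_{Y'}(Y, R^q f_* F) ⇒ H^{p+q}_{X'}(X, F)`. -/

set_option autoImplicit false
universe u

open CategoryTheory CategoryTheory.Limits TopologicalSpace Opposite Abelian

namespace Groth.Agent.Lib.Helper42.LocCohSS2

open Groth.Agent.Lib.Helper53 Groth.Agent.Lib.Helper42.LocCohZ1 Groth.Agent.Lib.Helper42.LocCohZ2
  Groth.Agent.Lib.Helper42.LocCohZ5 Groth.Agent.Lib.Helper42.LocCohZ9
  Groth.Agent.Lib.Helper42.DeltaFun Groth.Agent.Lib.Helper42.LocCohSS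
  Groth.Agent.Lib.Helper42.DeltaExt Groth.Agent.Lib.Helper42.DeltaRDer

variable {X Y : TopCat.{u}} (f : X ⟶ Y) (V : Opens Y)

/-- global sections of `f_* F` vanishing on `V` are global sections of `F` vanishing on `f⁻¹ V` -/
noncomputable def sectZPushEquiv (F : CohTop.Ab X) :
    LocCohZ.sectZ ((CohTop.push f).obj F) (le_top : V ≤ ⊤) ≃+
      LocCohZ.sectZ F (le_top : (Opens.map f).obj V ≤ ⊤) :=
  AddEquiv.refl _

lemma sectZPushEquiv_val (F : CohTop.Ab X)
    (s : LocCohZ.sectZ ((CohTop.push f).obj F) (le_top : V ≤ ⊤)) :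
    (sectZPushEquiv f V F s).1 = s.1 := rfl

/-- the degree zero comparison -/
noncomputable def zeroEquiv (F : CohTop.Ab X) :
    (CohCx.sectSupp V ((CohTop.push f).obj F)).obj.obj (op ⊤) ≃+
      LocCohZ.HZc F 0 ((Opens.map f).obj V) :=
  (((gammaZEquiv V ((CohTop.push f).obj F)).trans
    (LocCohZ.sect0Equiv ((CohTop.push f).obj F) (le_top : V ≤ ⊤))).trans
      (sectZPushEquiv f V F)).trans
    (LocCohZ.sect0Equiv F (le_top : (Opens.map f).obj V ≤ ⊤)).symm

lemma sect0Equiv_zeroEquiv (F : CohTop.Ab X)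
    (t : (CohCx.sectSupp V ((CohTop.push f).obj F)).obj.obj (op ⊤)) :
    (LocCohZ.sect0Equiv F (le_top : (Opens.map f).obj V ≤ ⊤) (zeroEquiv f V F t)).1 =
      (incl V ((CohTop.push f).obj F)).hom.app (op ⊤) t := by
  unfold zeroEquiv
  rw [AddEquiv.trans_apply, AddEquiv.apply_symm_apply, AddEquiv.trans_apply, sectZPushEquiv_val,
    AddEquiv.trans_apply, sect0Equiv_gammaZEquiv]

lemma zeroEquiv_naturality {F G : CohTop.Ab X} (φ : F ⟶ G)
    (t : (CohCx.sectSupp V ((CohTop.push f).obj F)).obj.obj (op ⊤)) :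
    zeroEquiv f V G (((LocCohZ.sectSuppF V).map ((CohTop.push f).map φ)).hom.app (op ⊤) t) =
      LocCohZ.map φ 0 (le_top : (Opens.map f).obj V ≤ ⊤) (zeroEquiv f V F t) := by
  apply (LocCohZ.sect0Equiv G (le_top : (Opens.map f).obj V ≤ ⊤)).injective
  apply Subtype.ext
  rw [sect0Equiv_zeroEquiv, sect0Equiv_map, sect0Equiv_zeroEquiv, incl_naturality_apply]
  rfl

/-- the degree zero isomorphism of functors -/
noncomputable def zeroIso :
    CohTop.push f ⋙ LocCohZ.gammaZF V ≅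
      extFunctorObj (LocCohZ.zq (le_top : (Opens.map f).obj V ≤ ⊤)) 0 :=
  NatIso.ofComponents (fun F => (zeroEquiv f V F).toAddCommGrpIso) (by
    intro F G φ
    ext t
    exact zeroEquiv_naturality f V φ t)

instance : PreservesFiniteLimits (CohTop.push f ⋙ LocCohZ.gammaZF V) := by
  have := push_preservesFiniteLimits f
  infer_instance

/-- `R^n(Γ_{Y'} ∘ f_*) ≅ Ext^n(ℤ_{X'}, -)` -/
noncomputable def RIso (n : ℕ) :
    (CohTop.push f ⋙ LocCohZ.gammaZF V).rightDerived n ≅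
      extFunctorObj (LocCohZ.zq (le_top : (Opens.map f).obj V ≤ ⊤)) n :=
  DeltaFunctor.isoOfZero (A := ofRightDerived (CohTop.push f ⋙ LocCohZ.gammaZF V))
    (B := ofExt (LocCohZ.zq (le_top : (Opens.map f).obj V ≤ ⊤)))
    (ofRightDerived_eff _) (ofExt_eff _)
    ((CohTop.push f ⋙ LocCohZ.gammaZF V).rightDerivedZeroIsoSelf ≪≫ zeroIso f V) n

/-- the spectral sequence `H^p_{Y'}(Y, R^q f_* F) ⇒ H^{p+q}_{X'}(X, F)` -/
theorem ss_push (F : CohTop.Ab X) :
    ∃ (E : E₂CohomologicalSpectralSequence AddCommGrpCat.{u})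
      (a : SpSeq.Abutment E (fun n : ℤ =>
        if 0 ≤ n then AddCommGrpCat.of (LocCohZ.HZc F n.toNat ((Opens.map f).obj V))
          else AddCommGrpCat.of PUnit.{u + 1})),
      (∀ n : ℤ, a.IsFinite n) ∧ SpSeq.IsBounded E ∧
      ∀ p q : ℤ, Nonempty ((E.page 2 le_rfl).X (p, q) ≅
        (if 0 ≤ p ∧ 0 ≤ q then AddCommGrpCat.of (LocCohZ.HZc ((CohTop.Rpush f q.toNat).obj F) p.toNat V)
          else AddCommGrpCat.of PUnit.{u + 1})) := by
  obtain ⟨E, a, h1, h2, h3⟩ := Groth.Agent.Lib.Helper68.GSSDer.exists_spectralSequence_of_iso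
    (CohTop.push f) (LocCohZ.gammaZF V)
    (fun Q hQ q hq => by
      have hfl : TopCat.Sheaf.IsFlasque Q := isFlasque_of_injective Q
      have : TopCat.Sheaf.IsFlasque ((CohTop.push f).obj Q) :=
        TopCat.Sheaf.IsFlasque.pushforward_isFlasque Q f
      exact isZero_RHZ_of_isFlasque V ((CohTop.push f).obj Q) q hq)
    F
    (fun n : ℤ =>
        if 0 ≤ n then AddCommGrpCat.of (LocCohZ.HZc F n.toNat ((Opens.map f).obj V))
          else AddCommGrpCat.of PUnit.{u + 1})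
    (fun n hn => (RIso f V n.toNat).app F ≪≫ eqToIso (by rw [if_pos hn]; rfl))
    (fun n hn => by rw [if_neg (by omega)]; exact isZero_punit)
  refine ⟨E, a, h1, h2, fun p q => ?_⟩
  obtain ⟨e⟩ := h3 p q
  by_cases hpq : 0 ≤ p ∧ 0 ≤ q
  · rw [if_pos hpq] at e ⊢
    exact ⟨e ≪≫ (RHZIso V p.toNat).app _⟩
  · rw [if_neg hpq] at e ⊢
    exact ⟨e ≪≫ (isZero_zero _).iso isZero_punit⟩

end Groth.Agent.Lib.Helper42.LocCohSS2
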