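import Groth.Prelude.Def_LocCohZ
import Groth.Agent.Lib.Helper42.KerDer
import Groth.Agent.Lib.Helper42.RDerComm
import Groth.Agent.Lib.Helper53.RestrInj
import Groth.Agent.Lib.Helper53.Flasque

/-! Local cohomology sheaves on a topological space: `ℋ¹_Z ≅ coker(F → j_* j⁻¹ F)`,
`ℋ^{i+1}_Z ≅ R^i j_* ∘ j⁻¹`. -/

set_option autoImplicit false
universe u

open CategoryTheory CategoryTheory.Limits TopologicalSpace Opposite

namespace Groth.Agent.Lib.Helper42.LocCohZ1

open Groth.Agent.Lib.Helper53 FunctorSESR

section Generic

variable {X Y : TopCat.{u}} (f : X ⟶ Y)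

/-- the pullback-pushforward adjunction, typed over `CohTop` -/
noncomputable abbrev ppAdj : CohTop.pull f ⊣ CohTop.push f :=
  TopCat.Sheaf.pullbackPushforwardAdjunction AddCommGrpCat.{u} f

lemma map_isContinuous :
    (Opens.map f).IsContinuous (Opens.grothendieckTopology Y) (Opens.grothendieckTopology X) :=
  inferInstance

lemma push_additive : (CohTop.push f).Additive := inferInstance

lemma pull_additive : (CohTop.pull f).Additive :=
  (ppAdj f).left_adjoint_additive

lemma pull_preservesFiniteColimits : PreservesFiniteColimits (CohTop.pull f) :=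
  have := (ppAdj f).leftAdjoint_preservesColimits
  inferInstance

lemma push_preservesFiniteLimits : PreservesFiniteLimits (CohTop.push f) :=
  have : PreservesLimitsOfSize.{0, 0} (CohTop.push f) := (ppAdj f).rightAdjoint_preservesLimits
  inferInstance

end Generic

variable {X : TopCat.{u}} (U : Opens X)

instance push_incl_additive : (CohTop.push (CohCx.incl U)).Additive := push_additive _

instance pull_incl_additive : (CohTop.pull (CohCx.incl U)).Additive := pull_additive _

instance pull_incl_preservesFiniteColimits : PreservesFiniteColimits (CohTop.pull (CohCx.incl U)) :=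
  pull_preservesFiniteColimits _

instance push_incl_preservesFiniteLimits : PreservesFiniteLimits (CohTop.push (CohCx.incl U)) :=
  push_preservesFiniteLimits _

/-- the explicit adjunction `j^* ⊣ j_*` for the inclusion of an open subspace -/
noncomputable def restrPushAdj : CohTop.restrFunctor U ⊣ CohTop.push (CohCx.incl U) :=
  haveI := jFun_isContinuous U
  haveI := map_isContinuous (CohCx.incl U)
  Adjunction.sheafPushforwardContinuous (E := AddCommGrpCat.{u})
    (F := jFun U) (G := Opens.map (CohCx.incl U))
    (IsOpenMap.adjunction (f := CohCx.incl U) U.isOpenEmbedding.isOpenMap)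
    (Opens.grothendieckTopology (TopCat.of U)) (Opens.grothendieckTopology X)

/-- the abstract pullback along an open inclusion is the restriction -/
noncomputable def pullRestrIso : CohTop.pull (CohCx.incl U) ≅ CohTop.restrFunctor U :=
  Adjunction.leftAdjointUniq (ppAdj (CohCx.incl U)) (restrPushAdj U)

/-- the unit of the abstract adjunction -/
noncomputable abbrev η : 𝟭 (CohTop.Ab X) ⟶ CohTop.pull (CohCx.incl U) ⋙ CohTop.push (CohCx.incl U) :=
  (ppAdj (CohCx.incl U)).unit

lemma epi_restrPushAdj_unit (F : CohTop.Ab X) [TopCat.Sheaf.IsFlasque F] :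
    Epi ((restrPushAdj U).unit.app F) := by
  apply (sheafToPresheaf _ _).epi_of_epi_map
  apply (config := { allowSynthFailures := true }) NatTrans.epi_of_epi_app
  intro V
  change Epi (F.obj.map ((IsOpenMap.adjunction (f := CohCx.incl U)
    U.isOpenEmbedding.isOpenMap).counit.app V.unop).op)
  exact TopCat.Presheaf.IsFlasque.epi _

lemma η_eq (F : CohTop.Ab X) :
    (η U).app F = (restrPushAdj U).unit.app F ≫
      (CohTop.push (CohCx.incl U)).map ((pullRestrIso U).inv.app F) := by
  have h := Adjunction.unit_leftAdjointUniq_hom_app (ppAdj (CohCx.incl U)) (restrPushAdj U) F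
  change (η U).app F ≫ (CohTop.push (CohCx.incl U)).map ((pullRestrIso U).hom.app F) = _ at h
  rw [← h, Category.assoc, ← Functor.map_comp, Iso.hom_inv_id_app]
  erw [CategoryTheory.Functor.map_id, Category.comp_id]

lemma epi_η (F : CohTop.Ab X) [TopCat.Sheaf.IsFlasque F] : Epi ((η U).app F) := by
  rw [η_eq]
  have := epi_restrPushAdj_unit U F
  infer_instance

instance pull_incl_preservesFiniteLimits : PreservesFiniteLimits (CohTop.pull (CohCx.incl U)) :=
  preservesFiniteLimits_of_natIso (pullRestrIso U).symm

instance pull_incl_preservesInjectiveObjects :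
    (CohTop.pull (CohCx.incl U)).PreservesInjectiveObjects where
  injective_obj {I} _ :=
    Injective.of_iso ((pullRestrIso U).app I).symm (injective_restr U I)

/-- the inclusion `Γ_Z ⟶ 𝟭` -/
noncomputable def ι : LocCohZ.sectSuppF U ⟶ 𝟭 (CohTop.Ab X) where
  app F := kernel.ι _
  naturality F G φ := by
    have h : (LocCohZ.sectSuppF U).map φ = kernel.map _ _ φ
      ((CohTop.pull (CohCx.incl U) ⋙ CohTop.push (CohCx.incl U)).map φ)
      ((TopCat.Sheaf.pullbackPushforwardAdjunction AddCommGrpCat.{u}
        (CohCx.incl U)).unit.naturality φ).symm := rfl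
    rw [h]
    exact kernel.lift_ι _ _ _

lemma exactOnInj : ExactOnInj (ι U) (η U) where
  zero := by
    ext F : 2
    exact kernel.condition _
  shortExact I _ :=
    { exact := ShortComplex.exact_of_f_is_kernel _ (kernelIsKernel _)
      mono_f := (inferInstance : Mono (kernel.ι ((η U).app I)))
      epi_g := by
        have : TopCat.Sheaf.IsFlasque I := isFlasque_of_injective I
        exact epi_η U I }

/-- `ℋ¹_Z ≅ coker (𝟭 ⟶ j_* j⁻¹)` -/
noncomputable def HZshOneIso : LocCohZ.HZsh U 1 ≅ cokernel (η U) :=
  (KerDer.cokerIso (exactOnInj U)).symm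

/-- `ℋ^{i+2}_Z ≅ j⁻¹ ⋙ R^{i+1} j_*` -/
noncomputable def HZshSuccIso (i : ℕ) :
    LocCohZ.HZsh U (i + 2) ≅ CohTop.pull (CohCx.incl U) ⋙ CohTop.Rpush (CohCx.incl U) (i + 1) :=
  (KerDer.shiftIso (exactOnInj U) i).symm ≪≫
    RDerComm.preCompIso (CohTop.pull (CohCx.incl U)) (CohTop.push (CohCx.incl U)) (i + 1)

end Groth.Agent.Lib.Helper42.LocCohZ1
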