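import Groth.Agent.Lib.Helper42.LocCohZ1
import Groth.Agent.Lib.Helper53.Profinite

/-! Sections of `Γ_Z(F) = ker(F → j_* j⁻¹ F)` over an open `V`: the sections of `F` over `V`
vanishing on `V ⊓ U`. -/

set_option autoImplicit false
universe u

open CategoryTheory CategoryTheory.Limits TopologicalSpace Opposite

namespace Groth.Agent.Lib.Helper42.LocCohZ2

open Groth.Agent.Lib.Helper53 Groth.Agent.Lib.Helper42.LocCohZ1

variable {X : TopCat.{u}} (U : Opens X) (F : CohTop.Ab X)

/-- the inclusion `Γ_Z(F) ⟶ F` -/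
noncomputable abbrev incl : CohCx.sectSupp U F ⟶ F := kernel.ι ((η U).app F)

lemma comp_η_eq_zero_iff {T : CohTop.Ab X} (g : T ⟶ F) :
    g ≫ (η U).app F = 0 ↔ g ≫ (restrPushAdj U).unit.app F = 0 := by
  rw [η_eq, ← Category.assoc]
  constructor
  · intro h
    have : IsIso ((CohTop.push (CohCx.incl U)).map ((pullRestrIso U).inv.app F)) := inferInstance
    exact (cancel_mono ((CohTop.push (CohCx.incl U)).map ((pullRestrIso U).inv.app F))).1
      (by rw [h, zero_comp])
  · intro h
    rw [h, zero_comp]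

lemma jj_le (V : Opens X) : (jFun U).obj ((Opens.map (CohCx.incl U)).obj V) ≤ V ⊓ U := by
  rintro _ ⟨x, hx, rfl⟩
  exact ⟨hx, x.2⟩

lemma le_jj (V : Opens X) : V ⊓ U ≤ (jFun U).obj ((Opens.map (CohCx.incl U)).obj V) := by
  rintro x ⟨hxV, hxU⟩
  exact ⟨⟨x, hxU⟩, hxV, rfl⟩

lemma unit_app_apply (V : Opens X) (s : F.obj.obj (op V)) :
    ((restrPushAdj U).unit.app F).hom.app (op V) s =
      F.obj.map (homOfLE ((jj_le U V).trans inf_le_left)).op s := rfl

lemma unit_app_eq_zero_iff (V : Opens X) (s : F.obj.obj (op V)) :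
    ((restrPushAdj U).unit.app F).hom.app (op V) s = 0 ↔
      F.obj.map (homOfLE (inf_le_left : V ⊓ U ≤ V)).op s = 0 := by
  rw [unit_app_apply]
  change F.obj.map (homOfLE ((jj_le U V).trans inf_le_left)).op s =
    (0 : F.obj.obj (op ((jFun U).obj ((Opens.map (CohCx.incl U)).obj V)))) ↔ _
  constructor
  · intro h
    have := congrArg (F.obj.map (homOfLE (le_jj U V)).op) h
    rw [map_map_eq, map_zero] at this
    exact this
  · intro h
    have := congrArg (F.obj.map (homOfLE (jj_le U V)).op) h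
    rw [map_map_eq, map_zero] at this
    exact this

lemma incl_app_injective (V : Opens X) : Function.Injective ((incl U F).hom.app (op V)) :=
  injective_app_of_mono _ V

lemma res_incl_app (V : Opens X) (t : (CohCx.sectSupp U F).obj.obj (op V)) :
    F.obj.map (homOfLE (inf_le_left : V ⊓ U ≤ V)).op ((incl U F).hom.app (op V) t) = 0 := by
  rw [← unit_app_eq_zero_iff]
  have h0 : incl U F ≫ (restrPushAdj U).unit.app F = 0 :=
    (comp_η_eq_zero_iff U F _).1 (kernel.condition _)
  exact congrArg (fun φ : CohCx.sectSupp U F ⟶ _ => φ.hom.app (op V) t) h0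

lemma exists_of_res_eq_zero (V : Opens X) (s : F.obj.obj (op V))
    (hs : F.obj.map (homOfLE (inf_le_left : V ⊓ U ≤ V)).op s = 0) :
    ∃ t : (CohCx.sectSupp U F).obj.obj (op V), (incl U F).hom.app (op V) t = s := by
  let g : freeSheaf V ⟶ F := (freeSheafHomEquiv V F).symm s
  have hg : g ≫ (restrPushAdj U).unit.app F = 0 := by
    apply (freeSheafHomEquiv V _).injective
    rw [freeSheafHomEquiv_naturality_right, Equiv.apply_symm_apply,
      (unit_app_eq_zero_iff U F V s).2 hs]
    exact (freeSheafHomEquiv_zero V _).symm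
  have hg' : g ≫ (η U).app F = 0 := (comp_η_eq_zero_iff U F g).2 hg
  refine ⟨freeSheafHomEquiv V _ (kernel.lift _ g hg'), ?_⟩
  rw [← freeSheafHomEquiv_naturality_right, kernel.lift_ι, Equiv.apply_symm_apply]

lemma mem_range_incl_iff (V : Opens X) (s : F.obj.obj (op V)) :
    (∃ t : (CohCx.sectSupp U F).obj.obj (op V), (incl U F).hom.app (op V) t = s) ↔
      F.obj.map (homOfLE (inf_le_left : V ⊓ U ≤ V)).op s = 0 := by
  constructor
  · rintro ⟨t, rfl⟩
    exact res_incl_app U F V t
  · exact exists_of_res_eq_zero U F V s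

/-- sections over two opens that agree on the intersection glue -/
lemma exists_glue₂ (G : CohTop.Ab X) (A B : Opens X)
    (a : G.obj.obj (op A)) (b : G.obj.obj (op B))
    (hab : G.obj.map (homOfLE (inf_le_left : A ⊓ B ≤ A)).op a =
      G.obj.map (homOfLE (inf_le_right : A ⊓ B ≤ B)).op b) :
    ∃ c : G.obj.obj (op (A ⊔ B)), G.obj.map (homOfLE (le_sup_left : A ≤ A ⊔ B)).op c = a ∧
      G.obj.map (homOfLE (le_sup_right : B ≤ A ⊔ B)).op c = b := by
  let W : Bool → Opens X := fun i => Bool.rec B A i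
  let sf : ∀ i, G.obj.obj (op (W i)) := fun i =>
    Bool.rec (motive := fun i => G.obj.obj (op (W i))) b a i
  have hcompat : TopCat.Presheaf.IsCompatible G.obj W sf := by
    intro i j
    cases i <;> cases j
    · rw [Subsingleton.elim (Opens.infLELeft (W false) (W false)) (Opens.infLERight _ _)]
    · change G.obj.map (homOfLE (inf_le_left : B ⊓ A ≤ B)).op b =
        G.obj.map (homOfLE (inf_le_right : B ⊓ A ≤ A)).op a
      have h1 := congrArg (G.obj.map (homOfLE (le_of_eq (inf_comm B A))).op) hab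
      rw [map_map_eq, map_map_eq] at h1
      exact h1.symm
    · exact hab
    · rw [Subsingleton.elim (Opens.infLELeft (W true) (W true)) (Opens.infLERight _ _)]
  obtain ⟨c, hc, -⟩ := TopCat.Sheaf.existsUnique_gluing' G W (A ⊔ B)
    (fun i => homOfLE (by cases i; exact le_sup_right; exact le_sup_left))
    (sup_le (le_iSup W true) (le_iSup W false)) sf hcompat
  exact ⟨c, hc true, hc false⟩

lemma surjective_of_isFlasque (A : CohTop.Ab X) [TopCat.Sheaf.IsFlasque A] {W V : Opens X}
    (h : W ≤ V) : Function.Surjective (A.obj.map (homOfLE h).op) :=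
  (AddCommGrpCat.epi_iff_surjective _).1 (TopCat.Presheaf.IsFlasque.epi _)

/-- the sheaf of sections with support in a closed subset of a flasque sheaf is flasque -/
theorem isFlasque_sectSupp (A : CohTop.Ab X) [TopCat.Sheaf.IsFlasque A] :
    TopCat.Sheaf.IsFlasque (CohCx.sectSupp U A) where
  epi {V' W'} i := by
    refine (AddCommGrpCat.epi_iff_surjective _).mpr (fun t => ?_)
    obtain ⟨V⟩ := V'
    obtain ⟨W⟩ := W'
    have hWV : W ≤ V := leOfHom i.unop
    have hi : i = (homOfLE hWV).op := Subsingleton.elim _ _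
    subst hi
    let a₀ := (incl U A).hom.app (op W) t
    have ha₀ : A.obj.map (homOfLE (inf_le_left : W ⊓ U ≤ W)).op a₀ = 0 := res_incl_app U A W t
    have hle : W ⊓ (V ⊓ U) ≤ W ⊓ U := le_inf inf_le_left (inf_le_right.trans inf_le_right)
    obtain ⟨c, hc1, hc2⟩ := exists_glue₂ A W (V ⊓ U) a₀ 0 (by
      have := congrArg (A.obj.map (homOfLE hle).op) ha₀
      rw [map_map_eq, map_zero] at this
      rw [this, map_zero])
    have hsup : W ⊔ (V ⊓ U) ≤ V := sup_le hWV inf_le_left
    obtain ⟨a, ha⟩ := surjective_of_isFlasque A hsup c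
    have haU : A.obj.map (homOfLE (inf_le_left : V ⊓ U ≤ V)).op a = 0 := by
      have := congrArg (A.obj.map (homOfLE (le_sup_right : V ⊓ U ≤ W ⊔ (V ⊓ U))).op) ha
      rw [map_map_eq, hc2] at this
      exact this
    obtain ⟨s, hs⟩ := exists_of_res_eq_zero U A V a haU
    refine ⟨s, ?_⟩
    apply incl_app_injective U A W
    rw [app_map_comm, hs]
    have := congrArg (A.obj.map (homOfLE (le_sup_left : W ≤ W ⊔ (V ⊓ U))).op) ha
    rw [map_map_eq, hc1] at this
    exact this

end Groth.Agent.Lib.Helper42.LocCohZ2
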