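import Groth.Agent.Lib.Helper42.LocCohZ2
import Groth.Agent.Lib.Helper53.FlasqueLocal

/-! The long exact sequence `H^i_Z(V,F) → H^i(V,F) → H^i(W,F) → H^{i+1}_Z(V,F)` for `Z = V ∖ W`. -/

set_option autoImplicit false
universe u

open CategoryTheory CategoryTheory.Limits TopologicalSpace Opposite Abelian

namespace Groth.Agent.Lib.Helper42.LocCohZ3

open Groth.Agent.Lib.Helper53

variable {X : TopCat.{u}} (F : CohTop.Ab X) {W V : Opens X} (h : W ≤ V)

lemma delta_apply (n : ℕ) (x : CohTop.HU F n W) :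
    LocCohZ.delta F n h x = (LocCohZ.zqSeq_shortExact h).extClass.comp x (by omega) := rfl

lemma toHU_apply (n : ℕ) (z : LocCohZ.HZ F n h) :
    LocCohZ.toHU F n h z = (Ext.mk₀ (LocCohZ.zqSeq h).g).comp z (zero_add n) := rfl

lemma res_apply (n : ℕ) (y : CohTop.HU F n V) :
    CohTop.res F n h y = (Ext.mk₀ (LocCohZ.zqSeq h).f).comp y (zero_add n) := rfl

theorem exists_res_of_delta_eq_zero (n : ℕ) (x : CohTop.HU F n W)
    (hx : LocCohZ.delta F n h x = 0) : ∃ y : CohTop.HU F n V, CohTop.res F n h y = x :=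
  Ext.contravariant_sequence_exact₁ (LocCohZ.zqSeq_shortExact h) F x (by omega) hx

theorem exists_toHU_of_res_eq_zero (n : ℕ) (y : CohTop.HU F n V)
    (hy : CohTop.res F n h y = 0) : ∃ z : LocCohZ.HZ F n h, LocCohZ.toHU F n h z = y :=
  Ext.contravariant_sequence_exact₂ (LocCohZ.zqSeq_shortExact h) F y hy

theorem exists_delta_of_toHU_eq_zero (n : ℕ) (z : LocCohZ.HZ F (n + 1) h)
    (hz : LocCohZ.toHU F (n + 1) h z = 0) : ∃ x : CohTop.HU F n W, LocCohZ.delta F n h x = z :=
  Ext.contravariant_sequence_exact₃ (LocCohZ.zqSeq_shortExact h) F z hz (by omega)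

theorem res_toHU (n : ℕ) (z : LocCohZ.HZ F n h) :
    CohTop.res F n h (LocCohZ.toHU F n h z) = 0 := by
  rw [res_apply, toHU_apply, ← Ext.comp_assoc_of_second_deg_zero, Ext.mk₀_comp_mk₀,
    (LocCohZ.zqSeq h).zero, Ext.mk₀_zero, Ext.zero_comp]
  rfl

theorem delta_res (n : ℕ) (y : CohTop.HU F n V) :
    LocCohZ.delta F n h (CohTop.res F n h y) = 0 := by
  rw [delta_apply, res_apply, ← Ext.comp_assoc_of_second_deg_zero,
    (LocCohZ.zqSeq_shortExact h).extClass_comp, Ext.zero_comp]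
  rfl

theorem toHU_delta (n : ℕ) (x : CohTop.HU F n W) :
    LocCohZ.toHU F (n + 1) h (LocCohZ.delta F n h x) = 0 := by
  rw [toHU_apply, delta_apply]
  have := Ext.comp_assoc (Ext.mk₀ (LocCohZ.zqSeq h).g) (LocCohZ.zqSeq_shortExact h).extClass x
    (zero_add 1) (show 1 + n = n + 1 by omega) (show 0 + 1 + n = n + 1 by omega)
  rw [← this, (LocCohZ.zqSeq_shortExact h).comp_extClass, Ext.zero_comp]
  rfl

/-- a degree-zero class over `W` is a section over `W` -/
noncomputable def ofSec (t : F.obj.obj (op W)) : CohTop.HU F 0 W :=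
  Ext.mk₀ ((freeSheafHomEquiv W F).symm t)

lemma exists_ofSec (x : CohTop.HU F 0 W) : ∃ t : F.obj.obj (op W), ofSec F t = x := by
  obtain ⟨g, rfl⟩ := (Ext.mk₀_bijective (freeSheaf W) F).2 x
  exact ⟨freeSheafHomEquiv W F g, by rw [ofSec, Equiv.symm_apply_apply]⟩

lemma res_ofSec (s : F.obj.obj (op V)) :
    CohTop.res F 0 h (ofSec F s) = ofSec F (F.obj.map (homOfLE h).op s) := by
  rw [res_eq, ofSec, ofSec, Ext.mk₀_comp_mk₀]
  congr 1
  apply (freeSheafHomEquiv W F).injective
  rw [freeSheafHomEquiv_naturality_left, Equiv.apply_symm_apply, Equiv.apply_symm_apply]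

lemma ofSec_injective : Function.Injective (ofSec F (W := W)) := by
  intro s t hst
  have := (Ext.mk₀_bijective (freeSheaf W) F).1 hst
  exact (freeSheafHomEquiv W F).symm.injective this

/-- a sheaf whose first cohomology groups with support in closed subsets vanish is flasque -/
theorem isFlasque_of_HZc_one (hF : ∀ U : Opens X, Subsingleton (LocCohZ.HZc F 1 U)) :
    TopCat.Sheaf.IsFlasque F where
  epi {V' W'} i := by
    refine (AddCommGrpCat.epi_iff_surjective _).mpr (fun t => ?_)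
    obtain ⟨V⟩ := V'
    obtain ⟨W⟩ := W'
    have hWV : W ≤ V := leOfHom i.unop
    have hi : i = (homOfLE hWV).op := Subsingleton.elim _ _
    subst hi
    have hx : LocCohZ.delta F 0 (le_top : W ≤ ⊤) (ofSec F t) = 0 := (hF W).elim _ _
    obtain ⟨y, hy⟩ := exists_res_of_delta_eq_zero F le_top 0 (ofSec F t) hx
    obtain ⟨s, rfl⟩ := exists_ofSec F y
    rw [res_ofSec] at hy
    have hs := ofSec_injective F hy
    refine ⟨F.obj.map (homOfLE (le_top : V ≤ ⊤)).op s, ?_⟩
    rw [map_map_eq]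
    exact hs

end Groth.Agent.Lib.Helper42.LocCohZ3
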