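import Groth.Agent.Lib.Helper42.LocCohZ4
import Groth.Agent.Lib.Helper68.RightDerivedLES

/-! Left exactness of `Γ_Z`, and the criterion `ℋ^i_Z(F) = 0 (i < n) ↔ H^i_{Z∩V}(V,F) = 0`. -/

set_option autoImplicit false
universe u

open CategoryTheory CategoryTheory.Limits TopologicalSpace Opposite Abelian

namespace Groth.Agent.Lib.Helper42.LocCohZ5

open Groth.Agent.Lib.Helper53 Groth.Agent.Lib.Helper42.LocCohZ1 Groth.Agent.Lib.Helper42.LocCohZ2
  Groth.Agent.Lib.Helper42.LocCohZ3 Groth.Agent.Lib.Helper42.LocCohZ4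

variable {X : TopCat.{u}} (U : Opens X)

lemma incl_naturality {F G : CohTop.Ab X} (φ : F ⟶ G) :
    ((LocCohZ.sectSuppF U).map φ : CohCx.sectSupp U F ⟶ CohCx.sectSupp U G) ≫ incl U G =
      incl U F ≫ φ :=
  (LocCohZ1.ι U).naturality φ

lemma incl_naturality_apply {F G : CohTop.Ab X} (φ : F ⟶ G) (V : Opens X)
    (s : (CohCx.sectSupp U F).obj.obj (op V)) :
    (incl U G).hom.app (op V) (((LocCohZ.sectSuppF U).map φ).hom.app (op V) s) =
      φ.hom.app (op V) ((incl U F).hom.app (op V) s) :=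
  congrArg (fun ψ : CohCx.sectSupp U F ⟶ G => ψ.hom.app (op V) s) (incl_naturality U φ)

instance sectSuppF_preservesFiniteLimits : PreservesFiniteLimits (LocCohZ.sectSuppF U) := by
  rw [Functor.preservesFiniteLimits_iff_forall_exact_map_and_mono]
  intro S hS
  have hmf : Mono S.f := hS.mono_f
  have hm : Mono ((LocCohZ.sectSuppF U).map S.f :
      CohCx.sectSupp U S.X₁ ⟶ CohCx.sectSupp U S.X₂) := by
    have h1 : Mono (incl U S.X₁ ≫ S.f) := mono_comp _ _
    exact @mono_of_mono_fac _ _ _ _ _ _ _ _ h1 (incl_naturality U S.f)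
  refine ⟨?_, hm⟩
  apply exact_of_sections_exact
  intro V s hs
  have hs' : ((LocCohZ.sectSuppF U).map S.g).hom.app (op V) s =
      (0 : (CohCx.sectSupp U S.X₃).obj.obj (op V)) := hs
  let a := (incl U S.X₂).hom.app (op V) s
  have ha : S.g.hom.app (op V) a = 0 := by
    rw [← incl_naturality_apply, hs', map_zero]
  let â : freeSheaf V ⟶ S.X₂ := (freeSheafHomEquiv V S.X₂).symm a
  have hâ : â ≫ S.g = 0 := by
    apply (freeSheafHomEquiv V _).injective
    rw [freeSheafHomEquiv_naturality_right, Equiv.apply_symm_apply, ha, freeSheafHomEquiv_zero]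
  let t' := freeSheafHomEquiv V S.X₁ (hS.exact.lift â hâ)
  have ht' : S.f.hom.app (op V) t' = a := by
    rw [← freeSheafHomEquiv_naturality_right, ShortComplex.Exact.lift_f, Equiv.apply_symm_apply]
  have ht'0 : S.X₁.obj.map (homOfLE (inf_le_left : V ⊓ U ≤ V)).op t' = 0 := by
    apply injective_app_of_mono S.f (V ⊓ U)
    rw [app_map_comm, ht', map_zero]
    exact res_incl_app U S.X₂ V s
  obtain ⟨t, ht⟩ := exists_of_res_eq_zero U S.X₁ V t' ht'0
  refine ⟨t, ?_⟩
  apply incl_app_injective U S.X₂ V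
  change (incl U S.X₂).hom.app (op V) (((LocCohZ.sectSuppF U).map S.f).hom.app (op V) t) = a
  rw [incl_naturality_apply, ht, ht']

/-- `ℋ⁰_Z ≅ Γ_Z` -/
noncomputable def HZshZeroIso : LocCohZ.HZsh U 0 ≅ LocCohZ.sectSuppF U :=
  Functor.rightDerivedZeroIsoSelf _

lemma isZero_iff_sections (G : CohTop.Ab X) :
    IsZero G ↔ ∀ V : Opens X, Subsingleton (G.obj.obj (op V)) := by
  constructor
  · intro h V
    refine subsingleton_of_forall_eq 0 (fun s => ?_)
    have h1 : 𝟙 G = 0 := h.eq_of_src _ _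
    have := congrArg (fun ψ : G ⟶ G => ψ.hom.app (op V) s) h1
    exact this
  · intro h
    rw [IsZero.iff_id_eq_zero]
    apply Sheaf.hom_ext
    ext V s
    exact (h V.unop).elim _ _

lemma isZero_sectSupp_iff (F : CohTop.Ab X) :
    IsZero (CohCx.sectSupp U F) ↔ ∀ (V : Opens X) (s : F.obj.obj (op V)),
      F.obj.map (homOfLE (inf_le_left : V ⊓ U ≤ V)).op s = 0 → s = 0 := by
  rw [isZero_iff_sections]
  constructor
  · intro h V s hs
    obtain ⟨t, rfl⟩ := exists_of_res_eq_zero U F V s hs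
    rw [(h V).elim t 0, map_zero]
  · intro h V
    refine subsingleton_of_forall_eq 0 (fun t => ?_)
    apply incl_app_injective U F V
    rw [map_zero]
    exact h V _ (res_incl_app U F V t)

lemma subsingleton_HZ_zero_iff (F : CohTop.Ab X) {W V : Opens X} (h : W ≤ V) :
    Subsingleton (LocCohZ.HZ F 0 h) ↔ ∀ s : F.obj.obj (op V),
      F.obj.map (homOfLE h).op s = 0 → s = 0 := by
  rw [(LocCohZ.sect0Equiv F h).toEquiv.subsingleton_congr]
  constructor
  · intro hs s h0
    have := hs.elim (⟨s, h0⟩ : LocCohZ.sectZ F h) 0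
    exact congrArg Subtype.val this
  · intro hs
    refine subsingleton_of_forall_eq 0 (fun s => ?_)
    apply Subtype.ext
    exact hs s.1 s.2

lemma isZero_HZsh_zero_iff (F : CohTop.Ab X) :
    IsZero ((LocCohZ.HZsh U 0).obj F) ↔
      ∀ V : Opens X, Subsingleton (LocCohZ.HZ F 0 (inf_le_left : V ⊓ U ≤ V)) := by
  rw [((HZshZeroIso U).app F).isZero_iff]
  change IsZero (CohCx.sectSupp U F) ↔ _
  rw [isZero_sectSupp_iff]
  exact forall_congr' fun V => (subsingleton_HZ_zero_iff F _).symm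

end Groth.Agent.Lib.Helper42.LocCohZ5
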