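import Groth.Agent.Lib.Helper42.LocCohZ7

/-! Bijectivity of the restriction maps below `N` forces vanishing of `ℋ^i_Z` up to `N`. -/

set_option autoImplicit false
universe u

open CategoryTheory CategoryTheory.Limits TopologicalSpace Opposite Abelian

namespace Groth.Agent.Lib.Helper42.LocCohZ8

open Groth.Agent.Lib.Helper53 Groth.Agent.Lib.Helper42.LocCohZ1 Groth.Agent.Lib.Helper42.LocCohZ2
  Groth.Agent.Lib.Helper42.LocCohZ3 Groth.Agent.Lib.Helper42.LocCohZ4
  Groth.Agent.Lib.Helper42.LocCohZ5 Groth.Agent.Lib.Helper42.LocCohZ6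
  Groth.Agent.Lib.Helper42.LocCohZ7

variable {X : TopCat.{u}} (U : Opens X)

lemma epi_η_of_surjective (F : CohTop.Ab X)
    (hs : ∀ V : Opens X,
      Function.Surjective (F.obj.map (homOfLE (inf_le_left : V ⊓ U ≤ V)).op)) :
    Epi ((η U).app F) := by
  have h1 : Epi ((restrPushAdj U).unit.app F) := by
    apply (sheafToPresheaf _ _).epi_of_epi_map
    apply (config := { allowSynthFailures := true }) NatTrans.epi_of_epi_app
    intro V
    rw [AddCommGrpCat.epi_iff_surjective]
    intro t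
    change F.obj.obj (op ((jFun U).obj ((Opens.map (CohCx.incl U)).obj V.unop))) at t
    obtain ⟨s, hs'⟩ := hs V.unop (F.obj.map (homOfLE (le_jj U V.unop)).op t)
    refine ⟨s, ?_⟩
    change F.obj.map (homOfLE ((jj_le U V.unop).trans inf_le_left)).op s = t
    have := congrArg (F.obj.map (homOfLE (jj_le U V.unop)).op) hs'
    rw [map_map_eq, map_map_eq] at this
    rw [this]
    exact congrArg (fun φ : F.obj.obj _ ⟶ F.obj.obj _ => φ.hom t) (F.obj.map_id _)
  rw [η_eq]
  infer_instance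

lemma isZero_HZsh_one_of_surjective (F : CohTop.Ab X)
    (hs : ∀ V : Opens X,
      Function.Surjective (F.obj.map (homOfLE (inf_le_left : V ⊓ U ≤ V)).op)) :
    IsZero ((LocCohZ.HZsh U 1).obj F) := by
  refine IsZero.of_iso ?_ ((HZshOneIso U).app F ≪≫ cokernelObjIso F U)
  have := epi_η_of_surjective U F hs
  exact isZero_cokernel_of_epi _

lemma sections_surjective_of_res (F : CohTop.Ab X) {W V : Opens X} (h : W ≤ V)
    (hs : Function.Surjective (CohTop.res F 0 h)) :
    Function.Surjective (F.obj.map (homOfLE h).op) := by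
  intro t
  obtain ⟨y, hy⟩ := hs (ofSec F t)
  obtain ⟨s, rfl⟩ := exists_ofSec F y
  rw [res_ofSec] at hy
  exact ⟨s, ofSec_injective F hy⟩

theorem isZero_HZsh_of_toHU_injective (N : ℕ) : ∀ F : CohTop.Ab X,
    (∀ i : ℕ, i < N + 1 → IsZero ((LocCohZ.HZsh U i).obj F)) →
    (∀ V : Opens X, Function.Injective (LocCohZ.toHU F (N + 1) (inf_le_left : V ⊓ U ≤ V))) →
    IsZero ((LocCohZ.HZsh U (N + 1)).obj F) := by
  induction N with
  | zero =>
    intro F _ hinj
    apply isZero_HZsh_one_of_surjective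
    intro V
    exact sections_surjective_of_res F _ (res_surjective_of_toHU_injective F _ 0 (hinj V))
  | succ N ih =>
    intro F hlt hinj
    have h0 : IsZero ((LocCohZ.HZsh U 0).obj F) := hlt 0 (by omega)
    have hΓ : IsZero (CohCx.sectSupp U F) := (((HZshZeroIso U).app F).isZero_iff).1 h0
    have hQ : ∀ i : ℕ, i < N + 1 → IsZero ((LocCohZ.HZsh U i).obj (Q U F)) := fun i hi =>
      (isZero_HZsh_Q_iff U F hΓ i).2 (hlt (i + 1) (by omega))
    have hQinj : ∀ V : Opens X,
        Function.Injective (LocCohZ.toHU (Q U F) (N + 1) (inf_le_left : V ⊓ U ≤ V)) := by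
      intro V
      rw [injective_iff_map_eq_zero]
      intro z hz
      have hS := seq_shortExact U F hΓ
      let e : Ext (Q U F) F 1 := hS.extClass
      have h1 : LocCohZ.toHU F (N + 1 + 1) (inf_le_left : V ⊓ U ≤ V) (z.comp e rfl) = 0 := by
        have := Ext.comp_assoc (Ext.mk₀ (LocCohZ.zqSeq (inf_le_left : V ⊓ U ≤ V)).g) z e
          (zero_add (N + 1)) rfl (show 0 + (N + 1) + 1 = N + 1 + 1 by omega)
        have hz' : (Ext.mk₀ (LocCohZ.zqSeq (inf_le_left : V ⊓ U ≤ V)).g).comp z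
            (zero_add (N + 1)) = 0 := hz
        rw [hz', Ext.zero_comp] at this
        exact this.symm
      have h2 : z.comp e rfl = 0 := hinj V (h1.trans (map_zero _).symm)
      obtain ⟨x₂, hx₂⟩ := Ext.covariant_sequence_exact₃ _ hS z rfl h2
      have hx0 : x₂ = 0 := (subsingleton_HZ_I' U F (N + 1) V).elim _ _
      rw [← hx₂, hx0, Ext.zero_comp]
    exact (isZero_HZsh_Q_iff U F hΓ (N + 1)).1 (ih (Q U F) hQ hQinj)

theorem isZero_HZsh_of_res_bijective (F : CohTop.Ab X) (N : ℕ) (hN : 0 < N)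
    (h : ∀ (V : Opens X) (i : ℕ), i < N →
      Function.Bijective (CohTop.res F i (inf_le_left : V ⊓ U ≤ V))) :
    ∀ i : ℕ, i ≤ N → IsZero ((LocCohZ.HZsh U i).obj F) := by
  obtain ⟨M, rfl⟩ : ∃ M, N = M + 1 := ⟨N - 1, by omega⟩
  have hlt : ∀ i : ℕ, i < M + 1 → IsZero ((LocCohZ.HZsh U i).obj F) := fun i hi =>
    (isZero_HZsh_le_iff F U M).2
      (fun V => ⟨fun j hj => h V j (by omega), (h V M (by omega)).1⟩) i (by omega)
  have hinj : ∀ V : Opens X,
      Function.Injective (LocCohZ.toHU F (M + 1) (inf_le_left : V ⊓ U ≤ V)) := fun V =>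
    toHU_succ_injective_of_surjective F _ M (h V M (by omega)).2
  intro i hi
  rcases Nat.lt_or_ge i (M + 1) with hlt' | hge
  · exact hlt i hlt'
  · have : i = M + 1 := le_antisymm hi hge
    subst this
    exact isZero_HZsh_of_toHU_injective U M F hlt hinj

end Groth.Agent.Lib.Helper42.LocCohZ8
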