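import Groth.Agent.Lib.Helper42.LocCohZ5
import Groth.Agent.Lib.Helper42.DeltaExt
import Groth.Agent.Lib.Helper42.DeltaRDer

/-! `R^q Γ_Z(X, -) ≅ Ext^q(ℤ_X/ℤ_U, -)` as functors. -/

set_option autoImplicit false
universe u

open CategoryTheory CategoryTheory.Limits TopologicalSpace Opposite Abelian

namespace Groth.Agent.Lib.Helper42.LocCohZ9

open Groth.Agent.Lib.Helper53 Groth.Agent.Lib.Helper42.LocCohZ1 Groth.Agent.Lib.Helper42.LocCohZ2
  Groth.Agent.Lib.Helper42.LocCohZ5 Groth.Agent.Lib.Helper42.DeltaFun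
  Groth.Agent.Lib.Helper42.DeltaExt Groth.Agent.Lib.Helper42.DeltaRDer

variable {X : TopCat.{u}}

lemma addEquiv₀_comp_mk₀ {A B B' : CohTop.Ab X} (x : Ext.{u} A B 0) (φ : B ⟶ B') :
    Ext.addEquiv₀ (x.comp (Ext.mk₀ φ) (add_zero 0)) = Ext.addEquiv₀ x ≫ φ := by
  apply Ext.addEquiv₀.symm.injective
  rw [AddEquiv.symm_apply_apply, Ext.addEquiv₀_symm_apply, ← Ext.mk₀_comp_mk₀,
    Ext.mk₀_addEquiv₀_apply]

lemma sect0Equiv_map {F G : CohTop.Ab X} (φ : F ⟶ G) {W V : Opens X} (h : W ≤ V)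
    (x : LocCohZ.HZ F 0 h) :
    (LocCohZ.sect0Equiv G h (LocCohZ.map φ 0 h x)).1 =
      φ.hom.app (op V) (LocCohZ.sect0Equiv F h x).1 := by
  change CohFree.evalGen (Opens.grothendieckTopology X) V G
      (cokernel.π _ ≫ Ext.addEquiv₀ (x.comp (Ext.mk₀ φ) (add_zero 0))) = _
  rw [addEquiv₀_comp_mk₀, ← Category.assoc]
  rfl

variable (U : Opens X)

lemma res_incl_top (F : CohTop.Ab X) (t : (CohCx.sectSupp U F).obj.obj (op ⊤)) :
    F.obj.map (homOfLE (le_top : U ≤ ⊤)).op ((incl U F).hom.app (op ⊤) t) = 0 := by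
  have h := congrArg (F.obj.map (homOfLE (le_inf le_top le_rfl : U ≤ ⊤ ⊓ U)).op)
    (res_incl_app U F ⊤ t)
  rw [map_map_eq, map_zero] at h
  exact h

/-- `Γ_Z(X, F) ≃ H^0_Z(X, F)` -/
noncomputable def gammaZEquiv (F : CohTop.Ab X) :
    (CohCx.sectSupp U F).obj.obj (op ⊤) ≃+ LocCohZ.HZc F 0 U :=
  AddEquiv.trans
    (AddEquiv.ofBijective
      (AddMonoidHom.codRestrict ((incl U F).hom.app (op ⊤)).hom
        (LocCohZ.sectZ F (le_top : U ≤ ⊤)) (fun t => res_incl_top U F t))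
      ⟨fun a b hab => incl_app_injective U F ⊤ (congrArg Subtype.val hab),
       fun s => by
        obtain ⟨t, ht⟩ := exists_of_res_eq_zero U F ⊤ s.1 (by
          have := s.2
          rw [AddMonoidHom.mem_ker] at this
          have h2 := congrArg (F.obj.map (homOfLE (inf_le_right : ⊤ ⊓ U ≤ U)).op) this
          rw [map_map_eq, map_zero] at h2
          exact h2)
        exact ⟨t, Subtype.ext ht⟩⟩)
    (LocCohZ.sect0Equiv F (le_top : U ≤ ⊤)).symm

lemma sect0Equiv_gammaZEquiv (F : CohTop.Ab X) (t : (CohCx.sectSupp U F).obj.obj (op ⊤)) :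
    (LocCohZ.sect0Equiv F (le_top : U ≤ ⊤) (gammaZEquiv U F t)).1 =
      (incl U F).hom.app (op ⊤) t := by
  unfold gammaZEquiv
  rw [AddEquiv.trans_apply, AddEquiv.apply_symm_apply]
  rfl

lemma gammaZEquiv_naturality {F G : CohTop.Ab X} (φ : F ⟶ G)
    (t : (CohCx.sectSupp U F).obj.obj (op ⊤)) :
    gammaZEquiv U G (((LocCohZ.sectSuppF U).map φ).hom.app (op ⊤) t) =
      LocCohZ.map φ 0 (le_top : U ≤ ⊤) (gammaZEquiv U F t) := by
  apply (LocCohZ.sect0Equiv G (le_top : U ≤ ⊤)).injective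
  apply Subtype.ext
  rw [sect0Equiv_gammaZEquiv, sect0Equiv_map, sect0Equiv_gammaZEquiv, incl_naturality_apply]

/-- the degree zero isomorphism of functors -/
noncomputable def gammaZIso :
    LocCohZ.gammaZF U ≅ extFunctorObj (LocCohZ.zq (le_top : U ≤ ⊤)) 0 :=
  NatIso.ofComponents (fun F => (gammaZEquiv U F).toAddCommGrpIso) (by
    intro F G φ
    ext t
    exact gammaZEquiv_naturality U φ t)

instance : PreservesFiniteLimits (LocCohZ.gammaZF U) := by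
  unfold LocCohZ.gammaZF
  infer_instance

/-- `R^q Γ_Z(X, -) ≅ Ext^q(ℤ_X/ℤ_U, -)` -/
noncomputable def RHZIso (q : ℕ) :
    LocCohZ.RHZ U q ≅ extFunctorObj (LocCohZ.zq (le_top : U ≤ ⊤)) q :=
  DeltaFunctor.isoOfZero (A := ofRightDerived (LocCohZ.gammaZF U))
    (B := ofExt (LocCohZ.zq (le_top : U ≤ ⊤)))
    (ofRightDerived_eff _) (ofExt_eff _)
    ((LocCohZ.gammaZF U).rightDerivedZeroIsoSelf ≪≫ gammaZIso U) q

/-- `R^q Γ_Z(X, -) ≅ Ext^q(ℤ_Z, -)` in the topos-level form -/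
noncomputable def RHZIso' (q : ℕ) :
    LocCohZ.RHZ U q ≅ ToposFin.HZFunctor (LocCohZ.openSh U) q :=
  RHZIso U q ≪≫ ((extFunctor q).mapIso (LocCohZ.zqIsoQuotZ U).op).symm

end Groth.Agent.Lib.Helper42.LocCohZ9
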