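import Groth.Agent.Lib.Helper42.QuotSectAdj
import Groth.Agent.Lib.Helper42.DeltaRDer
import Groth.Agent.Lib.Helper42.DeltaPost
import Groth.Agent.Lib.Helper42.RestrExact
import Groth.Agent.Lib.Helper68.GSSDer4

/-! Local cohomology sheaves on a ringed site commute with localisation. -/

set_option autoImplicit false

namespace Groth.Agent.Lib.Helper42.LocRestr

universe u
open CategoryTheory Limits Opposite ModSite
open Groth.Agent.Lib.Helper42.TensorSheaf Groth.Agent.Lib.Helper42.RestrTensor
open Groth.Agent.Lib.Helper42.ExtPre Groth.Agent.Lib.Helper42.ExtZero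
open Groth.Agent.Lib.Helper42.QuotExact Groth.Agent.Lib.Helper42.QuotSectAdj
open Groth.Agent.Lib.Helper42.DeltaFun Groth.Agent.Lib.Helper42.DeltaRDer

section abstract

variable {𝒜 : Type*} [Category 𝒜] [HasZeroMorphisms 𝒜]

/-- kernels of two maps with the same vanishing test are isomorphic -/
noncomputable def kernelIsoOfIff {B T₁ T₂ : 𝒜} (f₁ : B ⟶ T₁) (f₂ : B ⟶ T₂) [HasKernel f₁]
    [HasKernel f₂] (h : ∀ {K : 𝒜} (g : K ⟶ B), g ≫ f₁ = 0 ↔ g ≫ f₂ = 0) :
    kernel f₁ ≅ kernel f₂ where
  hom := kernel.lift f₂ (kernel.ι f₁) ((h _).1 (kernel.condition f₁))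
  inv := kernel.lift f₁ (kernel.ι f₂) ((h _).2 (kernel.condition f₂))
  hom_inv_id := by
    apply equalizer.hom_ext
    simp
  inv_hom_id := by
    apply equalizer.hom_ext
    simp

@[reassoc (attr := simp)]
lemma kernelIsoOfIff_hom_ι {B T₁ T₂ : 𝒜} (f₁ : B ⟶ T₁) (f₂ : B ⟶ T₂) [HasKernel f₁]
    [HasKernel f₂] (h : ∀ {K : 𝒜} (g : K ⟶ B), g ≫ f₁ = 0 ↔ g ≫ f₂ = 0) :
    (kernelIsoOfIff f₁ f₂ h).hom ≫ kernel.ι f₂ = kernel.ι f₁ :=
  kernel.lift_ι _ _ _

end abstract

variable {C : Type u} [SmallCategory C] {J : GrothendieckTopology C} (O : Sheaf J CommRingCat.{u})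

section general

variable (U : C)

lemma restr_map_eq_zero_iff {A B : Mod O} (φ : A ⟶ B) :
    (restr O U).map φ = 0 ↔ ∀ W : Over U, φ.val.app (op W.left) = 0 := by
  constructor
  · intro h W
    have := congrArg (fun ψ => ψ.val.app (op W)) h
    exact this
  · intro h
    apply SheafOfModules.hom_ext
    apply PresheafOfModules.hom_ext
    intro W
    exact h W.unop

lemma comp_unit_eq_zero_iff_restr [HasPushOver O U] {A N : Mod O} (φ : A ⟶ N) :
    φ ≫ (restrPushOverAdj O U).unit.app N = 0 ↔ (restr O U).map φ = 0 := by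
  rw [comp_unit_eq_zero_iff, ← ExtSupp.mem_homZ_iff]
  rfl

variable {O} in
/-- a presheaf map into a sheaf which vanishes after a local isomorphism vanishes -/
lemma eq_zero_of_W_comp {P Q : PMod O} (ψ : P ⟶ Q) (hψ : W ψ) {N : Mod O}
    (χ : Q ⟶ (fgt O).obj N) (h : ψ ≫ χ = 0) : χ = 0 := by
  have h1 : (shf O).map ψ ≫ (shf O).map χ = 0 := by
    rw [← Functor.map_comp, h, Functor.map_zero]
  have : IsIso ((shf O).map ψ) := hψ
  have h2 : (shf O).map χ = 0 := by rw [← cancel_epi ((shf O).map ψ), h1, comp_zero]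
  apply ((adjS O).homEquiv Q N).symm.injective
  rw [Adjunction.homEquiv_counit, h2, zero_comp, Adjunction.homEquiv_counit, Functor.map_zero,
    zero_comp]

end general

section loc

variable [HasBinaryProducts C] (U X : C)

/-- the object `U × X ⟶ X` of the localised site -/
noncomputable abbrev UX : Over X := Over.mk (Limits.prod.snd : U ⨯ X ⟶ X)

lemma restr_restr_eq_zero {A B : Mod O} (ψ : A ⟶ B) (h : (restr O U).map ψ = 0) :
    (restr (O.over X) (UX U X)).map ((restr O X).map ψ) = 0 := by
  rw [restr_map_eq_zero_iff] at h ⊢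
  intro W
  exact h (Over.mk (W.hom.left ≫ Limits.prod.fst))

lemma restr_adjoint_eq_zero {K : Mod (O.over X)} {M : Mod O} (g : K ⟶ (restr O X).obj M)
    (hg : (restr (O.over X) (UX U X)).map g = 0) :
    (restr O U).map ((L O X).map g ≫ (adjL O X).counit.app M) = 0 := by
  let gh : extObj ((fgt (O.over X)).obj K) ⟶ (fgt O).obj M :=
    extMap ((fgt (O.over X)).map g) ≫ counitApp (U := X) ((fgt O).obj M)
  have e1 : (L O X).map g ≫ (adjL O X).counit.app M =
      (shf O).map gh ≫ (adjS O).counit.app M := by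
    rw [adjL_counit, ← Category.assoc]
    congr 1
    exact ((shf O).map_comp _ _).symm
  have e2 : (adjS O).unit.app _ ≫ (fgt O).map ((shf O).map gh ≫ (adjS O).counit.app M) = gh := by
    have hn := (adjS O).unit.naturality gh
    rw [Functor.id_map, Functor.comp_map] at hn
    rw [Functor.map_comp, ← Category.assoc, ← hn, Category.assoc,
      (adjS O).right_triangle_components]
    exact Category.comp_id _
  have h0 : ∀ W : Over U, gh.app (op W.left) = 0 := by
    intro W
    apply ModuleCat.hom_ext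
    apply LinearMap.ext
    intro m
    induction m using ext_induction with
    | h0 => rfl
    | h1 a x =>
      change (counitApp (U := X) ((fgt O).obj M)).app (op W.left)
        ((extMap ((fgt (O.over X)).map g)).app (op W.left) (ι _ a x)) = 0
      rw [extMap_app_ι]
      erw [counitApp_app_ι]
      rw [restr_map_eq_zero_iff] at hg
      have h := hg (Over.mk (Over.homMk (Limits.prod.lift W.hom a) (Limits.prod.lift_snd _ _) :
        Over.mk a ⟶ UX U X))
      have h' := congrArg (fun f => f.hom x) h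
      exact h'
    | h2 a b ha hb =>
      rw [map_add, ha, hb, ← map_add]
  have h1 : (pushPre O U).map gh = 0 := PresheafOfModules.hom_ext (fun W => h0 W.unop)
  have h2 : (pushPre O U).map ((adjS O).unit.app _) ≫
      (fgt (O.over U)).map ((restr O U).map ((shf O).map gh ≫ (adjS O).counit.app M)) = 0 := by
    change (pushPre O U).map ((adjS O).unit.app _) ≫
      (pushPre O U).map ((fgt O).map ((shf O).map gh ≫ (adjS O).counit.app M)) = 0
    rw [← Functor.map_comp, e2, h1]
  have h3 := eq_zero_of_W_comp _ (pushPre_W O U _ (W_unit _)) _ h2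
  rw [e1]
  apply SheafOfModules.hom_ext
  exact h3

omit [HasBinaryProducts C] in
lemma homEquiv_adjoint {K : Mod (O.over X)} {M N : Mod O} (g : K ⟶ (restr O X).obj M)
    (h : M ⟶ N) :
    (adjL O X).homEquiv K N (((L O X).map g ≫ (adjL O X).counit.app M) ≫ h) =
      g ≫ (restr O X).map h := by
  have hg : (adjL O X).homEquiv K M ((L O X).map g ≫ (adjL O X).counit.app M) = g := by
    rw [← Adjunction.homEquiv_counit, Equiv.apply_symm_apply]
  exact ((adjL O X).homEquiv_naturality_right _ h).trans
    (congrArg (fun t => t ≫ (restr O X).map h) hg)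

omit [HasBinaryProducts C] in
lemma homEquiv_zero (K : Mod (O.over X)) (N : Mod O) :
    (adjL O X).homEquiv K N 0 = 0 := by
  rw [Adjunction.homEquiv_unit, Functor.map_zero, comp_zero]

variable [HasPushOver O U] [HasPushOver (O.over X) (UX U X)]

/-- the vanishing test: `Γ_Z(M)|_X` and `Γ_{Z/X}(M|_X)` are the same subobject of `M|_X` -/
lemma comp_restr_unit_eq_zero_iff {K : Mod (O.over X)} {M : Mod O} (g : K ⟶ (restr O X).obj M) :
    g ≫ (restr O X).map ((restrPushOverAdj O U).unit.app M) = 0 ↔
      g ≫ (restrPushOverAdj (O.over X) (UX U X)).unit.app ((restr O X).obj M) = 0 := by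
  rw [comp_unit_eq_zero_iff_restr]
  let T : Mod O := (pushOver O U).obj ((restr O U).obj M)
  let u : M ⟶ T := (restrPushOverAdj O U).unit.app M
  let gf : (L O X).obj K ⟶ M := (L O X).map g ≫ (adjL O X).counit.app M
  have key : (adjL O X).homEquiv K T (gf ≫ u) = g ≫ (restr O X).map u :=
    homEquiv_adjoint O X g u
  have hu : gf ≫ u = 0 ↔ (restr O U).map gf = 0 := comp_unit_eq_zero_iff_restr O U gf
  have hg : (adjL O X).homEquiv K M gf = g := by
    change (adjL O X).homEquiv K M ((L O X).map g ≫ (adjL O X).counit.app M) = g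
    rw [← Adjunction.homEquiv_counit, Equiv.apply_symm_apply]
  change g ≫ (restr O X).map u = 0 ↔ _
  constructor
  · intro h
    have h1 : gf ≫ u = 0 := by
      apply ((adjL O X).homEquiv K T).injective
      rw [key, h, homEquiv_zero]
    have h2 := restr_restr_eq_zero O U X _ (hu.1 h1)
    rw [← hg, Adjunction.homEquiv_unit, Functor.map_comp, h2, comp_zero]
  · intro h
    have h1 : gf ≫ u = 0 := hu.2 (restr_adjoint_eq_zero O U X g h)
    rw [← key, h1, homEquiv_zero]

/-- `Γ_Z(M)|_X ≅ Γ_{Z/X}(M|_X)` -/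
noncomputable def sectIso (M : Mod O) :
    (restr O X).obj ((sectOn O U).obj M) ≅ (sectOn (O.over X) (UX U X)).obj ((restr O X).obj M) :=
  PreservesKernel.iso (restr O X) ((restrPushOverAdj O U).unit.app M) ≪≫
    kernelIsoOfIff _ _ (fun g => comp_restr_unit_eq_zero_iff O U X g)

lemma sectIso_hom_ι (M : Mod O) :
    (sectIso O U X M).hom ≫ (sectOnι (O.over X) (UX U X)).app ((restr O X).obj M) =
      (restr O X).map ((sectOnι O U).app M) := by
  have h1 : (kernelIsoOfIff ((restr O X).map ((restrPushOverAdj O U).unit.app M))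
      ((restrPushOverAdj (O.over X) (UX U X)).unit.app ((restr O X).obj M))
      (fun g => comp_restr_unit_eq_zero_iff O U X g)).hom ≫
      (sectOnι (O.over X) (UX U X)).app ((restr O X).obj M) = kernel.ι _ :=
    kernelIsoOfIff_hom_ι _ _ _
  have h2 : (PreservesKernel.iso (restr O X) ((restrPushOverAdj O U).unit.app M)).hom ≫
      kernel.ι ((restr O X).map ((restrPushOverAdj O U).unit.app M)) =
      (restr O X).map ((sectOnι O U).app M) := by
    rw [PreservesKernel.iso_hom]
    exact kernelComparison_comp_ι _ _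
  exact (Category.assoc _ _ _).trans ((congrArg (fun t =>
    (PreservesKernel.iso (restr O X) ((restrPushOverAdj O U).unit.app M)).hom ≫ t) h1).trans h2)

/-- `Γ_Z(-)|_X ≅ Γ_{Z/X}((-)|_X)` -/
noncomputable def sectNatIso :
    sectOn O U ⋙ restr O X ≅ restr O X ⋙ sectOn (O.over X) (UX U X) :=
  NatIso.ofComponents (fun M => sectIso O U X M) (by
    intro M N φ
    rw [← cancel_mono ((sectOnι (O.over X) (UX U X)).app ((restr O X).obj N))]
    have h1 := (sectOnι (O.over X) (UX U X)).naturality ((restr O X).map φ)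
    have h2 := (sectOnι O U).naturality φ
    rw [Functor.id_map] at h1 h2
    rw [Category.assoc, Category.assoc, sectIso_hom_ι]
    erw [h1]
    rw [← Category.assoc, sectIso_hom_ι]
    change (restr O X).map ((sectOn O U).map φ) ≫ _ = _
    rw [← Functor.map_comp, h2, Functor.map_comp])

variable [HasInjectiveResolutions (Mod O)] [HasInjectiveResolutions (Mod (O.over X))]

/-- `ℋ^q_Z(-)|_X ≅ ℋ^q_{Z/X}((-)|_X)` -/
noncomputable def HZshRestrIso (q : ℕ) :
    HZsh O U q ⋙ restr O X ≅ restr O X ⋙ HZsh (O.over X) (UX U X) q :=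
  haveI : EnoughInjectives (Mod O) :=
    Groth.Agent.Lib.Helper68.GSSDer.enoughInjectives_of_hasInjectiveResolutions
  DeltaFunctor.isoOfZero
    (A := (ofRightDerived (sectOn O U)).postcomp (restr O X))
    (B := (ofRightDerived (sectOn (O.over X) (UX U X))).precomp (restr O X))
    (DeltaFunctor.postcomp_eff _ _ (ofRightDerived_eff _))
    (DeltaFunctor.precomp_eff _ _ (ofRightDerived_eff _))
    (Functor.isoWhiskerRight (sectOn O U).rightDerivedZeroIsoSelf (restr O X) ≪≫
      sectNatIso O U X ≪≫
      Functor.isoWhiskerLeft (restr O X)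
        (sectOn (O.over X) (UX U X)).rightDerivedZeroIsoSelf.symm) q

end loc

end Groth.Agent.Lib.Helper42.LocRestr
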