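import Mathlib

set_option autoImplicit false
universe u
open CategoryTheory CategoryTheory.Limits AlgebraicGeometry

namespace Groth.Agent.Lib.Helper42.NeronUnqFC

/-- If `A` is a field, `g` is injective and `g ∘ f` is finite then `f` is finite. -/
lemma ringHom_finite_of_comp {A B C : Type u} [Field A] [CommRing B] [CommRing C]
    (f : A →+* B) (g : B →+* C) (hg : Function.Injective g) (h : (g.comp f).Finite) :
    f.Finite := by
  let _ := f.toAlgebra
  let _ := (g.comp f).toAlgebra
  have hC : Module.Finite A C := h
  let gl : B →ₗ[A] C :=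
    { toFun := g
      map_add' := map_add g
      map_smul' := by
        intro a b
        simp [Algebra.smul_def, RingHom.algebraMap_toAlgebra] }
  exact Module.Finite.of_injective gl hg

/-- The residue field map of `h : F ⟶ S` at a closed point `c'` of `F` is finite, when `h` factors
as a locally finite type map to `Spec κ(s)` followed by the canonical map. -/
lemma finite_residueFieldMap_of_fac {F S : Scheme.{u}} (h : F ⟶ S) (s : S)
    (a : F ⟶ Spec (S.residueField s)) [LocallyOfFiniteType a]
    (hfac : h = a ≫ S.fromSpecResidueField s) (c' : F) (hc' : IsClosed ({c'} : Set F)) :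
    (h.residueFieldMap c').hom.Finite := by
  have hpt : s = h c' := by
    subst hfac
    simp
  have := isClosed_singleton_iff_isClosedImmersion.mp hc'
  have hfin : IsFinite (F.fromSpecResidueField c' ≫ a) :=
    (isFinite_iff_locallyOfFiniteType_of_jacobsonSpace
      (f := F.fromSpecResidueField c' ≫ a)).mpr inferInstance
  have key : Spec.map ((S.residueFieldCongr hpt).hom ≫ h.residueFieldMap c') =
      F.fromSpecResidueField c' ≫ a := by
    rw [← cancel_mono (S.fromSpecResidueField s), Spec.map_comp, Category.assoc,
      Scheme.residueFieldCongr_fromSpecResidueField,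
      Scheme.Hom.SpecMap_residueFieldMap_fromSpecResidueField, Category.assoc, ← hfac]
  rw [← key, IsFinite.SpecMap_iff] at hfin
  have h2 : h.residueFieldMap c' =
      (S.residueFieldCongr hpt).inv ≫ ((S.residueFieldCongr hpt).hom ≫ h.residueFieldMap c') := by
    simp
  rw [h2, CommRingCat.hom_comp]
  refine RingHom.Finite.comp hfin (RingHom.Finite.of_surjective _ ?_)
  exact ((S.residueFieldCongr hpt).symm.commRingCatIsoToRingEquiv).surjective

theorem exists_mem_finite_residueFieldMap {Z S : Scheme.{u}} (q : Z ⟶ S) [LocallyOfFiniteType q]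
    (C : Set Z) (hC : IsClosed C) (hne : C.Nonempty) :
    ∃ c ∈ C, (q.residueFieldMap c).hom.Finite := by
  obtain ⟨z, hz⟩ := hne
  have hC' : IsClosed ((q.fiberι (q z)) ⁻¹' C) := hC.preimage (q.fiberι (q z)).continuous
  have hne' : ((q.fiberι (q z)) ⁻¹' C).Nonempty :=
    ⟨q.asFiber z, by simpa [Scheme.Hom.fiberι_asFiber] using hz⟩
  obtain ⟨c', hc'C, hc'cl⟩ := nonempty_inter_closedPoints hne' hC'.isLocallyClosed
  refine ⟨q.fiberι (q z) c', hc'C, ?_⟩
  have : LocallyOfFiniteType (q.fiberToSpecResidueField (q z)) :=
    MorphismProperty.pullback_snd _ _ inferInstance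
  have h1 := finite_residueFieldMap_of_fac (q.fiberι (q z) ≫ q) (q z)
    (q.fiberToSpecResidueField (q z)) (q.fiber_fac (q z)) c' hc'cl
  rw [Scheme.residueFieldMap_comp] at h1
  exact ringHom_finite_of_comp (q.residueFieldMap (q.fiberι (q z) c')).hom
    ((q.fiberι (q z)).residueFieldMap c').hom (RingHom.injective _) h1

end Groth.Agent.Lib.Helper42.NeronUnqFC
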