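import Groth.Agent.Lib.Helper42.PreFlat
import Groth.Agent.Lib.Helper42.Snake
import Mathlib.Algebra.Category.ModuleCat.Presheaf.Free
import Mathlib.Algebra.Category.ModuleCat.Presheaf.Abelian
import Mathlib.Algebra.Category.ModuleCat.Presheaf.EpiMono
import Mathlib.RingTheory.Flat.Basic

set_option autoImplicit false

namespace Groth.Agent.Lib.Helper42.PreFlat2

universe u
open CategoryTheory MonoidalCategory Limits Opposite
open Groth.Agent.Lib.Helper42.PreFlat

variable {C : Type u} [SmallCategory C] (O : Cᵒᵖ ⥤ CommRingCat.{u})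

abbrev PM : Type (u + 1) := PresheafOfModules.{u} (O ⋙ forget₂ CommRingCat.{u} RingCat.{u})

theorem exists_flat_epi (G : PM O) :
    ∃ (L : PM O) (π : L ⟶ G), PreservesFiniteLimits (tensorRight L) ∧ Epi π := by
  let S : Cᵒᵖ ⥤ Type u := G.presheaf ⋙ forget _
  let L : PM O := PresheafOfModules.freeObj S
  let π : L ⟶ G := PresheafOfModules.freeObjDesc (𝟙 S)
  refine ⟨L, π, ?_, ?_⟩
  · apply preservesFiniteLimits_tensorRight_of_flat O L
    intro X
    exact inferInstanceAs (Module.Flat (O.obj X) (S.obj X →₀ O.obj X))
  · apply PresheafOfModules.epi_of_surjective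
    intro X x
    refine ⟨ModuleCat.freeMk (x : S.obj X), ?_⟩
    simp only [π, PresheafOfModules.freeObjDesc]
    exact ModuleCat.freeDesc_apply _ _

theorem shortExact_map_tensorRight_of_flat (S : ShortComplex (PM O)) (hS : S.ShortExact)
    (hF : PreservesFiniteLimits (tensorRight S.X₃))
    (G : PM O) [(tensorRight G).PreservesZeroMorphisms] :
    (S.map (tensorRight G)).ShortExact := by
  have i1 : ∀ G : PM O, PreservesFiniteColimits (tensorRight G) := fun G =>
    PreservesColimitsOfSize.preservesFiniteColimits.{u, u} _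
  have i1' : ∀ M : PM O, PreservesFiniteColimits (tensorLeft M) := fun M =>
    PreservesColimitsOfSize.preservesFiniteColimits.{u, u} _
  have hadd : (tensorRight G).Additive :=
    Groth.Agent.Lib.Helper42.Snake.additive_of_preservesFiniteColimits _
  have h := (Functor.preservesFiniteColimits_iff_forall_exact_map_and_epi (tensorRight G)).mp
      inferInstance S hS
  obtain ⟨L, π, hL, hπ⟩ := exists_flat_epi O G
  let R : ShortComplex (PM O) := ShortComplex.mk (kernel.ι π) π (kernel.condition π)
  have hR : R.ShortExact :=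
    { exact := ShortComplex.exact_kernel π
      mono_f := inferInstanceAs (Mono (kernel.ι π))
      epi_g := hπ }
  let T : PM O ⥤ PM O ⥤ PM O := (curriedTensor (PM O)).flip
  have j1 : ∀ G, PreservesFiniteColimits (T.obj G) := fun G => i1 G
  have j2 : ∀ M, PreservesFiniteColimits (T.flip.obj M) := fun M => i1' M
  have := hS.mono_f
  have h1 : Mono ((T.obj R.X₂).map S.f) := by
    exact inferInstanceAs (Mono ((tensorRight L).map S.f))
  have h2 : Mono ((T.flip.obj S.X₃).map R.f) := by
    have : PreservesFiniteLimits (tensorLeft S.X₃) :=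
      preservesFiniteLimits_of_natIso (BraidedCategory.tensorLeftIsoTensorRight S.X₃).symm
    exact inferInstanceAs (Mono ((tensorLeft S.X₃).map (kernel.ι π)))
  have hm : Mono ((T.obj R.X₃).map S.f) :=
    Groth.Agent.Lib.Helper42.Snake.mono_map_of_resolution T S R hS hR h1 h2
  exact
    { exact := h.1
      mono_f := hm
      epi_g := h.2 }

end Groth.Agent.Lib.Helper42.PreFlat2
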