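import Mathlib

set_option autoImplicit false
universe u
open TensorProduct IsLocalRing CategoryTheory AlgebraicGeometry
open scoped Pointwise

namespace Groth.Agent.Lib.Helper42.PrimFL

/-- `V/𝔪ⁿV` has finite length for `V` finite over a Noetherian local ring. -/
theorem fl {R : Type u} [CommRing R] [IsLocalRing R] [IsNoetherianRing R] (V : Type u)
    [AddCommGroup V] [Module R V] [Module.Finite R V] (n : ℕ) :
    IsFiniteLength R (V ⧸ (maximalIdeal R ^ n • (⊤ : Submodule R V))) := by
  rw [isFiniteLength_iff_isNoetherian_isArtinian]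
  refine ⟨inferInstance, ?_⟩
  by_cases hn : n = 0
  · subst hn
    have : Subsingleton (V ⧸ (maximalIdeal R ^ 0 • (⊤ : Submodule R V))) := by
      rw [Submodule.Quotient.subsingleton_iff]
      simp
    infer_instance
  · have hp : maximalIdeal R ∈ (maximalIdeal R ^ n).minimalPrimes := by
      refine ⟨⟨inferInstance, Ideal.pow_le_self hn⟩, ?_⟩
      rintro q ⟨hq, hle⟩ _
      exact hq.le_of_pow_le hle
    have : IsArtinianRing (R ⧸ maximalIdeal R ^ n) :=
      IsLocalRing.quotient_artinian_of_mem_minimalPrimes_of_isLocalRing _ hp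
    have : Module.Finite (R ⧸ maximalIdeal R ^ n)
        (V ⧸ (maximalIdeal R ^ n • (⊤ : Submodule R V))) :=
      Module.Finite.of_restrictScalars_finite R _ _
    have : IsArtinian (R ⧸ maximalIdeal R ^ n)
        (V ⧸ (maximalIdeal R ^ n • (⊤ : Submodule R V))) := inferInstance
    exact isArtinian_of_surjective_algebraMap (S := R) (R := R ⧸ maximalIdeal R ^ n)
      Ideal.Quotient.mk_surjective

end Groth.Agent.Lib.Helper42.PrimFL
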