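import Mathlib

set_option autoImplicit false
universe u
open TensorProduct IsLocalRing CategoryTheory AlgebraicGeometry
open scoped Pointwise

namespace Groth.Agent.Lib.Helper42.PrimKR

/-- Naturality of the coordinate maps of `S ⊗[R] -` for a basis of `S`. -/
lemma coord_nat {R S : Type u} [CommRing R] [CommRing S] [Algebra R S]
    {ι : Type u} (b : Module.Basis ι R S) (i : ι)
    {V V' : Type u} [AddCommGroup V] [Module R V] [AddCommGroup V'] [Module R V']
    (f : V →ₗ[R] V') (w : S ⊗[R] V) :
    f (TensorProduct.lid R V ((b.coord i).rTensor V w)) =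
      TensorProduct.lid R V' ((b.coord i).rTensor V' (LinearMap.lTensor S f w)) := by
  induction w using TensorProduct.induction_on with
  | zero => simp
  | tmul x y => simp
  | add x y hx hy => simp only [map_add, hx, hy]

/-- Krull step: for `S` free over the Noetherian local ring `R` and `V` finite over `R`, an element
of `S ⊗[R] V` dying in all `S ⊗[R] V/𝔪ⁿV` is zero. -/
theorem kr {R S : Type u} [CommRing R] [IsLocalRing R] [IsNoetherianRing R] [CommRing S]
    [Algebra R S] [Module.Free R S] (V : Type u) [AddCommGroup V] [Module R V] [Module.Finite R V]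
    (w : S ⊗[R] V)
    (hw : ∀ n : ℕ, LinearMap.lTensor S
      (Submodule.mkQ (maximalIdeal R ^ n • (⊤ : Submodule R V))) w = 0) :
    w = 0 := by
  classical
  let b := Module.Free.chooseBasis R S
  apply (TensorProduct.equivFinsuppOfBasisLeft b).injective
  rw [map_zero]
  ext i
  rw [TensorProduct.equivFinsuppOfBasisLeft_apply, Finsupp.zero_apply]
  have hmem : TensorProduct.lid R V ((b.coord i).rTensor V w) ∈
      (⨅ n : ℕ, maximalIdeal R ^ n • (⊤ : Submodule R V)) := by
    rw [Submodule.mem_iInf]
    intro n
    rw [← Submodule.Quotient.mk_eq_zero, ← Submodule.mkQ_apply, coord_nat b i _ w, hw n]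
    simp
  rw [Ideal.iInf_pow_smul_eq_bot_of_isLocalRing (maximalIdeal R) Ideal.IsPrime.ne_top'] at hmem
  exact (Submodule.mem_bot R).mp hmem

end Groth.Agent.Lib.Helper42.PrimKR
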