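import Mathlib
import Groth.Agent.Lib.Helper42.PrimKR
import Groth.Agent.Lib.Helper42.PrimFL

set_option autoImplicit false
universe u
open TensorProduct IsLocalRing CategoryTheory AlgebraicGeometry
open scoped Pointwise

namespace Groth.Agent.Lib.Helper42.PrimNZD

/-- Devissage (finite length case): if `s` is a nonzerodivisor on `S ⊗ κ` then it is one on
`S ⊗ V` for `V` of finite length (`S` flat over the local ring `R`). -/
theorem dv {R S : Type u} [CommRing R] [IsLocalRing R] [CommRing S] [Algebra R S]
    [Module.Flat R S] (s : S) (hs : ∀ w : S ⊗[R] ResidueField R, s • w = 0 → w = 0)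
    (V : Type u) [AddCommGroup V] [Module R V] (hV : IsFiniteLength R V) :
    ∀ w : S ⊗[R] V, s • w = 0 → w = 0 := by
  induction hV with
  | of_subsingleton =>
    intro w _
    exact Subsingleton.elim _ _
  | @of_simple_quotient M _ _ N hsimple hN ih =>
    intro w hw
    -- the simple quotient is the residue field
    obtain ⟨I, hI, ⟨e⟩⟩ := isSimpleModule_iff_quot_maximal.mp hsimple
    have hIm : I = maximalIdeal R := IsLocalRing.eq_maximalIdeal hI
    subst hIm
    let e' : (M ⧸ N) ≃ₗ[R] ResidueField R :=
      { toFun := e
        invFun := e.symm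
        map_add' := e.map_add
        map_smul' := fun r x => e.map_smul r x
        left_inv := e.left_inv
        right_inv := e.right_inv }
    -- image of w in S ⊗ (M/N) is zero
    have h1 : (N.mkQ.baseChange S) w = 0 := by
      have h2 : ((e'.toLinearMap.baseChange S) ((N.mkQ.baseChange S) w)) = 0 := by
        apply hs
        rw [← map_smul, ← map_smul, hw, map_zero, map_zero]
      have hinj : Function.Injective (e'.toLinearMap.baseChange S) := by
        have h4 : Function.Injective (e'.toLinearMap.lTensor S) := by
          rw [← LinearEquiv.coe_lTensor]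
          exact (e'.lTensor S).injective
        exact h4
      exact hinj (by rw [h2, map_zero])
    -- so w comes from S ⊗ N
    have hex : Function.Exact (N.subtype.lTensor S) (N.mkQ.lTensor S) :=
      lTensor_exact S (LinearMap.exact_subtype_mkQ N) (Submodule.mkQ_surjective N)
    have h1' : (N.mkQ.lTensor S) w = 0 := h1
    obtain ⟨w', hw'⟩ := (hex w).mp h1'
    have hw'' : (N.subtype.baseChange S) w' = w := hw'
    have hinj : Function.Injective (N.subtype.baseChange S) :=
      Module.Flat.lTensor_preserves_injective_linearMap (M := S) _ N.injective_subtype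
    have h3 : s • w' = 0 := by
      apply hinj
      rw [map_smul, hw'', hw, map_zero]
    rw [← hw'', ih w' h3, map_zero]

/-- `s` a nonzerodivisor on `S ⊗ κ` implies `s` a nonzerodivisor on `S ⊗ V`, `V` finite,
`S` free over the Noetherian local ring `R`. -/
theorem nzd {R S : Type u} [CommRing R] [IsLocalRing R] [IsNoetherianRing R] [CommRing S]
    [Algebra R S] [Module.Free R S] (s : S)
    (hs : ∀ w : S ⊗[R] ResidueField R, s • w = 0 → w = 0)
    (V : Type u) [AddCommGroup V] [Module R V] [Module.Finite R V]
    (w : S ⊗[R] V) (hw : s • w = 0) : w = 0 := by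
  apply Groth.Agent.Lib.Helper42.PrimKR.kr V w
  intro n
  apply dv s hs _ (Groth.Agent.Lib.Helper42.PrimFL.fl V n)
  have : ((Submodule.mkQ (maximalIdeal R ^ n • (⊤ : Submodule R V))).baseChange S) (s • w) =
      s • ((Submodule.mkQ (maximalIdeal R ^ n • (⊤ : Submodule R V))).baseChange S) w :=
    map_smul _ _ _
  rw [hw, map_zero] at this
  exact this.symm

end Groth.Agent.Lib.Helper42.PrimNZD
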