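import Groth.Agent.Lib.Helper42.Proj

/-! Binatural form of the projection formula `j_!(P ⊗ N|_U) ≅ j_!P ⊗ N` on a ringed site. -/

set_option autoImplicit false
set_option linter.style.haveILetI false
set_option linter.unusedSectionVars false

namespace Groth.Agent.Lib.Helper42.ProjBi

universe u
open CategoryTheory MonoidalCategory Limits Opposite ModSite
open Groth.Agent.Lib.Helper42.TensorSheaf Groth.Agent.Lib.Helper42.RestrTensor
open Groth.Agent.Lib.Helper42.ExtPre Groth.Agent.Lib.Helper42.ExtZero
open Groth.Agent.Lib.Helper42.ProjPre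

variable {C : Type u} [SmallCategory C] {J : GrothendieckTopology C} (O : Sheaf J CommRingCat.{u})
  (U : C)

/-- the presheaf `P ⊗ N|_U` on `C/U` -/
noncomputable abbrev X₀ (P : Mod (O.over U)) (N : Mod O) : PMod (O.over U) :=
  (fgt (O.over U)).obj P ⊗ (pushPre O U).obj ((fgt O).obj N)

/-- step a (backwards): sheafified unit -/
noncomputable def α (P : Mod (O.over U)) (N : Mod O) :
    (shf O).obj ((extPre O U).obj (X₀ O U P N)) ⟶
      (L O U).obj (((tensorBi (O.over U)).obj P).obj ((restr O U).obj N)) :=
  (shf O).map ((extPre O U).map ((adjS (O.over U)).unit.app (X₀ O U P N)))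

instance (P : Mod (O.over U)) (N : Mod O) : IsIso (α O U P N) :=
  extPre_W O U _ (W_unit (X₀ O U P N))

/-- step b: sheafified presheaf projection formula -/
noncomputable def β (P : Mod (O.over U)) (N : Mod O) :
    (shf O).obj ((extPre O U).obj (X₀ O U P N)) ⟶
      (shf O).obj ((extPre O U).obj ((fgt (O.over U)).obj P) ⊗ (fgt O).obj N) :=
  (shf O).map (projHom ((fgt (O.over U)).obj P) ((fgt O).obj N))

instance (P : Mod (O.over U)) (N : Mod O) : IsIso (β O U P N) := by
  exact ((shf O).mapIso (projIso ((fgt (O.over U)).obj P) ((fgt O).obj N))).isIso_hom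

/-- step c: sheafified unit on the first factor -/
noncomputable def γ (P : Mod (O.over U)) (N : Mod O) :
    (shf O).obj ((extPre O U).obj ((fgt (O.over U)).obj P) ⊗ (fgt O).obj N) ⟶
      ((tensorBi O).obj ((L O U).obj P)).obj N :=
  (shf O).map ((adjS O).unit.app ((extPre O U).obj ((fgt (O.over U)).obj P)) ▷ (fgt O).obj N)

instance (P : Mod (O.over U)) (N : Mod O) : IsIso (γ O U P N) :=
  W_whiskerRight _ (W_unit _) _

/-- the projection formula for `L = j_!` -/
noncomputable def eL (P : Mod (O.over U)) (N : Mod O) :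
    (L O U).obj (((tensorBi (O.over U)).obj P).obj ((restr O U).obj N)) ≅
      ((tensorBi O).obj ((L O U).obj P)).obj N :=
  (asIso (α O U P N)).symm ≪≫ asIso (β O U P N) ≪≫ asIso (γ O U P N)

section NatLeft

variable {O U}
variable {P P' : Mod (O.over U)} (f : P ⟶ P') (N : Mod O)

/-- the map `P ⊗ N|_U ⟶ P' ⊗ N|_U` of presheaves -/
noncomputable abbrev φl : X₀ O U P N ⟶ X₀ O U P' N :=
  (fgt (O.over U)).map f ▷ (pushPre O U).obj ((fgt O).obj N)

lemma α_natural_left :
    α O U P N ≫ (L O U).map (((tensorBi (O.over U)).map f).app ((restr O U).obj N)) =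
      (shf O).map ((extPre O U).map (φl f N)) ≫ α O U P' N := by
  change (shf O).map ((extPre O U).map ((adjS (O.over U)).unit.app (X₀ O U P N))) ≫
      (shf O).map ((extPre O U).map ((fgt (O.over U)).map ((shf (O.over U)).map (φl f N)))) =
    (shf O).map ((extPre O U).map (φl f N)) ≫
      (shf O).map ((extPre O U).map ((adjS (O.over U)).unit.app (X₀ O U P' N)))
  rw [← Functor.map_comp, ← Functor.map_comp, ← Functor.map_comp, ← Functor.map_comp]
  congr 2
  exact ((adjS (O.over U)).unit.naturality (φl f N)).symm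

lemma β_natural_left :
    (shf O).map ((extPre O U).map (φl f N)) ≫ β O U P' N =
      β O U P N ≫ (shf O).map ((extPre O U).map ((fgt (O.over U)).map f) ▷ (fgt O).obj N) := by
  unfold β
  rw [← Functor.map_comp, ← Functor.map_comp]
  congr 1
  exact projHom_natural_left ((fgt (O.over U)).map f)

lemma γ_natural_left :
    (shf O).map ((extPre O U).map ((fgt (O.over U)).map f) ▷ (fgt O).obj N) ≫ γ O U P' N =
      γ O U P N ≫ ((tensorBi O).map ((L O U).map f)).app N := by
  change (shf O).map ((extPre O U).map ((fgt (O.over U)).map f) ▷ (fgt O).obj N) ≫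
      (shf O).map ((adjS O).unit.app ((extPre O U).obj ((fgt (O.over U)).obj P')) ▷
        (fgt O).obj N) =
    (shf O).map ((adjS O).unit.app ((extPre O U).obj ((fgt (O.over U)).obj P)) ▷
        (fgt O).obj N) ≫
      (shf O).map ((fgt O).map ((shf O).map ((extPre O U).map ((fgt (O.over U)).map f))) ▷
        (fgt O).obj N)
  rw [← Functor.map_comp, ← Functor.map_comp, ← comp_whiskerRight, ← comp_whiskerRight]
  congr 2
  exact (adjS O).unit.naturality ((extPre O U).map ((fgt (O.over U)).map f))

theorem eL_natural_left :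
    (L O U).map (((tensorBi (O.over U)).map f).app ((restr O U).obj N)) ≫ (eL O U P' N).hom =
      (eL O U P N).hom ≫ ((tensorBi O).map ((L O U).map f)).app N := by
  have h1 := α_natural_left f N
  have h2 := β_natural_left f N
  have h3 := γ_natural_left f N
  simp only [eL, Iso.trans_hom, Iso.symm_hom, asIso_inv, asIso_hom, Category.assoc]
  rw [IsIso.eq_inv_comp, ← Category.assoc, h1, Category.assoc, IsIso.hom_inv_id_assoc,
    ← Category.assoc, h2, Category.assoc, h3]

end NatLeft

section NatRight

variable {O U}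
variable (P : Mod (O.over U)) {N N' : Mod O} (g : N ⟶ N')

/-- the map `P ⊗ N|_U ⟶ P ⊗ N'|_U` of presheaves -/
noncomputable abbrev φr : X₀ O U P N ⟶ X₀ O U P N' :=
  (fgt (O.over U)).obj P ◁ (pushPre O U).map ((fgt O).map g)

lemma α_natural_right :
    α O U P N ≫ (L O U).map (((tensorBi (O.over U)).obj P).map ((restr O U).map g)) =
      (shf O).map ((extPre O U).map (φr P g)) ≫ α O U P N' := by
  change (shf O).map ((extPre O U).map ((adjS (O.over U)).unit.app (X₀ O U P N))) ≫
      (shf O).map ((extPre O U).map ((fgt (O.over U)).map ((shf (O.over U)).map (φr P g)))) =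
    (shf O).map ((extPre O U).map (φr P g)) ≫
      (shf O).map ((extPre O U).map ((adjS (O.over U)).unit.app (X₀ O U P N')))
  rw [← Functor.map_comp, ← Functor.map_comp, ← Functor.map_comp, ← Functor.map_comp]
  congr 2
  exact ((adjS (O.over U)).unit.naturality (φr P g)).symm

lemma β_natural_right :
    (shf O).map ((extPre O U).map (φr P g)) ≫ β O U P N' =
      β O U P N ≫ (shf O).map ((extPre O U).obj ((fgt (O.over U)).obj P) ◁ (fgt O).map g) := by
  unfold β
  rw [← Functor.map_comp, ← Functor.map_comp]
  congr 1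
  exact projHom_natural_right ((fgt O).map g)

lemma γ_natural_right :
    (shf O).map ((extPre O U).obj ((fgt (O.over U)).obj P) ◁ (fgt O).map g) ≫ γ O U P N' =
      γ O U P N ≫ ((tensorBi O).obj ((L O U).obj P)).map g := by
  change (shf O).map ((extPre O U).obj ((fgt (O.over U)).obj P) ◁ (fgt O).map g) ≫
      (shf O).map ((adjS O).unit.app ((extPre O U).obj ((fgt (O.over U)).obj P)) ▷
        (fgt O).obj N') =
    (shf O).map ((adjS O).unit.app ((extPre O U).obj ((fgt (O.over U)).obj P)) ▷
        (fgt O).obj N) ≫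
      (shf O).map ((fgt O).obj ((shf O).obj ((extPre O U).obj ((fgt (O.over U)).obj P))) ◁
        (fgt O).map g)
  rw [← Functor.map_comp, ← Functor.map_comp]
  congr 1
  exact whisker_exchange _ _

theorem eL_natural_right :
    (L O U).map (((tensorBi (O.over U)).obj P).map ((restr O U).map g)) ≫ (eL O U P N').hom =
      (eL O U P N).hom ≫ ((tensorBi O).obj ((L O U).obj P)).map g := by
  have h1 := α_natural_right P g
  have h2 := β_natural_right P g
  have h3 := γ_natural_right P g
  simp only [eL, Iso.trans_hom, Iso.symm_hom, asIso_inv, asIso_hom, Category.assoc]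
  rw [IsIso.eq_inv_comp, ← Category.assoc, h1, Category.assoc, IsIso.hom_inv_id_assoc,
    ← Category.assoc, h2, Category.assoc, h3]

end NatRight

end Groth.Agent.Lib.Helper42.ProjBi
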