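import Groth.Agent.Lib.Helper42.ExtZero
import Mathlib.LinearAlgebra.DirectSum.TensorProduct

set_option autoImplicit false

namespace Groth.Agent.Lib.Helper42.ProjPre

universe u
open CategoryTheory MonoidalCategory Limits Opposite ModSite DirectSum TensorProduct
open Groth.Agent.Lib.Helper42.TensorSheaf Groth.Agent.Lib.Helper42.RestrTensor
open Groth.Agent.Lib.Helper42.ExtPre

variable {C : Type u} [SmallCategory C] {J : GrothendieckTopology C} {O : Sheaf J CommRingCat.{u}}
  {U : C}

variable (P : PMod (O.over U)) (N : PMod O)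

noncomputable def ιA {V : C} (φ : V ⟶ U) :
    cmp P φ →ₗ[O.obj.obj (op V)] (extObj P).obj (op V) := ι P φ

noncomputable def projT {V : C} (φ : V ⟶ U) :
    (cmp P φ) ⊗[O.obj.obj (op V)] (N.obj (op V)) →ₗ[O.obj.obj (op V)]
      ((extObj P).obj (op V)) ⊗[O.obj.obj (op V)] (N.obj (op V)) :=
  LinearMap.rTensor (N.obj (op V)) (ιA P φ)

lemma projT_tmul {V : C} (φ : V ⟶ U) (p : cmp P φ) (n : N.obj (op V)) :
    projT P N φ (p ⊗ₜ n) = (ι P φ p) ⊗ₜ n := rfl

lemma tensor_fun_ext {R : Type*} [CommRing R] {M N X : Type*} [AddCommGroup M] [AddCommGroup N]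
    [Module R M] [Module R N] [AddCommMonoid X] (F G : M ⊗[R] N → X)
    (hF0 : F 0 = 0) (hG0 : G 0 = 0) (hFa : ∀ a b, F (a + b) = F a + F b)
    (hGa : ∀ a b, G (a + b) = G a + G b) (h : ∀ m n, F (m ⊗ₜ n) = G (m ⊗ₜ n)) (z : M ⊗[R] N) :
    F z = G z := by
  induction z using TensorProduct.induction_on with
  | zero => rw [hF0, hG0]
  | tmul m n => exact h m n
  | add a b ha hb => rw [hFa, hGa, ha, hb]

open Groth.Agent.Lib.Helper42.TensorLoc in
lemma projT_compat {V W : C} (g : W ⟶ V) (φ : V ⟶ U)
    (z : (cmp P φ) ⊗[O.obj.obj (op V)] (N.obj (op V))) :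
    res (extObj P ⊗ N) g.op (projT P N φ z) =
      projT P N (g ≫ φ) (res (P ⊗ (pushPre O U).obj N)
        (Over.homMk g : Over.mk (g ≫ φ) ⟶ Over.mk φ).op z) := by
  refine tensor_fun_ext
    (fun z => res (extObj P ⊗ N) g.op (projT P N φ z))
    (fun z => projT P N (g ≫ φ) (res (P ⊗ (pushPre O U).obj N)
        (Over.homMk g : Over.mk (g ≫ φ) ⟶ Over.mk φ).op z)) ?_ ?_ ?_ ?_ ?_ z
  · exact (congrArg (fun y => res (extObj P ⊗ N) g.op y) (map_zero (projT P N φ))).trans
      (res_zero _ _)
  · exact (congrArg (fun y => projT P N (g ≫ φ) y) (res_zero (P ⊗ (pushPre O U).obj N) _)).trans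
      (map_zero (projT P N (g ≫ φ)))
  · intro a b
    exact (congrArg (fun y => res (extObj P ⊗ N) g.op y) (map_add (projT P N φ) a b)).trans
      (res_add _ _ _ _)
  · intro a b
    exact (congrArg (fun y => projT P N (g ≫ φ) y)
      (res_add (P ⊗ (pushPre O U).obj N) _ a b)).trans
      (map_add (projT P N (g ≫ φ)) _ _)
  · intro p n
    change (res (extObj P) g.op (ι P φ p)) ⊗ₜ[O.obj.obj (op W)] (res N g.op n) =
      (ι P (g ≫ φ) (cmpMap P g φ p)) ⊗ₜ[O.obj.obj (op W)] (res N g.op n)
    congr 1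
    exact extObj_map_ι P g φ p

noncomputable def projData : DescData (P ⊗ (pushPre O U).obj N) (extObj P ⊗ N) where
  t := fun φ => projT P N φ
  compat := by
    intro V W g φ z
    exact projT_compat P N g φ z

noncomputable def projHom : extObj (P ⊗ (pushPre O U).obj N) ⟶ extObj P ⊗ N :=
  desc (projData P N)

lemma projHom_app_ι {V : C} (φ : V ⟶ U)
    (z : (cmp P φ) ⊗[O.obj.obj (op V)] (N.obj (op V))) :
    (projHom P N).app (op V) (ι (P ⊗ (pushPre O U).obj N) φ z) = projT P N φ z :=
  desc_app_ι (projData P N) φ z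

open Classical in
noncomputable def dsl (V : C) :=
  TensorProduct.directSumLeft (O.obj.obj (op V)) (O.obj.obj (op V))
    (fun φ : V ⟶ U => cmp P φ) (N.obj (op V))

lemma projHom_app_eq (V : C)
    (m : ⨁ φ : V ⟶ U, (cmp P φ) ⊗[O.obj.obj (op V)] (N.obj (op V))) :
    (projHom P N).app (op V) m = (dsl P N V).symm m := by
  classical
  induction m using DirectSum.induction_on with
  | zero => exact (map_zero ((projHom P N).app (op V)).hom).trans (map_zero (dsl P N V).symm).symm
  | of φ z =>
    refine (projHom_app_ι P N φ z).trans ?_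
    exact (TensorProduct.directSumLeft_symm_of (R := O.obj.obj (op V)) (S := O.obj.obj (op V))
      (M₁ := fun φ : V ⟶ U => cmp P φ) (M₂' := N.obj (op V)) z).symm
  | add a b ha hb =>
    exact (map_add ((projHom P N).app (op V)).hom a b).trans
      ((congrArg₂ (· + ·) ha hb).trans (map_add (dsl P N V).symm a b).symm)

lemma projHom_app_bijective (X : Cᵒᵖ) : Function.Bijective ((projHom P N).app X) := by
  have h : (fun m => (projHom P N).app (op X.unop) m) = fun m => (dsl P N X.unop).symm m :=
    funext (projHom_app_eq P N X.unop)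
  have hb : Function.Bijective (fun m => (dsl P N X.unop).symm m) := (dsl P N X.unop).symm.bijective
  rw [← h] at hb
  exact hb

instance (X : Cᵒᵖ) : IsIso ((projHom P N).app X) :=
  (ConcreteCategory.isIso_iff_bijective _).mpr (projHom_app_bijective P N X)

noncomputable def projIso : extObj (P ⊗ (pushPre O U).obj N) ≅ extObj P ⊗ N :=
  PresheafOfModules.isoMk (fun X => asIso ((projHom P N).app X))
    (fun _ _ f => (projHom P N).naturality f)

lemma projIso_hom : (projIso P N).hom = projHom P N := rfl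

variable {P N}

lemma projHom_natural_left {P' : PMod (O.over U)} (f : P ⟶ P') :
    (extPre O U).map (f ▷ (pushPre O U).obj N) ≫ projHom P' N =
      projHom P N ≫ ((extPre O U).map f ▷ N) := by
  refine ext_hom_ext _ _ fun {V} φ z => ?_
  change (projHom P' N).app (op V) ((extMap (f ▷ (pushPre O U).obj N)).app (op V)
    (ι (P ⊗ (pushPre O U).obj N) φ z)) =
    ((extMap f) ▷ N).app (op V) ((projHom P N).app (op V) (ι (P ⊗ (pushPre O U).obj N) φ z))
  rw [extMap_app_ι, projHom_app_ι]
  erw [projHom_app_ι]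
  refine tensor_fun_ext (R := O.obj.obj (op V)) (M := cmp P φ) (N := N.obj (op V))
    (fun z => projT P' N φ ((f ▷ (pushPre O U).obj N).app (op (Over.mk φ)) z))
    (fun z => ((extMap f) ▷ N).app (op V) (projT P N φ z)) ?_ ?_ ?_ ?_ ?_ z
  · exact (congrArg (fun y => projT P' N φ y)
      (map_zero ((f ▷ (pushPre O U).obj N).app (op (Over.mk φ))).hom)).trans (map_zero _)
  · exact (congrArg (fun y => ((extMap f) ▷ N).app (op V) y) (map_zero (projT P N φ))).trans
      (map_zero (((extMap f) ▷ N).app (op V)).hom)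
  · intro a b
    exact (congrArg (fun y => projT P' N φ y)
      (map_add ((f ▷ (pushPre O U).obj N).app (op (Over.mk φ))).hom a b)).trans (map_add _ _ _)
  · intro a b
    exact (congrArg (fun y => ((extMap f) ▷ N).app (op V) y) (map_add (projT P N φ) a b)).trans
      (map_add (((extMap f) ▷ N).app (op V)).hom _ _)
  · intro p n
    change (ι P' φ (f.app (op (Over.mk φ)) p)) ⊗ₜ[O.obj.obj (op V)] n =
      ((extMap f).app (op V) (ι P φ p)) ⊗ₜ[O.obj.obj (op V)] n
    rw [extMap_app_ι]

lemma projHom_natural_right {N' : PMod O} (g : N ⟶ N') :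
    (extPre O U).map (P ◁ (pushPre O U).map g) ≫ projHom P N' =
      projHom P N ≫ (extObj P ◁ g) := by
  refine ext_hom_ext _ _ fun {V} φ z => ?_
  change (projHom P N').app (op V) ((extMap (P ◁ (pushPre O U).map g)).app (op V)
    (ι (P ⊗ (pushPre O U).obj N) φ z)) =
    (extObj P ◁ g).app (op V) ((projHom P N).app (op V) (ι (P ⊗ (pushPre O U).obj N) φ z))
  rw [extMap_app_ι, projHom_app_ι]
  erw [projHom_app_ι]
  refine tensor_fun_ext (R := O.obj.obj (op V)) (M := cmp P φ) (N := N.obj (op V))
    (fun z => projT P N' φ ((P ◁ (pushPre O U).map g).app (op (Over.mk φ)) z))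
    (fun z => (extObj P ◁ g).app (op V) (projT P N φ z)) ?_ ?_ ?_ ?_ ?_ z
  · exact (congrArg (fun y => projT P N' φ y)
      (map_zero ((P ◁ (pushPre O U).map g).app (op (Over.mk φ))).hom)).trans (map_zero _)
  · exact (congrArg (fun y => (extObj P ◁ g).app (op V) y) (map_zero (projT P N φ))).trans
      (map_zero ((extObj P ◁ g).app (op V)).hom)
  · intro a b
    exact (congrArg (fun y => projT P N' φ y)
      (map_add ((P ◁ (pushPre O U).map g).app (op (Over.mk φ))).hom a b)).trans (map_add _ _ _)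
  · intro a b
    exact (congrArg (fun y => (extObj P ◁ g).app (op V) y) (map_add (projT P N φ) a b)).trans
      (map_add ((extObj P ◁ g).app (op V)).hom _ _)
  · intro p n
    rfl

end Groth.Agent.Lib.Helper42.ProjPre
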