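import Groth.Agent.Lib.Helper42.ModSheaf
import Groth.Agent.Lib.Helper53.ModGroth
import Mathlib.CategoryTheory.Adjunction.AdjointFunctorTheorems
import Mathlib.CategoryTheory.Sites.CoverLifting
import Mathlib.CategoryTheory.Abelian.Subobject
import Mathlib.CategoryTheory.Abelian.GrothendieckCategory.Basic
import Mathlib.Algebra.Category.ModuleCat.Sheaf.PushforwardContinuous

/-! Restriction of sheaves of modules along a continuous and cocontinuous functor is a left
adjoint (special adjoint functor theorem). -/

set_option autoImplicit false
universe u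

open CategoryTheory Limits

namespace Groth.Agent.Lib.Helper42.PushLA

open Groth.Agent.Lib.Helper42.ModSheaf Groth.Agent.Lib.Helper53.ModGroth

variable {C : Type u} [SmallCategory C] {D : Type u} [SmallCategory D]
  (J : GrothendieckTopology C) (K : GrothendieckTopology D) (F : C ⥤ D)
  [F.IsContinuous J K] [F.IsCocontinuous J K]
  {S : Sheaf J RingCat.{u}} {R : Sheaf K RingCat.{u}}
  (φ : S ⟶ (F.sheafPushforwardContinuous RingCat.{u} J K).obj R)

/-- the underlying abelian sheaf of the restriction -/
noncomputable def pushToSheafIso :
    SheafOfModules.pushforward.{u} φ ⋙ SheafOfModules.toSheaf.{u} S ≅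
      SheafOfModules.toSheaf.{u} R ⋙ F.sheafPushforwardContinuous AddCommGrpCat.{u} J K :=
  NatIso.ofComponents (fun _ => Iso.refl _) (by
    intro M N f
    rfl)

instance : PreservesColimitsOfSize.{u, u} (SheafOfModules.pushforward.{u} φ) := by
  have : (F.sheafPushforwardContinuous AddCommGrpCat.{u} J K).IsLeftAdjoint :=
    (F.sheafAdjunctionCocontinuous AddCommGrpCat.{u} J K).isLeftAdjoint
  have : PreservesColimitsOfSize.{u, u}
      (SheafOfModules.pushforward.{u} φ ⋙ SheafOfModules.toSheaf.{u} S) :=
    preservesColimits_of_natIso (pushToSheafIso J K F φ).symm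
  exact preservesColimits_of_reflects_of_preserves _ (SheafOfModules.toSheaf.{u} S)

theorem isLeftAdjoint : (SheafOfModules.pushforward.{u} φ).IsLeftAdjoint := by
  have := isGrothendieckAbelian K R
  have : WellPowered.{u} (SheafOfModules.{u} R) := IsGrothendieckAbelian.wellPowered _
  have : WellPowered.{u} (SheafOfModules.{u} R)ᵒᵖ := Abelian.wellPowered_opposite
  exact isLeftAdjoint_of_preservesColimits_of_isSeparating (isSeparating_gen K R) _

end Groth.Agent.Lib.Helper42.PushLA
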