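import Groth.Agent.Lib.Helper42.SubTerm
import Groth.Prelude.Def_ExtSupp
import Mathlib.CategoryTheory.Abelian.Refinements

/-! `F ↦ F/F_U` preserves monomorphisms on a ringed site (any object `U`), hence `Γ_Z`
preserves injectives. -/

set_option autoImplicit false

namespace Groth.Agent.Lib.Helper42.QuotExact

universe u
open CategoryTheory Limits Opposite ModSite
open Groth.Agent.Lib.Helper42.TensorSheaf Groth.Agent.Lib.Helper42.RestrTensor
open Groth.Agent.Lib.Helper42.ExtPre Groth.Agent.Lib.Helper42.ExtZero

variable {C : Type u} [SmallCategory C] {J : GrothendieckTopology C} (O : Sheaf J CommRingCat.{u})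
  (U : C)

/-- the sheafified presheaf-level counit, with its source written as `j_! j^* A` -/
noncomputable def cL (A : Mod O) :
    (L O U).obj ((restr O U).obj A) ⟶ (shf O).obj ((fgt O).obj A) :=
  (shf O).map (counitApp (U := U) ((fgt O).obj A))

lemma adjL_counit (A : Mod O) :
    (adjL O U).counit.app A = cL O U A ≫ (adjS O).counit.app A := by
  have h := Adjunction.map_restrictFullyFaithful_counit_app (L := L O U) (R := restr O U)
    (adj' O U) (fgtFF O U)
    (Functor.FullyFaithful.id _)
    (show fgt (O.over U) ⋙ (extPre O U ⋙ shf O) ≅ L O U ⋙ 𝟭 _ from Iso.refl _)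
    (Functor.leftUnitor _ ≪≫ comm2 O U) A
  have h' : (adjL O U).counit.app A = _ := h
  rw [h']
  have hc : (adj' O U).counit.app A = cL O U A ≫ (adjS O).counit.app A := rfl
  rw [← hc]
  erw [CategoryTheory.Functor.map_id]
  erw [Category.id_comp]
  exact Category.id_comp _

lemma counit_eq (A : Mod O) :
    (extZeroAdj O U).counit.app A =
      (extZeroIso O U).hom.app ((restr O U).obj A) ≫ (adjL O U).counit.app A :=
  (Adjunction.leftAdjointUniq_hom_app_counit (extZeroAdj O U) (adjL O U) A).symm

section presheaf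

variable {D : Type u} [Category.{u} D] {R : Dᵒᵖ ⥤ RingCat.{u}}

lemma isZero_of_forall_isZero (M : PresheafOfModules.{u} R) (h : ∀ X, IsZero (M.obj X)) :
    IsZero M := by
  rw [IsZero.iff_id_eq_zero]
  exact PresheafOfModules.hom_ext (fun X => (h X).eq_of_src _ _)

lemma exact_of_evaluation (S : ShortComplex (PresheafOfModules.{u} R))
    (h : ∀ X, (S.map (PresheafOfModules.evaluation R X)).Exact) : S.Exact := by
  rw [S.exact_iff_isZero_homology]
  apply isZero_of_forall_isZero
  intro X
  have hX := h X
  rw [ShortComplex.exact_iff_isZero_homology] at hX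
  exact hX.of_iso (S.mapHomologyIso (PresheafOfModules.evaluation R X)).symm

end presheaf

variable {O U}

/-- the presheaf-level complex `ext(Q|_U) ⟶ Q ⟶ Q'/ext(Q'|_U)` -/
noncomputable def preSeq {Q Q' : PMod O} (ψ : Q ⟶ Q') : ShortComplex (PMod O) :=
  ShortComplex.mk (counitApp (U := U) Q) (ψ ≫ cokernel.π (counitApp (U := U) Q')) (by
    have : counitApp (U := U) Q ≫ ψ =
        extMap ((pushPre O U).map ψ) ≫ counitApp (U := U) Q' :=
      ((adjPre O U).counit.naturality ψ).symm
    have h2 : counitApp (U := U) Q' ≫ cokernel.π (counitApp (U := U) Q') = 0 :=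
      cokernel.condition _
    rw [← Category.assoc, this, Category.assoc]
    rw [h2, comp_zero])

lemma ext_eq_zero_of_isEmpty (G : PMod (O.over U)) {V : C} (hV : IsEmpty (V ⟶ U))
    (m : (extObj G).obj (op V)) : m = 0 := by
  induction m using ext_induction with
  | h0 => rfl
  | h1 φ x => exact (hV.false φ).elim
  | h2 a b ha hb => rw [ha, hb, add_zero]

lemma preSeq_exact {Q Q' : PMod O} (ψ : Q ⟶ Q')
    (hψ : ∀ X, Function.Injective (ψ.app X)) : (preSeq (U := U) ψ).Exact := by
  apply exact_of_evaluation
  intro X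
  rw [ShortComplex.moduleCat_exact_iff]
  intro t ht
  change ((ψ ≫ cokernel.π (counitApp (U := U) Q')).app X) t = 0 at ht
  by_cases hne : Nonempty (X.unop ⟶ U)
  · obtain ⟨φ⟩ := hne
    exact ⟨ι ((pushPre O U).obj Q) φ t, counitApp_app_ι Q φ t⟩
  · have hE : IsEmpty (X.unop ⟶ U) := not_nonempty_iff.1 hne
    have hex : ((ShortComplex.mk (counitApp (U := U) Q') (cokernel.π (counitApp (U := U) Q'))
        (cokernel.condition _)).map (PresheafOfModules.evaluation _ X)).Exact :=
      (ShortComplex.exact_of_g_is_cokernel _ (cokernelIsCokernel _)).map _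
    rw [ShortComplex.moduleCat_exact_iff] at hex
    obtain ⟨b, hb⟩ := hex (ψ.app X t) ht
    have hb0 : b = 0 := ext_eq_zero_of_isEmpty _ hE b
    rw [hb0, map_zero] at hb
    have : t = 0 := hψ X (hb.symm.trans (map_zero _).symm)
    exact ⟨0, by rw [this, map_zero]⟩

section abstract

variable {𝒜 : Type*} [Category 𝒜] [Abelian 𝒜]

lemma mono_cokernel_map_of_refine {XA A XB B : 𝒜} (cA : XA ⟶ A) (cB : XB ⟶ B) (x : XA ⟶ XB)
    (i : A ⟶ B) (comm : cA ≫ i = x ≫ cB)
    (href : ∀ {T : 𝒜} (t : T ⟶ A) (b : T ⟶ XB), t ≫ i = b ≫ cB →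
      ∃ (T' : 𝒜) (r : T' ⟶ T) (_ : Epi r) (y : T' ⟶ XA), r ≫ t = y ≫ cA) :
    Mono (cokernel.map cA cB x i comm) := by
  apply Preadditive.mono_of_cancel_zero
  intro T a ha
  obtain ⟨T₁, p, hp, a', h1⟩ := surjective_up_to_refinements_of_epi (cokernel.π cA) a
  have h2 : (a' ≫ i) ≫ cokernel.π cB = 0 := by
    have : cokernel.π cA ≫ cokernel.map cA cB x i comm = i ≫ cokernel.π cB :=
      cokernel.π_desc _ _ _
    rw [Category.assoc, ← this, ← Category.assoc, ← h1, Category.assoc, ha, comp_zero]
  obtain ⟨T₂, q, hq, b, h3⟩ :=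
    (ShortComplex.exact_of_g_is_cokernel (ShortComplex.mk cB (cokernel.π cB) (cokernel.condition cB))
      (cokernelIsCokernel cB)).exact_up_to_refinements (a' ≫ i) h2
  obtain ⟨T₃, r, hr, y, h4⟩ := href (q ≫ a') b (by rw [Category.assoc]; exact h3)
  have h5 : (r ≫ q ≫ p) ≫ a = 0 := by
    rw [Category.assoc, Category.assoc, h1, ← Category.assoc q, ← Category.assoc r, h4,
      Category.assoc, cokernel.condition, comp_zero]
  have : Epi (r ≫ q ≫ p) := epi_comp' hr (epi_comp' hq hp)
  exact (cancel_epi (r ≫ q ≫ p)).1 (h5.trans comp_zero.symm)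

end abstract

variable (O U)

instance shf_additive : (shf O).Additive :=
  have : PreservesFiniteColimits (shf O) :=
    inferInstanceAs (PreservesFiniteColimits
      (PresheafOfModules.sheafification (𝟙 (ringSh O).obj)))
  Groth.Agent.Lib.Helper42.Snake.additive_of_preservesFiniteColimits _

lemma shSeq_exact {A B : Mod O} (i : A ⟶ B) [Mono i] :
    ((preSeq (U := U) ((fgt O).map i)).map (shf O)).Exact := by
  have h3 : PreservesFiniteLimits (shf O) :=
    inferInstanceAs (PreservesFiniteLimits
      (PresheafOfModules.sheafification (𝟙 (ringSh O).obj)))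
  have h4 : PreservesFiniteColimits (shf O) :=
    inferInstanceAs (PreservesFiniteColimits
      (PresheafOfModules.sheafification (𝟙 (ringSh O).obj)))
  have h2 : PreservesFiniteLimits (fgt O) :=
    inferInstanceAs (PreservesFiniteLimits (SheafOfModules.forget (ringSh O)))
  have m1 : Mono ((fgt O).map i) := inferInstance
  exact (preSeq_exact ((fgt O).map i)
    (fun X => PresheafOfModules.injective_of_mono _ X)).map (shf O)

lemma cL_π (B : Mod O) :
    cL O U B ≫ (shf O).map (cokernel.π (counitApp (U := U) ((fgt O).obj B))) = 0 := by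
  have h : counitApp (U := U) ((fgt O).obj B) ≫
      cokernel.π (counitApp (U := U) ((fgt O).obj B)) = 0 := cokernel.condition _
  exact ((shf O).map_comp _ _).symm.trans
    ((congrArg (fun z => (shf O).map z) h).trans ((shf O).map_zero _ _))

theorem quotOn_map_mono {A B : Mod O} (i : A ⟶ B) [Mono i] : Mono ((quotOn O U).map i) := by
  have : (fgt O).Full := (SheafOfModules.fullyFaithfulForget (ringSh O)).full
  have : (fgt O).Faithful := (SheafOfModules.fullyFaithfulForget (ringSh O)).faithful
  have hA : IsIso ((adjS O).counit.app A) := inferInstance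
  have hB : IsIso ((adjS O).counit.app B) := inferInstance
  have hcomm : (extZeroAdj O U).counit.app A ≫ i =
      (restr O U ⋙ extZero O U).map i ≫ (extZeroAdj O U).counit.app B :=
    ((extZeroAdj O U).counit.naturality i).symm
  change Mono (cokernel.map ((extZeroAdj O U).counit.app A) ((extZeroAdj O U).counit.app B)
    ((restr O U ⋙ extZero O U).map i) i hcomm)
  refine mono_cokernel_map_of_refine _ _ _ _ hcomm ?_
  intro T t b htb
  have hnat : (shf O).map ((fgt O).map i) ≫ (adjS O).counit.app B =
      (adjS O).counit.app A ≫ i := (adjS O).counit.naturality i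
  have hnat' : inv ((adjS O).counit.app A) ≫ (shf O).map ((fgt O).map i) =
      i ≫ inv ((adjS O).counit.app B) := by
    rw [IsIso.inv_comp_eq, ← Category.assoc, ← hnat, Category.assoc, IsIso.hom_inv_id,
      Category.comp_id]
  have hcB : (extZeroAdj O U).counit.app B ≫ inv ((adjS O).counit.app B) =
      (extZeroIso O U).hom.app ((restr O U).obj B) ≫ cL O U B := by
    rw [counit_eq, adjL_counit, Category.assoc, Category.assoc, IsIso.hom_inv_id,
      Category.comp_id]
  have hz : (t ≫ inv ((adjS O).counit.app A)) ≫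
      ((shf O).map ((fgt O).map i) ≫
        (shf O).map (cokernel.π (counitApp (U := U) ((fgt O).obj B)))) = 0 := by
    rw [Category.assoc, ← Category.assoc (inv _), hnat', Category.assoc,
      ← Category.assoc t, htb, Category.assoc, ← Category.assoc ((extZeroAdj O U).counit.app B),
      hcB, Category.assoc, cL_π, comp_zero, comp_zero]
  have hz' : (t ≫ inv ((adjS O).counit.app A)) ≫
      ((preSeq (U := U) ((fgt O).map i)).map (shf O)).g = 0 := by
    refine Eq.trans ?_ hz
    exact congrArg (fun z => (t ≫ inv ((adjS O).counit.app A)) ≫ z)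
      ((shf O).map_comp _ _)
  obtain ⟨T', r, hr, y', hy⟩ := (shSeq_exact O U i).exact_up_to_refinements _ hz'
  let y'' : T' ⟶ (L O U).obj ((restr O U).obj A) := y'
  have hy' : r ≫ t ≫ inv ((adjS O).counit.app A) = y'' ≫ cL O U A := hy
  refine ⟨T', r, hr, y'' ≫ (extZeroIso O U).inv.app ((restr O U).obj A), ?_⟩
  rw [counit_eq, adjL_counit, Category.assoc, Iso.inv_hom_id_app_assoc, ← Category.assoc y'',
    ← hy', Category.assoc, Category.assoc, IsIso.inv_hom_id, Category.comp_id]

variable [HasPushOver O U]

lemma comp_unit_eq_zero_iff {A N : Mod O} (φ : A ⟶ N) :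
    φ ≫ (restrPushOverAdj O U).unit.app N = 0 ↔ (extZeroAdj O U).counit.app A ≫ φ = 0 := by
  rw [← ExtSupp.mem_homZ_iff]
  change _ ↔ (restr O U).map φ = 0
  have key : (restrPushOverAdj O U).homEquiv A ((restr O U).obj N) ((restr O U).map φ) =
      φ ≫ (restrPushOverAdj O U).unit.app N := by
    rw [Adjunction.homEquiv_unit]
    exact ((restrPushOverAdj O U).unit.naturality φ).symm
  have key0 : (restrPushOverAdj O U).homEquiv A ((restr O U).obj N) 0 = 0 := by
    rw [Adjunction.homEquiv_unit, Functor.map_zero, comp_zero]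
  constructor
  · intro h
    apply ((restrPushOverAdj O U).homEquiv _ _).injective
    rw [key, key0, h]
  · intro h
    rw [← key, h, key0]

instance sectOn_injective (Q : Mod O) [Injective Q] : Injective ((sectOn O U).obj Q) where
  factors {A B} g i _ := by
    let ι : (sectOn O U).obj Q ⟶ Q := kernel.ι ((restrPushOverAdj O U).unit.app Q)
    have hι : ι ≫ (restrPushOverAdj O U).unit.app Q = 0 := kernel.condition _
    have hmι : Mono ι := inferInstanceAs (Mono (kernel.ι ((restrPushOverAdj O U).unit.app Q)))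
    let πA : A ⟶ (quotOn O U).obj A := cokernel.π ((extZeroAdj O U).counit.app A)
    let πB : B ⟶ (quotOn O U).obj B := cokernel.π ((extZeroAdj O U).counit.app B)
    have hcB : (extZeroAdj O U).counit.app B ≫ πB = 0 := cokernel.condition _
    have h1 : (extZeroAdj O U).counit.app A ≫ (g ≫ ι) = 0 := by
      rw [← comp_unit_eq_zero_iff, Category.assoc, hι, comp_zero]
    let gbar : (quotOn O U).obj A ⟶ Q := cokernel.desc _ (g ≫ ι) h1
    have hg : πA ≫ gbar = g ≫ ι := cokernel.π_desc _ _ _
    have : Mono ((quotOn O U).map i) := quotOn_map_mono O U i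
    let hbar : (quotOn O U).obj B ⟶ Q := Injective.factorThru gbar ((quotOn O U).map i)
    have h2 : (quotOn O U).map i ≫ hbar = gbar := Injective.comp_factorThru _ _
    have h3 : (πB ≫ hbar) ≫ (restrPushOverAdj O U).unit.app Q = 0 := by
      rw [comp_unit_eq_zero_iff, ← Category.assoc, hcB, zero_comp]
    have hπ : πA ≫ (quotOn O U).map i = i ≫ πB := cokernel.π_desc _ _ _
    let h' : B ⟶ (sectOn O U).obj Q := kernel.lift _ (πB ≫ hbar) h3
    have h4 : h' ≫ ι = πB ≫ hbar := kernel.lift_ι _ _ _
    refine ⟨h', ?_⟩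
    rw [← cancel_mono ι, Category.assoc, h4, ← Category.assoc, ← hπ, Category.assoc, h2, hg]

instance sectOn_preservesInjectiveObjects : (sectOn O U).PreservesInjectiveObjects where
  injective_obj {Q} _ := sectOn_injective O U Q

end Groth.Agent.Lib.Helper42.QuotExact
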