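import Groth.Agent.Lib.Helper42.QuotExact

/-! The adjunction `F ↦ F/F_U ⊣ Γ_Z` on a ringed site; `Γ_Z` preserves limits. -/

set_option autoImplicit false

namespace Groth.Agent.Lib.Helper42.QuotSectAdj

universe u
open CategoryTheory Limits Opposite ModSite
open Groth.Agent.Lib.Helper42.QuotExact

variable {C : Type u} [SmallCategory C] {J : GrothendieckTopology C} (O : Sheaf J CommRingCat.{u})
  (U : C)

lemma counit_π (A : Mod O) : (extZeroAdj O U).counit.app A ≫ (quotOnπ O U).app A = 0 :=
  cokernel.condition _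

instance epi_π (A : Mod O) : Epi ((quotOnπ O U).app A) :=
  inferInstanceAs (Epi (cokernel.π ((extZeroAdj O U).counit.app A)))

/-- maps out of `A/A_U` -/
noncomputable def quotDesc {A N : Mod O} (φ : A ⟶ N)
    (h : (extZeroAdj O U).counit.app A ≫ φ = 0) : (quotOn O U).obj A ⟶ N :=
  cokernel.desc _ φ h

lemma π_quotDesc {A N : Mod O} (φ : A ⟶ N)
    (h : (extZeroAdj O U).counit.app A ≫ φ = 0) :
    (quotOnπ O U).app A ≫ quotDesc O U φ h = φ :=
  cokernel.π_desc _ _ _

variable [HasPushOver O U]

lemma ι_unit (N : Mod O) : (sectOnι O U).app N ≫ (restrPushOverAdj O U).unit.app N = 0 :=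
  kernel.condition _

instance mono_ι (N : Mod O) : Mono ((sectOnι O U).app N) :=
  inferInstanceAs (Mono (kernel.ι ((restrPushOverAdj O U).unit.app N)))

/-- maps into `Γ_Z N` -/
noncomputable def sectLift {A N : Mod O} (φ : A ⟶ N)
    (h : φ ≫ (restrPushOverAdj O U).unit.app N = 0) : A ⟶ (sectOn O U).obj N :=
  kernel.lift _ φ h

lemma sectLift_ι {A N : Mod O} (φ : A ⟶ N)
    (h : φ ≫ (restrPushOverAdj O U).unit.app N = 0) :
    sectLift O U φ h ≫ (sectOnι O U).app N = φ :=
  kernel.lift_ι _ _ _

/-- `Hom(A/A_U, N) ≃ Hom(A, Γ_Z N)` -/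
noncomputable def homEquiv (A N : Mod O) :
    ((quotOn O U).obj A ⟶ N) ≃ (A ⟶ (sectOn O U).obj N) where
  toFun f := sectLift O U ((quotOnπ O U).app A ≫ f) (by
    rw [comp_unit_eq_zero_iff, ← Category.assoc, counit_π, zero_comp])
  invFun h := quotDesc O U (h ≫ (sectOnι O U).app N) (by
    rw [← comp_unit_eq_zero_iff, Category.assoc, ι_unit, comp_zero])
  left_inv f := by
    rw [← cancel_epi ((quotOnπ O U).app A), π_quotDesc, sectLift_ι]
  right_inv h := by
    rw [← cancel_mono ((sectOnι O U).app N), sectLift_ι, π_quotDesc]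

/-- the adjunction `quotOn ⊣ sectOn` -/
noncomputable def adj : quotOn O U ⊣ sectOn O U :=
  Adjunction.mkOfHomEquiv
    { homEquiv := homEquiv O U
      homEquiv_naturality_left_symm := by
        intro A' A N φ h
        change quotDesc O U _ _ = (quotOn O U).map φ ≫ quotDesc O U _ _
        rw [← cancel_epi ((quotOnπ O U).app A'), π_quotDesc]
        have := (quotOnπ O U).naturality φ
        rw [Functor.id_map] at this
        rw [← Category.assoc, ← this, Category.assoc φ, Category.assoc φ, π_quotDesc]
      homEquiv_naturality_right := by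
        intro A N N' f ψ
        change sectLift O U _ _ = sectLift O U _ _ ≫ (sectOn O U).map ψ
        rw [← cancel_mono ((sectOnι O U).app N'), sectLift_ι, Category.assoc]
        have := (sectOnι O U).naturality ψ
        rw [Functor.id_map] at this
        rw [this, ← Category.assoc (f := sectLift O U _ _), sectLift_ι, Category.assoc] }

instance : (sectOn O U).IsRightAdjoint := (adj O U).isRightAdjoint

instance : (quotOn O U).IsLeftAdjoint := (adj O U).isLeftAdjoint

instance sectOn_preservesFiniteLimits : PreservesFiniteLimits (sectOn O U) := inferInstance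

end Groth.Agent.Lib.Helper42.QuotSectAdj
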