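import Groth.Agent.Lib.Helper42.LocRestr
import Groth.Agent.Lib.Helper42.ProjPre
import Groth.Agent.Lib.Helper42.Flat2
import Groth.Agent.Lib.Helper42.TensorLoc

/-! `F ↦ F/F_U` commutes with tensor products; `Γ_Z ℋom(M, -) ≅ ℋom(M, Γ_Z -) ≅ ℋom(M/M_U, -)`. -/

set_option autoImplicit false

namespace Groth.Agent.Lib.Helper42.QuotTensor

universe u
open CategoryTheory MonoidalCategory Limits Opposite ModSite TensorProduct
open Groth.Agent.Lib.Helper42.TensorSheaf Groth.Agent.Lib.Helper42.RestrTensor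
open Groth.Agent.Lib.Helper42.ExtPre Groth.Agent.Lib.Helper42.ExtZero
open Groth.Agent.Lib.Helper42.QuotExact Groth.Agent.Lib.Helper42.QuotSectAdj
open Groth.Agent.Lib.Helper42.LocRestr Groth.Agent.Lib.Helper42.TensorColim
open Groth.Agent.Lib.Helper42.Flat Groth.Agent.Lib.Helper42.Flat2

section abstract

variable {𝒜 : Type*} [Category 𝒜] [HasZeroMorphisms 𝒜]

/-- cokernels of two maps with the same vanishing test are isomorphic -/
noncomputable def cokernelIsoOfIff {B S₁ S₂ : 𝒜} (f₁ : S₁ ⟶ B) (f₂ : S₂ ⟶ B) [HasCokernel f₁]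
    [HasCokernel f₂] (h : ∀ {K : 𝒜} (g : B ⟶ K), f₁ ≫ g = 0 ↔ f₂ ≫ g = 0) :
    cokernel f₁ ≅ cokernel f₂ where
  hom := cokernel.desc f₁ (cokernel.π f₂) ((h _).2 (cokernel.condition f₂))
  inv := cokernel.desc f₂ (cokernel.π f₁) ((h _).1 (cokernel.condition f₁))
  hom_inv_id := by
    apply coequalizer.hom_ext
    simp
  inv_hom_id := by
    apply coequalizer.hom_ext
    simp

@[reassoc (attr := simp)]
lemma π_cokernelIsoOfIff_hom {B S₁ S₂ : 𝒜} (f₁ : S₁ ⟶ B) (f₂ : S₂ ⟶ B) [HasCokernel f₁]
    [HasCokernel f₂] (h : ∀ {K : 𝒜} (g : B ⟶ K), f₁ ≫ g = 0 ↔ f₂ ≫ g = 0) :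
    cokernel.π f₁ ≫ (cokernelIsoOfIff f₁ f₂ h).hom = cokernel.π f₂ :=
  cokernel.π_desc _ _ _

end abstract

variable {C : Type u} [SmallCategory C] {J : GrothendieckTopology C} {O : Sheaf J CommRingCat.{u}}

section presheaf

variable (U : C) {P Q R : PMod O}

/-- vanishing on pure tensors over objects mapping to `U` -/
def Vanishes (g : P ⊗ Q ⟶ R) : Prop :=
  ∀ (V : C) (_ : V ⟶ U) (p : P.obj (op V)) (q : Q.obj (op V)),
    g.app (op V) (p ⊗ₜ[O.obj.obj (op V)] q) = 0

lemma whiskerLeft_app_tmul {Q' : PMod O} (ψ : Q ⟶ Q') {X : Cᵒᵖ} (p : P.obj X) (q : Q.obj X) :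
    (P ◁ ψ).app X (p ⊗ₜ[O.obj.obj X] q) = p ⊗ₜ[O.obj.obj X] (ψ.app X q) := rfl

lemma whiskerRight_app_tmul' {P' : PMod O} (ψ : P ⟶ P') {X : Cᵒᵖ} (p : P.obj X) (q : Q.obj X) :
    (ψ ▷ Q).app X (p ⊗ₜ[O.obj.obj X] q) = (ψ.app X p) ⊗ₜ[O.obj.obj X] q := rfl

lemma hom_eq_zero_of_tmul {P' Q' : PMod O} (g : P' ⊗ Q' ⟶ R)
    (h : ∀ (X : Cᵒᵖ) (p : P'.obj X) (q : Q'.obj X), g.app X (p ⊗ₜ[O.obj.obj X] q) = 0) :
    g = 0 := by
  apply PresheafOfModules.hom_ext
  intro X
  apply ModuleCat.hom_ext
  apply LinearMap.ext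
  intro z
  exact Groth.Agent.Lib.Helper42.ProjPre.tensor_fun_ext
    (M := P'.obj X) (N := Q'.obj X) (R := O.obj.obj X)
    (fun z => g.app X z) (fun _ => 0) (map_zero (g.app X).hom) rfl
    (fun a b => map_add (g.app X).hom a b) (fun _ _ => (add_zero 0).symm)
    (fun p q => h X p q) z

lemma counit_whiskerRight_comp_eq_zero_iff (g : P ⊗ Q ⟶ R) :
    (counitApp (U := U) P ▷ Q) ≫ g = 0 ↔ Vanishes U g := by
  constructor
  · intro h V φ p q
    have h1 := congrArg (fun ψ => ψ.app (op V) ((ι ((pushPre O U).obj P) φ p) ⊗ₜ[O.obj.obj (op V)] q)) h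
    change g.app (op V) ((counitApp (U := U) P ▷ Q).app (op V) _) = 0 at h1
    rw [whiskerRight_app_tmul', counitApp_app_ι] at h1
    exact h1
  · intro h
    apply hom_eq_zero_of_tmul
    intro X e q
    obtain ⟨V⟩ := X
    let L : (extObj ((pushPre O U).obj P)).obj (op V) →ₗ[O.obj.obj (op V)] R.obj (op V) :=
      (g.app (op V)).hom ∘ₗ (TensorProduct.mk (O.obj.obj (op V)) (P.obj (op V))
        (Q.obj (op V))).flip q ∘ₗ ((counitApp (U := U) P).app (op V)).hom
    change L e = 0
    induction e using ext_induction with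
    | h0 => exact map_zero L
    | h1 φ x =>
      change g.app (op V) (((counitApp (U := U) P).app (op V) (ι _ φ x)) ⊗ₜ[O.obj.obj (op V)] q) = 0
      rw [counitApp_app_ι]
      exact h V φ x q
    | h2 a b ha hb => rw [map_add, ha, hb, add_zero]

lemma counit_whiskerLeft_comp_eq_zero_iff (g : P ⊗ Q ⟶ R) :
    (P ◁ counitApp (U := U) Q) ≫ g = 0 ↔ Vanishes U g := by
  constructor
  · intro h V φ p q
    have h1 := congrArg (fun ψ => ψ.app (op V) (p ⊗ₜ[O.obj.obj (op V)] (ι ((pushPre O U).obj Q) φ q))) h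
    change g.app (op V) ((P ◁ counitApp (U := U) Q).app (op V) _) = 0 at h1
    rw [whiskerLeft_app_tmul, counitApp_app_ι] at h1
    exact h1
  · intro h
    apply hom_eq_zero_of_tmul
    intro X p e
    obtain ⟨V⟩ := X
    let L : (extObj ((pushPre O U).obj Q)).obj (op V) →ₗ[O.obj.obj (op V)] R.obj (op V) :=
      (g.app (op V)).hom ∘ₗ (TensorProduct.mk (O.obj.obj (op V)) (P.obj (op V))
        (Q.obj (op V))) p ∘ₗ ((counitApp (U := U) Q).app (op V)).hom
    change L e = 0
    induction e using ext_induction with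
    | h0 => exact map_zero L
    | h1 φ x =>
      change g.app (op V) (p ⊗ₜ[O.obj.obj (op V)] ((counitApp (U := U) Q).app (op V) (ι _ φ x))) = 0
      rw [counitApp_app_ι]
      exact h V φ p x
    | h2 a b ha hb => rw [map_add, ha, hb, add_zero]

lemma pushPre_map_eq_zero_iff (g : P ⊗ Q ⟶ R) :
    (pushPre O U).map g = 0 ↔ Vanishes U g := by
  constructor
  · intro h V φ p q
    have h1 : ((pushPre O U).map g).app (op (Over.mk φ)) = 0 := by
      rw [h]
      rfl
    have h2 : g.app (op V) = 0 := h1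
    rw [h2]
    rfl
  · intro h
    apply PresheafOfModules.hom_ext
    intro W
    apply ModuleCat.hom_ext
    apply LinearMap.ext
    intro z
    exact Groth.Agent.Lib.Helper42.ProjPre.tensor_fun_ext
      (M := P.obj (op W.unop.left)) (N := Q.obj (op W.unop.left))
      (R := O.obj.obj (op W.unop.left))
      (fun z => g.app (op W.unop.left) z) (fun _ => 0)
      (map_zero (g.app (op W.unop.left)).hom) rfl
      (fun a b => map_add (g.app (op W.unop.left)).hom a b) (fun _ _ => (add_zero 0).symm)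
      (fun p q => h W.unop.left W.unop.hom p q) z

end presheaf

section sheaf

variable (U : C) (A M : Mod O) {N : Mod O}

/-- `A ⊗ M` -/
noncomputable abbrev tens : Mod O := ((tensorBi O).obj A).obj M

/-- the presheaf-level map attached to a map out of `A ⊗ M` -/
noncomputable def pre (f : tens A M ⟶ N) : (fgt O).obj A ⊗ (fgt O).obj M ⟶ (fgt O).obj N :=
  (adjS O).unit.app ((fgt O).obj A ⊗ (fgt O).obj M) ≫ (fgt O).map f

variable {A M}

omit U in
lemma adjS_homEquiv_zero (X : PMod O) (N : Mod O) : (adjS O).homEquiv X N 0 = 0 := by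
  rw [Adjunction.homEquiv_unit]
  have : (fgt O).map (0 : (shf O).obj X ⟶ N) = 0 := rfl
  rw [this, comp_zero]

lemma shf_map_comp_eq_zero_iff {X : PMod O} (ξ : X ⟶ (fgt O).obj A ⊗ (fgt O).obj M)
    (f : tens A M ⟶ N) : (shf O).map ξ ≫ f = 0 ↔ ξ ≫ pre A M f = 0 := by
  have key : (adjS O).homEquiv _ _ ((shf O).map ξ ≫ f) = ξ ≫ pre A M f := by
    rw [Adjunction.homEquiv_unit, Functor.map_comp, ← Category.assoc]
    have hn := (adjS O).unit.naturality ξ
    rw [Functor.id_map, Functor.comp_map] at hn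
    rw [← hn, Category.assoc]
    rfl
  constructor
  · intro h
    rw [← key, h, adjS_homEquiv_zero]
  · intro h
    apply ((adjS O).homEquiv _ _).injective
    rw [key, h, adjS_homEquiv_zero]

/-- the counit of `adjL`, typed out of the sheafification of the presheaf extension -/
noncomputable def cA (B : Mod O) :
    (shf O).obj (extObj ((pushPre O U).obj ((fgt O).obj B))) ⟶ B :=
  (adjL O U).counit.app B

lemma unit_comp_fgt_cA (B : Mod O) :
    (adjS O).unit.app (extObj ((pushPre O U).obj ((fgt O).obj B))) ≫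
      (fgt O).map (cA U B) = counitApp (U := U) ((fgt O).obj B) := by
  have h1 : (fgt O).map (cA U B) =
      (fgt O).map ((shf O).map (counitApp (U := U) ((fgt O).obj B))) ≫
        (fgt O).map ((adjS O).counit.app B) := by
    unfold cA
    rw [adjL_counit]
    exact (fgt O).map_comp _ _
  have hn := (adjS O).unit.naturality (counitApp (U := U) ((fgt O).obj B))
  rw [Functor.id_map, Functor.comp_map] at hn
  rw [h1, ← Category.assoc, ← hn, Category.assoc, (adjS O).right_triangle_components]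
  exact Category.comp_id _

/-- the comparison `j_! j^* B ≅ L j^* B`, with its target typed as a sheafification -/
noncomputable def eA (B : Mod O) :
    (extZero O U).obj ((restr O U).obj B) ⟶
      (shf O).obj (extObj ((pushPre O U).obj ((fgt O).obj B))) :=
  (extZeroIso O U).hom.app ((restr O U).obj B)

instance (B : Mod O) : IsIso (eA U B) :=
  inferInstanceAs (IsIso (((extZeroIso O U).app ((restr O U).obj B)).hom))

lemma counit_eq_cA (B : Mod O) :
    (extZeroAdj O U).counit.app B = eA U B ≫ cA U B :=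
  counit_eq O U B

omit U in
lemma iso_comp_eq_zero_iff {𝒜 : Type*} [Category 𝒜] [HasZeroMorphisms 𝒜] {X Y Z : 𝒜} (e : X ⟶ Y)
    [IsIso e] (g : Y ⟶ Z) : e ≫ g = 0 ↔ g = 0 := by
  constructor
  · intro h
    rw [← cancel_epi e, h, comp_zero]
  · intro h
    rw [h, comp_zero]

/-- the zero test for `c_T` -/
lemma counit_comp_eq_zero_iff (f : tens A M ⟶ N) :
    (extZeroAdj O U).counit.app (tens A M) ≫ f = 0 ↔ Vanishes U (pre A M f) := by
  rw [← ExtSupp.mem_homZ_iff, ← pushPre_map_eq_zero_iff]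
  change (restr O U).map f = 0 ↔ _
  have h1 : (pushPre O U).map (pre A M f) =
      (pushPre O U).map ((adjS O).unit.app ((fgt O).obj A ⊗ (fgt O).obj M)) ≫
        (fgt (O.over U)).map ((restr O U).map f) := (pushPre O U).map_comp _ _
  constructor
  · intro h
    rw [h1, h]
    exact comp_zero
  · intro h
    rw [h1] at h
    have h3 := eq_zero_of_W_comp _ (pushPre_W O U _ (W_unit _)) _ h
    apply SheafOfModules.hom_ext
    exact h3

/-- the zero test for `c_A ⊗ M` -/
lemma tensR_counit_comp_eq_zero_iff (f : (tensR O M).obj A ⟶ N) :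
    (tensR O M).map ((extZeroAdj O U).counit.app A) ≫ f = 0 ↔
      Vanishes U (pre A M (f : tens A M ⟶ N)) := by
  rw [counit_eq_cA, Functor.map_comp, Category.assoc, iso_comp_eq_zero_iff]
  let E : PMod O := extObj ((pushPre O U).obj ((fgt O).obj A))
  let ξ : (fgt O).obj ((shf O).obj E) ⊗ (fgt O).obj M ⟶ (fgt O).obj A ⊗ (fgt O).obj M :=
    (fgt O).map (cA U A) ▷ (fgt O).obj M
  have hc : counitApp (U := U) ((fgt O).obj A) ▷ (fgt O).obj M =
      ((adjS O).unit.app E ▷ (fgt O).obj M) ≫ ξ := by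
    rw [← comp_whiskerRight, unit_comp_fgt_cA]
  change (shf O).map ξ ≫ (f : tens A M ⟶ N) = 0 ↔ _
  rw [shf_map_comp_eq_zero_iff ξ, ← counit_whiskerRight_comp_eq_zero_iff, hc, Category.assoc]
  constructor
  · intro h
    rw [h, comp_zero]
  · intro h
    exact eq_zero_of_W_comp _ (W_whiskerRight _ (W_unit E) _) _ h

/-- the zero test for `A ⊗ c_M` -/
lemma tensL_counit_comp_eq_zero_iff (f : (tensL O A).obj M ⟶ N) :
    (tensL O A).map ((extZeroAdj O U).counit.app M) ≫ f = 0 ↔
      Vanishes U (pre A M (f : tens A M ⟶ N)) := by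
  rw [counit_eq_cA, Functor.map_comp, Category.assoc, iso_comp_eq_zero_iff]
  let E : PMod O := extObj ((pushPre O U).obj ((fgt O).obj M))
  let ξ : (fgt O).obj A ⊗ (fgt O).obj ((shf O).obj E) ⟶ (fgt O).obj A ⊗ (fgt O).obj M :=
    (fgt O).obj A ◁ (fgt O).map (cA U M)
  have hc : (fgt O).obj A ◁ counitApp (U := U) ((fgt O).obj M) =
      ((fgt O).obj A ◁ (adjS O).unit.app E) ≫ ξ := by
    rw [← MonoidalCategory.whiskerLeft_comp, unit_comp_fgt_cA]
  change (shf O).map ξ ≫ (f : tens A M ⟶ N) = 0 ↔ _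
  rw [shf_map_comp_eq_zero_iff ξ, ← counit_whiskerLeft_comp_eq_zero_iff, hc, Category.assoc]
  constructor
  · intro h
    rw [h, comp_zero]
  · intro h
    exact eq_zero_of_W_comp _ (W_whiskerLeft _ (W_unit E) _) _ h

end sheaf

section isos

variable (U : C) (M : Mod O)

/-- `(A/A_U) ⊗ M ≅ (A ⊗ M)/(A ⊗ M)_U` -/
noncomputable def αIso (A : Mod O) :
    (tensR O M).obj ((quotOn O U).obj A) ≅ (quotOn O U).obj ((tensR O M).obj A) :=
  PreservesCokernel.iso (tensR O M) ((extZeroAdj O U).counit.app A) ≪≫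
    cokernelIsoOfIff ((tensR O M).map ((extZeroAdj O U).counit.app A))
      ((extZeroAdj O U).counit.app ((tensR O M).obj A))
      (fun g => (tensR_counit_comp_eq_zero_iff U g).trans (counit_comp_eq_zero_iff U g).symm)

lemma π_αIso_hom (A : Mod O) :
    (tensR O M).map ((quotOnπ O U).app A) ≫ (αIso U M A).hom =
      (quotOnπ O U).app ((tensR O M).obj A) := by
  have h1 : (tensR O M).map ((quotOnπ O U).app A) ≫
      (PreservesCokernel.iso (tensR O M) ((extZeroAdj O U).counit.app A)).hom =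
      cokernel.π ((tensR O M).map ((extZeroAdj O U).counit.app A)) :=
    PreservesCokernel.π_iso_hom _ _
  have h2 : cokernel.π ((tensR O M).map ((extZeroAdj O U).counit.app A)) ≫
      (cokernelIsoOfIff ((tensR O M).map ((extZeroAdj O U).counit.app A))
      ((extZeroAdj O U).counit.app ((tensR O M).obj A))
      (fun g => (tensR_counit_comp_eq_zero_iff U g).trans
        (counit_comp_eq_zero_iff U g).symm)).hom =
      (quotOnπ O U).app ((tensR O M).obj A) := π_cokernelIsoOfIff_hom _ _ _
  exact (Category.assoc _ _ _).symm.trans ((congrArg (fun t => t ≫ _) h1).trans h2)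

/-- `(A/A_U) ⊗ M ≅ A ⊗ (M/M_U)` -/
noncomputable def βIso (A : Mod O) :
    (tensR O M).obj ((quotOn O U).obj A) ≅ (tensR O ((quotOn O U).obj M)).obj A :=
  PreservesCokernel.iso (tensR O M) ((extZeroAdj O U).counit.app A) ≪≫
    cokernelIsoOfIff ((tensR O M).map ((extZeroAdj O U).counit.app A))
      ((tensL O A).map ((extZeroAdj O U).counit.app M))
      (fun g => (tensR_counit_comp_eq_zero_iff U g).trans
        (tensL_counit_comp_eq_zero_iff U g).symm) ≪≫
    (PreservesCokernel.iso (tensL O A) ((extZeroAdj O U).counit.app M)).symm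

lemma π_βIso_hom (A : Mod O) :
    (tensR O M).map ((quotOnπ O U).app A) ≫ (βIso U M A).hom =
      (tensL O A).map ((quotOnπ O U).app M) := by
  have h1 : (tensR O M).map ((quotOnπ O U).app A) ≫
      (PreservesCokernel.iso (tensR O M) ((extZeroAdj O U).counit.app A)).hom =
      cokernel.π ((tensR O M).map ((extZeroAdj O U).counit.app A)) :=
    PreservesCokernel.π_iso_hom _ _
  have h2 : cokernel.π ((tensR O M).map ((extZeroAdj O U).counit.app A)) ≫
      (cokernelIsoOfIff ((tensR O M).map ((extZeroAdj O U).counit.app A))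
      ((tensL O A).map ((extZeroAdj O U).counit.app M))
      (fun g => (tensR_counit_comp_eq_zero_iff U g).trans
        (tensL_counit_comp_eq_zero_iff U g).symm)).hom =
      cokernel.π ((tensL O A).map ((extZeroAdj O U).counit.app M)) :=
    π_cokernelIsoOfIff_hom _ _ _
  have h3 : cokernel.π ((tensL O A).map ((extZeroAdj O U).counit.app M)) ≫
      (PreservesCokernel.iso (tensL O A) ((extZeroAdj O U).counit.app M)).inv =
      (tensL O A).map ((quotOnπ O U).app M) :=
    (Iso.comp_inv_eq _).2 (PreservesCokernel.π_iso_hom _ _).symm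
  have e1 := (congrArg (fun t => t ≫ (cokernelIsoOfIff
      ((tensR O M).map ((extZeroAdj O U).counit.app A))
      ((tensL O A).map ((extZeroAdj O U).counit.app M))
      (fun g => (tensR_counit_comp_eq_zero_iff U g).trans
        (tensL_counit_comp_eq_zero_iff U g).symm)).hom) h1).trans h2
  have e2 := (congrArg (fun t => t ≫
      (PreservesCokernel.iso (tensL O A) ((extZeroAdj O U).counit.app M)).inv) e1).trans h3
  refine Eq.trans ?_ e2
  unfold βIso
  rw [Iso.trans_hom, Iso.trans_hom, Iso.symm_hom]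
  simp only [Category.assoc]
  exact ((Category.assoc _ _ _).trans
    (congrArg (fun t => (tensR O M).map ((quotOnπ O U).app A) ≫ t) (Category.assoc _ _ _))).symm

instance epi_tensR_π (A : Mod O) : Epi ((tensR O M).map ((quotOnπ O U).app A)) :=
  inferInstance

lemma tensR_map_π_naturality {A A' : Mod O} (a : A ⟶ A') :
    (tensR O M).map ((quotOnπ O U).app A) ≫ (tensR O M).map ((quotOn O U).map a) =
      (tensR O M).map a ≫ (tensR O M).map ((quotOnπ O U).app A') := by
  rw [← Functor.map_comp, ← Functor.map_comp]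
  congr 1
  have := (quotOnπ O U).naturality a
  rw [Functor.id_map] at this
  exact this.symm

/-- the quotient by the part over `U` commutes with `- ⊗ M` -/
noncomputable def αNat : quotOn O U ⋙ tensR O M ≅ tensR O M ⋙ quotOn O U :=
  NatIso.ofComponents (fun A => αIso U M A) (by
    intro A A' a
    rw [← cancel_epi ((tensR O M).map ((quotOnπ O U).app A))]
    have hn := (quotOnπ O U).naturality ((tensR O M).map a)
    rw [Functor.id_map] at hn
    change (tensR O M).map ((quotOnπ O U).app A) ≫ (tensR O M).map ((quotOn O U).map a) ≫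
        (αIso U M A').hom =
      (tensR O M).map ((quotOnπ O U).app A) ≫ (αIso U M A).hom ≫
        (quotOn O U).map ((tensR O M).map a)
    rw [← Category.assoc, tensR_map_π_naturality, Category.assoc, π_αIso_hom, ← Category.assoc,
      π_αIso_hom, hn])

/-- the quotient by the part over `U` can be moved to the second tensor factor -/
noncomputable def βNat : quotOn O U ⋙ tensR O M ≅ tensR O ((quotOn O U).obj M) :=
  NatIso.ofComponents (fun A => βIso U M A) (by
    intro A A' a
    rw [← cancel_epi ((tensR O M).map ((quotOnπ O U).app A))]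
    have hn : (tensL O A).map ((quotOnπ O U).app M) ≫
        (tensR O ((quotOn O U).obj M)).map a =
        (tensR O M).map a ≫ (tensL O A').map ((quotOnπ O U).app M) :=
      ((tensorBi O).map a).naturality ((quotOnπ O U).app M)
    change (tensR O M).map ((quotOnπ O U).app A) ≫ (tensR O M).map ((quotOn O U).map a) ≫
        (βIso U M A').hom =
      (tensR O M).map ((quotOnπ O U).app A) ≫ (βIso U M A).hom ≫
        (tensR O ((quotOn O U).obj M)).map a
    rw [← Category.assoc, tensR_map_π_naturality, Category.assoc, π_βIso_hom, ← Category.assoc,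
      π_βIso_hom]
    exact hn.symm)

variable [HasPushOver O U] [HasSheafHom M]

/-- `Γ_Z ℋom(M, -) ≅ ℋom(M, Γ_Z -)` -/
noncomputable def sectHomIso : sheafHom M ⋙ sectOn O U ≅ sectOn O U ⋙ sheafHom M :=
  (((QuotSectAdj.adj O U).comp (sheafHomAdj M)).ofNatIsoLeft (αNat U M)).rightAdjointUniq
    ((sheafHomAdj M).comp (QuotSectAdj.adj O U))

/-- `Γ_Z ℋom(M, -) ≅ ℋom(M/M_U, -)` -/
noncomputable def sectHomQuotIso [HasSheafHom ((quotOn O U).obj M)] :
    sheafHom M ⋙ sectOn O U ≅ sheafHom ((quotOn O U).obj M) :=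
  (((QuotSectAdj.adj O U).comp (sheafHomAdj M)).ofNatIsoLeft (βNat U M)).rightAdjointUniq
    (sheafHomAdj ((quotOn O U).obj M))

end isos

end Groth.Agent.Lib.Helper42.QuotTensor
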