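import Groth.Agent.Lib.Helper42.LocRestr
import Groth.Agent.Lib.Helper68.SuppFlasque
import Groth.Agent.Lib.Helper40.BMod

/-! Local cohomology sheaves on a ringed site commute with restriction of scalars. -/

set_option autoImplicit false

namespace Groth.Agent.Lib.Helper42.ResScal

universe u
open CategoryTheory Limits Opposite ModSite
open Groth.Agent.Lib.Helper42.TensorSheaf Groth.Agent.Lib.Helper42.RestrTensor
open Groth.Agent.Lib.Helper42.QuotExact Groth.Agent.Lib.Helper42.QuotSectAdj
open Groth.Agent.Lib.Helper42.DeltaFun Groth.Agent.Lib.Helper42.DeltaRDer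
open Groth.Agent.Lib.Helper42.LocRestr
open Groth.Agent.Lib.Helper68.FreeModR (OL UL adjOL adjR shfR el)
open Groth.Agent.Lib.Helper68.SuppFlasque (prodU fstU adjunct_app adjunct_zero_app
  comp_unit_eq_zero_iff_fst)

variable {C : Type u} [SmallCategory C] {J : GrothendieckTopology C}

section unit

variable (O : Sheaf J CommRingCat.{u}) (F : Mod O)

/-- the map out of the free module on `h_V` attached to a section over `V` -/
noncomputable def hat (V : C) (y : F.val.obj (op V)) : (OL (ringSh O)).obj (yoneda.obj V) ⟶ F :=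
  ((adjOL (ringSh O)).homEquiv (yoneda.obj V) F).symm (yonedaEquiv.symm y)

lemma homEquiv_hat (V : C) (y : F.val.obj (op V)) :
    (adjOL (ringSh O)).homEquiv (yoneda.obj V) F (hat O F V y) = yonedaEquiv.symm y :=
  Equiv.apply_symm_apply _ _

/-- the canonical generator of the free module on `h_V` -/
noncomputable def gen (V : C) : ((OL (ringSh O)).obj (yoneda.obj V)).val.obj (op V) :=
  el (ringSh O) _ (((adjOL (ringSh O)).unit.app (yoneda.obj V)).app (op V) (𝟙 V))

lemma homEquiv_app_id (V : C) (g : (OL (ringSh O)).obj (yoneda.obj V) ⟶ F) :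
    el (ringSh O) F (((adjOL (ringSh O)).homEquiv (yoneda.obj V) F g).app (op V) (𝟙 V)) =
      (g.val.app (op V)).hom (gen O V) :=
  adjunct_app (yoneda.obj V) F g (op V) (𝟙 V)

lemma hat_gen (V : C) (y : F.val.obj (op V)) :
    ((hat O F V y).val.app (op V)).hom (gen O V) = y := by
  rw [← homEquiv_app_id, homEquiv_hat]
  have h := (yonedaEquiv (F := (UL (ringSh O)).obj F) (X := V)).apply_symm_apply y
  rw [yonedaEquiv_apply] at h
  exact h

lemma eq_zero_of_gen (V : C) (g : (OL (ringSh O)).obj (yoneda.obj V) ⟶ F)
    (h : (g.val.app (op V)).hom (gen O V) = 0) : g = 0 := by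
  apply ((adjOL (ringSh O)).homEquiv (yoneda.obj V) F).injective
  apply yonedaEquiv.injective
  rw [yonedaEquiv_apply, yonedaEquiv_apply]
  have h1 := homEquiv_app_id O F V g
  have h2 := adjunct_zero_app (yoneda.obj V) F (op V) (𝟙 V)
  rw [h] at h1
  exact h1.trans h2.symm

variable (U : C) [HasPushOver O U]

/-- elementwise description of the kernel of the unit `F ⟶ j_* j^* F` -/
lemma unit_app_eq_zero_iff (V : C) (y : F.val.obj (op V)) :
    (((restrPushOverAdj O U).unit.app F).val.app (op V)).hom y = 0 ↔
      ∀ (W : C) (l : W ⟶ V) (_ : W ⟶ U), (F.val.map l.op).hom y = 0 := by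
  have h1 : (((restrPushOverAdj O U).unit.app F).val.app (op V)).hom y = 0 ↔
      hat O F V y ≫ (restrPushOverAdj O U).unit.app F = 0 := by
    constructor
    · intro h
      apply eq_zero_of_gen
      change (((restrPushOverAdj O U).unit.app F).val.app (op V)).hom
        (((hat O F V y).val.app (op V)).hom (gen O V)) = 0
      rw [hat_gen]
      exact h
    · intro h
      have h' := congrArg (fun t => (t.val.app (op V)).hom (gen O V)) h
      change (((restrPushOverAdj O U).unit.app F).val.app (op V)).hom
        (((hat O F V y).val.app (op V)).hom (gen O V)) = 0 at h'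
      rwa [hat_gen] at h'
  rw [h1, comp_unit_eq_zero_iff_fst]
  constructor
  · intro h W l b
    have h2 := congrArg (fun t => el (ringSh O) F
      (((adjOL (ringSh O)).homEquiv _ F t).app (op W) (l, b))) h
    simp only at h2
    rw [Adjunction.homEquiv_naturality_left, homEquiv_hat] at h2
    have h3 := adjunct_zero_app (prodU U (yoneda.obj V)) F (op W) (l, b)
    rw [h3] at h2
    refine Eq.trans ?_ h2
    rfl
  · intro h
    apply ((adjOL (ringSh O)).homEquiv _ F).injective
    rw [Adjunction.homEquiv_naturality_left, homEquiv_hat]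
    ext W ⟨l, b⟩
    have h3 := adjunct_zero_app (prodU U (yoneda.obj V)) F W (l, b)
    refine Eq.trans ?_ h3.symm
    exact h W.unop l b

end unit

section res

variable {O O' : Sheaf J CommRingCat.{u}} (φ : O ⟶ O') (U : C)

/-- restriction of scalars along `φ` -/
noncomputable abbrev res : Mod O' ⥤ Mod O :=
  SheafOfModules.restrictScalars ((sheafCompose J (forget₂ CommRingCat.{u} RingCat.{u})).map φ)

variable [HasPushOver O U] [HasPushOver O' U]

lemma comp_res_unit_eq_zero_iff {K : Mod O} {M : Mod O'} (g : K ⟶ (res φ).obj M) :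
    g ≫ (res φ).map ((restrPushOverAdj O' U).unit.app M) = 0 ↔
      g ≫ (restrPushOverAdj O U).unit.app ((res φ).obj M) = 0 := by
  rw [comp_unit_eq_zero_iff_restr, restr_map_eq_zero_iff]
  constructor
  · intro h W
    apply ModuleCat.hom_ext
    apply LinearMap.ext
    intro x
    have h1 := congrArg (fun t => (t.val.app (op W.left)).hom x) h
    have h2 : (((restrPushOverAdj O' U).unit.app M).val.app (op W.left)).hom
        ((g.val.app (op W.left)).hom x) = 0 := h1
    rw [unit_app_eq_zero_iff] at h2
    have h3 := h2 W.left (𝟙 _) W.hom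
    have h4 := congrArg (fun t => (ConcreteCategory.hom t) ((g.val.app (op W.left)).hom x))
      (M.val.presheaf.map_id (op W.left))
    exact h4.symm.trans h3
  · intro h
    apply SheafOfModules.hom_ext
    apply PresheafOfModules.hom_ext
    intro V
    apply ModuleCat.hom_ext
    apply LinearMap.ext
    intro x
    change (((restrPushOverAdj O' U).unit.app M).val.app V).hom ((g.val.app V).hom x) = 0
    obtain ⟨V⟩ := V
    rw [unit_app_eq_zero_iff]
    intro W l b
    have h1 := h (Over.mk b)
    have h2 := PresheafOfModules.naturality_apply g.val l.op x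
    refine h2.symm.trans ?_
    have h3 := congrArg (fun t => t.hom ((K.val.map l.op).hom x)) h1
    exact h3

instance : PreservesFiniteLimits (res φ) :=
  PreservesLimitsOfSize.preservesFiniteLimits.{u, u} _

instance : PreservesFiniteColimits (res φ) :=
  PreservesColimitsOfSize.preservesFiniteColimits.{u, u} _

/-- `Γ_Z(M)` viewed as an `O`-module is `Γ_Z` of `M` viewed as an `O`-module -/
noncomputable def sectIso (M : Mod O') :
    (res φ).obj ((sectOn O' U).obj M) ≅ (sectOn O U).obj ((res φ).obj M) :=
  PreservesKernel.iso (res φ) ((restrPushOverAdj O' U).unit.app M) ≪≫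
    kernelIsoOfIff _ _ (fun g => comp_res_unit_eq_zero_iff φ U g)

lemma sectIso_hom_ι (M : Mod O') :
    (sectIso φ U M).hom ≫ (sectOnι O U).app ((res φ).obj M) =
      (res φ).map ((sectOnι O' U).app M) := by
  have h1 : (kernelIsoOfIff ((res φ).map ((restrPushOverAdj O' U).unit.app M))
      ((restrPushOverAdj O U).unit.app ((res φ).obj M))
      (fun g => comp_res_unit_eq_zero_iff φ U g)).hom ≫
      (sectOnι O U).app ((res φ).obj M) = kernel.ι _ :=
    kernelIsoOfIff_hom_ι _ _ _
  have h2 : (PreservesKernel.iso (res φ) ((restrPushOverAdj O' U).unit.app M)).hom ≫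
      kernel.ι ((res φ).map ((restrPushOverAdj O' U).unit.app M)) =
      (res φ).map ((sectOnι O' U).app M) := by
    rw [PreservesKernel.iso_hom]
    exact kernelComparison_comp_ι _ _
  exact (Category.assoc _ _ _).trans ((congrArg (fun t =>
    (PreservesKernel.iso (res φ) ((restrPushOverAdj O' U).unit.app M)).hom ≫ t) h1).trans h2)

/-- `Γ_Z` commutes with restriction of scalars -/
noncomputable def sectNatIso : sectOn O' U ⋙ res φ ≅ res φ ⋙ sectOn O U :=
  NatIso.ofComponents (fun M => sectIso φ U M) (by
    intro M N ψ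
    rw [← cancel_mono ((sectOnι O U).app ((res φ).obj N))]
    have h1 := (sectOnι O U).naturality ((res φ).map ψ)
    have h2 := (sectOnι O' U).naturality ψ
    rw [Functor.id_map] at h1 h2
    rw [Category.assoc, Category.assoc, sectIso_hom_ι]
    erw [h1]
    rw [← Category.assoc, sectIso_hom_ι]
    change (res φ).map ((sectOn O' U).map ψ) ≫ _ = _
    rw [← Functor.map_comp, h2, Functor.map_comp])

variable [HasInjectiveResolutions (Mod O)] [HasInjectiveResolutions (Mod O')]

omit [HasPushOver O' U] [HasInjectiveResolutions (Mod O')] in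
lemma res_precomp_eff :
    ((ofRightDerived (sectOn O U)).precomp (res φ)).Eff := by
  intro I _ n
  have h : CohCx.IsTotallyAcyclic (toAb ((res φ).obj I)) :=
    Groth.Agent.Lib.Helper68.InjModAcyclic.isTotallyAcyclic_toAb_of_injective O' I
  exact Groth.Agent.Lib.Helper68.SuppFlasque.isZero_HZsh_succ O U ((res φ).obj I) h n

/-- `ℋ^q_Z` commutes with restriction of scalars -/
noncomputable def HZshResIso (q : ℕ) :
    HZsh O' U q ⋙ res φ ≅ res φ ⋙ HZsh O U q :=
  haveI : EnoughInjectives (Mod O') :=
    Groth.Agent.Lib.Helper68.GSSDer.enoughInjectives_of_hasInjectiveResolutions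
  DeltaFunctor.isoOfZero
    (A := (ofRightDerived (sectOn O' U)).postcomp (res φ))
    (B := (ofRightDerived (sectOn O U)).precomp (res φ))
    (DeltaFunctor.postcomp_eff _ _ (ofRightDerived_eff _))
    (res_precomp_eff φ U)
    (Functor.isoWhiskerRight (sectOn O' U).rightDerivedZeroIsoSelf (res φ) ≪≫
      sectNatIso φ U ≪≫
      Functor.isoWhiskerLeft (res φ) (sectOn O U).rightDerivedZeroIsoSelf.symm) q

end res

end Groth.Agent.Lib.Helper42.ResScal
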