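import Groth.Agent.Lib.Helper42.TensorSheaf
import Mathlib.CategoryTheory.Sites.PreservesLocallyBijective

set_option autoImplicit false

namespace Groth.Agent.Lib.Helper42.RestrTensor

universe u
open CategoryTheory MonoidalCategory Limits Opposite ModSite
open Groth.Agent.Lib.Helper42.TensorSheaf

variable {C : Type u} [SmallCategory C] {J : GrothendieckTopology C} (O : Sheaf J CommRingCat.{u})
  (U : C)

noncomputable def pushPre : PMod O ⥤ PMod (O.over U) :=
  PresheafOfModules.pushforward₀OfCommRingCat (Over.forget U) O.obj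

lemma fgt_restr (M : Mod O) :
    (fgt (O.over U)).obj ((restr O U).obj M) = (pushPre O U).obj ((fgt O).obj M) := rfl

lemma pushPre_W {P Q : PMod O} (ψ : P ⟶ Q) (h : W ψ) : W ((pushPre O U).map ψ) := by
  rw [W_iff] at h ⊢
  obtain ⟨h1, h2⟩ := h
  constructor
  · exact Presheaf.isLocallyInjective_whisker (J.over U) J (Over.forget U)
      ((PresheafOfModules.toPresheaf _).map ψ)
  · exact Presheaf.isLocallySurjective_whisker (J.over U) J (Over.forget U)
      ((PresheafOfModules.toPresheaf _).map ψ)

noncomputable def restrShfIso (P : PMod O) :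
    (shf (O.over U)).obj ((pushPre O U).obj P) ≅ (restr O U).obj ((shf O).obj P) :=
  @asIso _ _ _ _ ((shf (O.over U)).map ((pushPre O U).map ((adjS O).unit.app P)))
    (pushPre_W O U _ (W_unit P)) ≪≫
    (@asIso _ _ _ _ ((adjS (O.over U)).counit.app ((restr O U).obj ((shf O).obj P)))
      (inferInstanceAs (IsIso ((PresheafOfModules.sheafificationAdjunction
        (𝟙 (ringSh (O.over U)).obj)).counit.app ((restr O U).obj ((shf O).obj P))))))

noncomputable def pushPreTensorIso (P Q : PMod O) :
    (pushPre O U).obj (P ⊗ Q) ≅ (pushPre O U).obj P ⊗ (pushPre O U).obj Q :=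
  PresheafOfModules.isoMk (fun X => Iso.refl _) (by
    intro X Y f
    rfl)

noncomputable def restrTensorIso (M N : Mod O) :
    (restr O U).obj (((tensorBi O).obj M).obj N) ≅
      ((tensorBi (O.over U)).obj ((restr O U).obj M)).obj ((restr O U).obj N) :=
  (restrShfIso O U ((fgt O).obj M ⊗ (fgt O).obj N)).symm ≪≫
    (shf (O.over U)).mapIso (pushPreTensorIso O U ((fgt O).obj M) ((fgt O).obj N))

end Groth.Agent.Lib.Helper42.RestrTensor
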