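import Groth.Agent.Lib.Helper98.CechGlueInd
import Groth.Agent.Lib.Helper98.CechGlueGeo
import Mathlib.AlgebraicGeometry.Modules.Tilde

/-! The system of sections (in the sense of helper98's `Sys`) of an `O`-module on `Spec R`, over the
ring `R` itself. -/

set_option autoImplicit false
universe u
open AlgebraicGeometry CategoryTheory Opposite TopologicalSpace

namespace Groth.Agent.Lib.Helper42.SpecSys

open Groth.Agent.Lib.Helper98.CechGlue Groth.Agent.Lib.Helper98.CechGlueGeo

variable {R : CommRingCat.{u}} (F : (Spec R).Modules)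

/-- the sheaf of `R`-modules of an `O`-module on `Spec R` -/
noncomputable abbrev Sh : TopCat.Sheaf (ModuleCat.{u} R) (Spec R) := modulesSpecToSheaf.obj F

/-- the system attached to an `O`-module on `Spec R` -/
noncomputable def sys : Sys R (Spec R).Opens where
  P W := (Sh F).obj.obj (op W)
  res h := (Sh F).obj.map (homOfLE h).op
  res_id W s := res_id' F W s
  res_res h₁ h₂ s := res_res' F h₂ h₁ s
  bot s := bot_eq F s
  sep h₁ h₂ hc s e₁ e₂ := sep_eq F h₁ h₂ hc s e₁ e₂
  glue h₁ h₂ h h' hc hi s₁ s₂ e := glue_eq F h₁ h₂ h h' hc hi s₁ s₂ e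
  D f := PrimeSpectrum.basicOpen f
  D_mul f g := PrimeSpectrum.basicOpen_mul f g

lemma coe_UL (fs : List R) :
    ((sys F).UL fs : Set (Spec R)) = (PrimeSpectrum.zeroLocus {a | a ∈ fs})ᶜ := by
  induction fs with
  | nil =>
    simp [Sys.UL, PrimeSpectrum.zeroLocus_empty]
    rfl
  | cons f fs ih =>
    change (((sys F).UL fs ⊔ PrimeSpectrum.basicOpen f : (Spec R).Opens) : Set (Spec R)) = _
    rw [Opens.coe_sup, ih]
    have : {a | a ∈ f :: fs} = {f} ∪ {a | a ∈ fs} := by
      ext a
      simp
    rw [this, PrimeSpectrum.zeroLocus_union, Set.compl_inter, Set.union_comm]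
    congr 1
    exact PrimeSpectrum.basicOpen_eq_zeroLocus_compl f

section tilde

variable (M : ModuleCat.{u} R)

/-- `M ≅ Γ(Spec R, M~)` as `R`-modules -/
noncomputable def topIso : M ≅ (sys (tilde M)).P ⊤ := tilde.isoTop M

lemma topIso_hom_res (h : R) :
    (topIso M).hom ≫ (sys (tilde M)).res (le_top : PrimeSpectrum.basicOpen h ≤ ⊤) =
      tilde.toOpen M (PrimeSpectrum.basicOpen h) := by
  change tilde.toOpen M ⊤ ≫ _ = _
  exact tilde.toOpen_res M ⊤ (PrimeSpectrum.basicOpen h) (homOfLE le_top)

theorem good_top : (sys (tilde M)).good ⊤ := by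
  intro h V hV hVe
  obtain rfl : V = PrimeSpectrum.basicOpen h := by rw [hVe]; exact top_inf_eq _
  have h1 : ((sys (tilde M)).res hV).hom =
      (tilde.toOpen M (PrimeSpectrum.basicOpen h)).hom ∘ₗ
        (topIso M).toLinearEquiv.symm.toLinearMap := by
    rw [← topIso_hom_res]
    ext x
    change _ = ((sys (tilde M)).res _).hom ((topIso M).hom.hom ((topIso M).inv.hom x))
    have h2 : (topIso M).hom.hom ((topIso M).inv.hom x) = x := by
      rw [← LinearMap.comp_apply, ← ModuleCat.hom_comp, (topIso M).inv_hom_id]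
      rfl
    rw [h2]
  rw [h1]
  have h3 : IsLocalizedModule.Away h (tilde.toOpen M (PrimeSpectrum.basicOpen h)).hom :=
    inferInstance
  exact IsLocalizedModule.of_linearEquiv_right (hf := h3) _ _ _

end tilde

end Groth.Agent.Lib.Helper42.SpecSys
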