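import Groth.Agent.Lib.Helper42.ExtZero
import Groth.Prelude.Def_ModSite2
import Mathlib.CategoryTheory.Sites.Point.Skyscraper
import Mathlib.CategoryTheory.Sites.Point.Over

/-! The stalk of the extension by zero `j_{U!} G` at a point `p` of a ringed site is the direct sum
of the stalks of `G` at the points of `C/U` over `p`. -/

set_option autoImplicit false
set_option linter.style.haveILetI false
set_option linter.unusedSectionVars false

namespace Groth.Agent.Lib.Helper42.StalkExt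

universe u
open CategoryTheory Limits Opposite ModSite DirectSum GrothendieckTopology
open Groth.Agent.Lib.Helper42.TensorSheaf Groth.Agent.Lib.Helper42.RestrTensor
open Groth.Agent.Lib.Helper42.ExtPre Groth.Agent.Lib.Helper42.ExtZero

variable {C : Type u} [SmallCategory C] {J : GrothendieckTopology C} {O : Sheaf J CommRingCat.{u}}
  {U : C} (p : Point.{u} J) (G : PMod (O.over U))

/-- the stalk of `G` at the point of `C/U` over `p` given by `x` -/
noncomputable abbrev Ψ (x : p.fiber.obj U) : AddCommGrpCat.{u} :=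
  (p.over x).presheafFiber.obj G.presheaf

/-- the direct sum of the stalks -/
noncomputable abbrev T : AddCommGrpCat.{u} := ∐ fun x : p.fiber.obj U => Ψ p G x

/-- the component maps -/
noncomputable def τ {X : C} (φ : X ⟶ U) (a : p.fiber.obj X) (x : p.fiber.obj U)
    (h : p.fiber.map φ a = x) : G.presheaf.obj (op (Over.mk φ)) ⟶ T p G :=
  (p.over x).toPresheafFiber (Over.mk φ) ⟨a, h⟩ G.presheaf ≫ Sigma.ι (Ψ p G) x

lemma τ_eq {X : C} (φ : X ⟶ U) (a : p.fiber.obj X) (x : p.fiber.obj U)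
    (h : p.fiber.map φ a = x) : τ p G φ a _ rfl = τ p G φ a x h := by
  subst h
  rfl

lemma τ_map {X Y : C} (f : X ⟶ Y) (φ : Y ⟶ U) (a : p.fiber.obj X) (x : p.fiber.obj U)
    (h : p.fiber.map φ (p.fiber.map f a) = x) (h' : p.fiber.map (f ≫ φ) a = x) :
    G.presheaf.map (Over.homMk f : Over.mk (f ≫ φ) ⟶ Over.mk φ).op ≫ τ p G (f ≫ φ) a x h' =
      τ p G φ (p.fiber.map f a) x h := by
  unfold τ
  rw [← Category.assoc]
  congr 1
  exact (p.over x).toPresheafFiber_w (Over.homMk f : Over.mk (f ≫ φ) ⟶ Over.mk φ) ⟨a, h'⟩ G.presheaf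

open Classical in
/-- the forward map on the sections over a neighbourhood -/
noncomputable def fwdApp (X : C) (a : p.fiber.obj X) : (extAb G).obj (op X) ⟶ T p G :=
  AddCommGrpCat.ofHom (DirectSum.toAddMonoid (fun φ : X ⟶ U => (τ p G φ a _ rfl).hom))

lemma fwdApp_ofc (X : C) (a : p.fiber.obj X) (φ : X ⟶ U) (y : cmp G φ) :
    (fwdApp p G X a).hom (ofc G φ y) = (τ p G φ a _ rfl).hom y := by
  classical
  exact DirectSum.toAddMonoid_of _ _ _

lemma fwdApp_compat {X Y : C} (f : X ⟶ Y) (a : p.fiber.obj X) :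
    (extAb G).map f.op ≫ fwdApp p G X a = fwdApp p G Y (p.fiber.map f a) := by
  classical
  refine AddCommGrpCat.hom_ext (DirectSum.addHom_ext' fun φ => AddMonoidHom.ext fun y => ?_)
  change (fwdApp p G X a).hom (secMapAdd G f (ofc G φ y)) =
    (fwdApp p G Y (p.fiber.map f a)).hom (ofc G φ y)
  rw [secMapAdd_ofc, fwdApp_ofc, fwdApp_ofc]
  have h1 : p.fiber.map (f ≫ φ) a = p.fiber.map φ (p.fiber.map f a) := by
    rw [Functor.map_comp]
    rfl
  rw [τ_eq p G (f ≫ φ) a _ h1]
  exact ConcreteCategory.congr_hom (τ_map p G f φ a _ rfl h1) y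

/-- the forward map -/
noncomputable def fwd : p.presheafFiber.obj (extAb G) ⟶ T p G :=
  p.presheafFiberDesc (fwdApp p G) (fun _ _ f a => fwdApp_compat p G f a)

/-- inclusion of a summand, on the underlying abelian groups -/
noncomputable def ofcHom (Y : Over U) : G.presheaf.obj (op Y) ⟶ (extAb G).obj (op Y.left) :=
  AddCommGrpCat.ofHom (ofc G Y.hom).toAddMonoidHom

lemma ofcHom_apply (Y : Over U) (z : G.obj (op Y)) :
    (ofcHom G Y).hom z = ofc G Y.hom z := rfl

/-- the backward map on a neighbourhood -/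
noncomputable def bwdApp (x : p.fiber.obj U) (Y : Over U) (y : (p.over x).fiber.obj Y) :
    G.presheaf.obj (op Y) ⟶ p.presheafFiber.obj (extAb G) :=
  ofcHom G Y ≫ p.toPresheafFiber Y.left y.1 (extAb G)

lemma bwdApp_compat (x : p.fiber.obj U) {Y₁ Y₂ : Over U} (g : Y₁ ⟶ Y₂)
    (y : (p.over x).fiber.obj Y₁) :
    G.presheaf.map g.op ≫ bwdApp p G x Y₁ y =
      bwdApp p G x Y₂ ((p.over x).fiber.map g y) := by
  refine AddCommGrpCat.hom_ext (AddMonoidHom.ext fun z => ?_)
  have h1 := ConcreteCategory.congr_hom (p.toPresheafFiber_w g.left y.1 (extAb G))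
    (ofc G Y₂.hom z)
  change (p.toPresheafFiber Y₁.left y.1 (extAb G)).hom (ofc G Y₁.hom (G.map g.op z)) =
    (p.toPresheafFiber Y₂.left (p.fiber.map g.left y.1) (extAb G)).hom (ofc G Y₂.hom z)
  refine Eq.trans ?_ h1
  change _ = (p.toPresheafFiber Y₁.left y.1 (extAb G)).hom (secMapAdd G g.left (ofc G Y₂.hom z))
  rw [secMapAdd_ofc]
  congr 1
  exact (ofc_congr G (Over.w g) (Over.homMk g.left : Over.mk (g.left ≫ Y₂.hom) ⟶ Y₂)
    (show Over.mk Y₁.hom ⟶ Y₂ from g) rfl z).symm

/-- the backward map on a summand -/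
noncomputable def bwdx (x : p.fiber.obj U) : Ψ p G x ⟶ p.presheafFiber.obj (extAb G) :=
  (p.over x).presheafFiberDesc (bwdApp p G x) (fun _ _ g y => bwdApp_compat p G x g y)

/-- the backward map -/
noncomputable def bwd : T p G ⟶ p.presheafFiber.obj (extAb G) :=
  Sigma.desc (bwdx p G)

lemma toPF_fwd (X : C) (a : p.fiber.obj X) :
    p.toPresheafFiber X a (extAb G) ≫ fwd p G = fwdApp p G X a :=
  p.toPresheafFiber_presheafFiberDesc (fwdApp p G) (fun _ _ f a => fwdApp_compat p G f a) X a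

lemma toPF_bwdx (x : p.fiber.obj U) (Y : Over U) (y : (p.over x).fiber.obj Y) :
    (p.over x).toPresheafFiber Y y G.presheaf ≫ bwdx p G x = bwdApp p G x Y y :=
  (p.over x).toPresheafFiber_presheafFiberDesc (bwdApp p G x)
    (fun _ _ g y => bwdApp_compat p G x g y) Y y

lemma ι_bwd (x : p.fiber.obj U) : Sigma.ι (Ψ p G) x ≫ bwd p G = bwdx p G x :=
  Sigma.ι_desc _ _

lemma fwd_bwd : fwd p G ≫ bwd p G = 𝟙 _ := by
  classical
  apply p.presheafFiber_hom_ext
  intro X a
  rw [Category.comp_id, ← Category.assoc, toPF_fwd]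
  refine AddCommGrpCat.hom_ext (DirectSum.addHom_ext' fun φ => AddMonoidHom.ext fun y => ?_)
  change (bwd p G).hom ((fwdApp p G X a).hom (ofc G φ y)) =
    (p.toPresheafFiber X a (extAb G)).hom (ofc G φ y)
  rw [fwdApp_ofc]
  change ((p.over (p.fiber.map φ a)).toPresheafFiber (Over.mk φ) ⟨a, rfl⟩ G.presheaf ≫
    Sigma.ι (Ψ p G) (p.fiber.map φ a) ≫ bwd p G).hom y = _
  rw [ι_bwd, toPF_bwdx]
  rfl

lemma bwd_fwd : bwd p G ≫ fwd p G = 𝟙 _ := by
  apply Sigma.hom_ext
  intro x
  rw [Category.comp_id, ← Category.assoc, ι_bwd]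
  apply (p.over x).presheafFiber_hom_ext
  intro Y y
  rw [← Category.assoc, toPF_bwdx]
  unfold bwdApp
  rw [Category.assoc, toPF_fwd]
  refine AddCommGrpCat.hom_ext (AddMonoidHom.ext fun z => ?_)
  change (fwdApp p G Y.left y.1).hom (ofc G Y.hom z) = _
  rw [fwdApp_ofc, τ_eq p G Y.hom y.1 x y.2]
  rfl

/-- the stalk of the presheaf-level extension by zero -/
noncomputable def stalkIso : p.presheafFiber.obj (extAb G) ≅ T p G where
  hom := fwd p G
  inv := bwd p G
  hom_inv_id := fwd_bwd p G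
  inv_hom_id := bwd_fwd p G

section main

variable (O U)

/-- the stalk of `j_{U!} G` at `p` is the direct sum of the stalks of `G` at the points over `p` -/
theorem main (G : Mod (O.over U)) :
    Nonempty (stalkAb p ((extZero O U).obj G) ≅
      ∐ fun x : p.fiber.obj U => stalkAb (p.over x) G) := by
  let e1 : stalkAb p ((extZero O U).obj G) ≅ stalkAb p ((L O U).obj G) :=
    (p.sheafFiber (A := AddCommGrpCat.{u})).mapIso
      ((SheafOfModules.toSheaf (ringSh O)).mapIso ((extZeroIso O U).app G))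
  let Q : Cᵒᵖ ⥤ AddCommGrpCat.{u} := extAb ((fgt (O.over U)).obj G)
  let e2 : stalkAb p ((L O U).obj G) ≅ p.presheafFiber.obj Q :=
    (p.presheafToSheafCompSheafFiberIso AddCommGrpCat.{u}).app Q
  exact ⟨e1 ≪≫ e2 ≪≫ stalkIso p ((fgt (O.over U)).obj G)⟩

end main

end Groth.Agent.Lib.Helper42.StalkExt
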