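import Groth.Agent.Lib.Helper42.EqCrit2
import Groth.Prelude.Def_ModSite2
import Mathlib.RingTheory.Flat.EquationalCriterion

set_option autoImplicit false

namespace Groth.Agent.Lib.Helper42.StalkFlat

universe u
open CategoryTheory Limits Opposite ModSite

variable {C : Type u} [SmallCategory C] {J : GrothendieckTopology C}
  (p : GrothendieckTopology.Point.{u} J) {O : Sheaf J CommRingCat.{u}}

lemma germRing_w {X Y : C} (g : Y ⟶ X) (y : p.fiber.obj Y) (r : O.obj.obj (op X)) :
    germRing p Y y ((O.obj.map g.op).hom r) = germRing (O := O) p X (p.fiber.map g y) r :=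
  p.toPresheafFiber_w_apply g y O.obj r

lemma germ_w (F : Mod O) {X Y : C} (g : Y ⟶ X) (y : p.fiber.obj Y) (s : sect F X) :
    germ p F Y y ((F.val.map g.op).hom s) = germ p F X (p.fiber.map g y) s :=
  p.toPresheafFiber_w_apply g y (toAb F).obj s

lemma germRing_w' {X Y : C} (g : Y ⟶ X) (y : p.fiber.obj Y) (x : p.fiber.obj X)
    (h : p.fiber.map g y = x) (r : O.obj.obj (op X)) :
    germRing p Y y ((O.obj.map g.op).hom r) = germRing (O := O) p X x r := by
  subst h
  exact germRing_w p g y r

lemma germ_w' (F : Mod O) {X Y : C} (g : Y ⟶ X) (y : p.fiber.obj Y) (x : p.fiber.obj X)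
    (h : p.fiber.map g y = x) (s : sect F X) :
    germ p F Y y ((F.val.map g.op).hom s) = germ p F X x s := by
  subst h
  exact germ_w p F g y s

lemma exists_reps (F : Mod O) {l : ℕ} (r : Fin l → stalkRing p O) (m : Fin l → stalkAb p F) :
    ∃ (X : C) (x : p.fiber.obj X) (f : Fin l → O.obj.obj (op X)) (s : Fin l → sect F X),
      (∀ i, germRing p X x (f i) = r i) ∧ (∀ i, germ p F X x (s i) = m i) := by
  classical
  have hr : ∀ i, ∃ (X : C) (x : p.fiber.obj X) (z : O.obj.obj (op X)), germRing p X x z = r i :=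
    fun i => p.toPresheafFiber_jointly_surjective (P := O.obj) (r i)
  have hm : ∀ i, ∃ (X : C) (x : p.fiber.obj X) (z : sect F X), germ p F X x z = m i :=
    fun i => p.toPresheafFiber_jointly_surjective (P := (toAb F).obj) (m i)
  choose Xr xr fr hfr using hr
  choose Xm xm sm hsm using hm
  let E : Finset p.fiber.Elements :=
    Finset.image (fun i => Functor.elementsMk p.fiber (Xr i) (xr i)) Finset.univ ∪
      Finset.image (fun i => Functor.elementsMk p.fiber (Xm i) (xm i)) Finset.univ
  obtain ⟨W, hW⟩ := IsCofiltered.inf_objs_exists E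
  have h1 : ∀ i, Nonempty (W ⟶ Functor.elementsMk p.fiber (Xr i) (xr i)) := fun i =>
    hW (Finset.mem_union_left _ (Finset.mem_image_of_mem _ (Finset.mem_univ i)))
  have h2 : ∀ i, Nonempty (W ⟶ Functor.elementsMk p.fiber (Xm i) (xm i)) := fun i =>
    hW (Finset.mem_union_right _ (Finset.mem_image_of_mem _ (Finset.mem_univ i)))
  let gr := fun i => (h1 i).some
  let gm := fun i => (h2 i).some
  refine ⟨W.1, W.2, fun i => (O.obj.map (gr i).1.op).hom (fr i),
    fun i => (F.val.map (gm i).1.op).hom (sm i), ?_, ?_⟩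
  · intro i
    rw [← hfr i]
    exact germRing_w' p (gr i).1 W.2 (xr i) (gr i).2 (fr i)
  · intro i
    rw [← hsm i]
    exact germ_w' p F (gm i).1 W.2 (xm i) (gm i).2 (sm i)

noncomputable def rs (F : Mod O) {X Y : C} (g : Y ⟶ X) (s : sect F X) : sect F Y :=
  (F.val.map g.op).hom s

lemma germ_sum (F : Mod O) (X : C) (x : p.fiber.obj X) {l : ℕ} (s : Fin l → sect F X) :
    germ p F X x (∑ i, s i) = ∑ i, germ p F X x (s i) :=
  map_sum (p.toPresheafFiber X x (toAb F).obj).hom s Finset.univ

lemma germ_zero (F : Mod O) (X : C) (x : p.fiber.obj X) :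
    germ p F X x 0 = 0 :=
  map_zero (p.toPresheafFiber X x (toAb F).obj).hom

lemma germ_sum_smul (F : Mod O) (X : C) (x : p.fiber.obj X) {l : ℕ}
    (f : Fin l → O.obj.obj (op X)) (s : Fin l → sect F X) :
    germ p F X x (∑ i, f i • s i) = ∑ i, germRing p X x (f i) • germ p F X x (s i) :=
  (germ_sum p F X x (fun i => f i • s i)).trans
    (Finset.sum_congr rfl fun i _ => germ_smul p F X x (f i) (s i))

lemma rs_sum_smul (F : Mod O) {X Y : C} (g : Y ⟶ X) {l : ℕ}
    (f : Fin l → O.obj.obj (op X)) (s : Fin l → sect F X) :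
    rs F g (∑ i, f i • s i) = ∑ i, (O.obj.map g.op).hom (f i) • rs F g (s i) :=
  (map_sum (F.val.map g.op).hom (fun i => f i • s i) Finset.univ).trans
    (Finset.sum_congr rfl fun i _ => F.val.map_smul g.op (f i) (s i))

lemma germRing_sum (X : C) (x : p.fiber.obj X) {l : ℕ} (f : Fin l → O.obj.obj (op X)) :
    germRing p X x (∑ i, f i) = ∑ i, germRing p X x (f i) :=
  map_sum (p.toPresheafFiber X x O.obj).hom f Finset.univ

lemma germRing_mul (X : C) (x : p.fiber.obj X) (a b : O.obj.obj (op X)) :
    germRing p X x (a * b) = germRing p X x a * germRing p X x b :=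
  map_mul (p.toPresheafFiber X x O.obj).hom a b

lemma germRing_zero (X : C) (x : p.fiber.obj X) :
    germRing (O := O) p X x 0 = 0 :=
  map_zero (p.toPresheafFiber X x O.obj).hom

open Groth.Agent.Lib.Helper42.EqCrit in
theorem stalk_flat (F : Mod O) (hF : IsFlat F) :
    Module.Flat (stalkRing p O) (stalkMod p F) := by
  apply Module.Flat.of_forall_isTrivialRelation
  intro l r m hrel
  obtain ⟨X, x, f, s, hf, hs⟩ := exists_reps p F r m
  have h0 : germ p F X x (∑ i, f i • s i) = germ p F X x 0 := by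
    refine (germ_sum_smul p F X x f s).trans (Eq.trans ?_ (germ_zero p F X x).symm)
    simp_rw [hf, hs]
    exact hrel
  obtain ⟨Y, g, y, hy, hres⟩ := (p.toPresheafFiber_eq_iff' X x _ _).mp h0
  have hrelY : ∑ i, (O.obj.map g.op).hom (f i) • rs F g (s i) = 0 := by
    have h1 : rs F g (∑ i, f i • s i) = rs F g 0 := hres
    exact (rs_sum_smul F g f s).symm.trans (h1.trans (map_zero (F.val.map g.op).hom))
  obtain ⟨S, hS, hdata⟩ := (isFlat_iff_crit F).mp hF Y l (fun i => (O.obj.map g.op).hom (f i))
    (fun i => rs F g (s i)) hrelY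
  obtain ⟨Z, h, hh, z, hz⟩ := p.jointly_surjective S hS y
  obtain ⟨k, t, a, ha1, ha2⟩ := hdata h hh
  refine ⟨k, fun i j => germRing p Z z (a i j), fun j => germ p F Z z (t j), ?_, ?_⟩
  · intro i
    have e1 : m i = germ p F Z z (rs F h (rs F g (s i))) :=
      ((germ_w' p F h z y hz (rs F g (s i))).trans
        ((germ_w' p F g y x hy (s i)).trans (hs i))).symm
    have e2 : rs F h (rs F g (s i)) = ∑ j, a i j • t j := ha1 i
    refine e1.trans ?_
    rw [e2]
    exact germ_sum_smul p F Z z (a i) t
  · intro j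
    have e2 : ∀ i, r i = germRing p Z z ((O.obj.map h.op).hom ((O.obj.map g.op).hom (f i))) := by
      intro i
      rw [germRing_w' p h z y hz, germRing_w' p g y x hy, hf]
    have h3 : ∑ i, (O.obj.map h.op).hom ((O.obj.map g.op).hom (f i)) * a i j = 0 := by
      rw [← ha2 j]
      refine Finset.sum_congr rfl fun i _ => mul_comm _ _
    have h4 : ∑ i, r i * germRing p Z z (a i j) =
        germRing p Z z (∑ i, (O.obj.map h.op).hom ((O.obj.map g.op).hom (f i)) * a i j) := by
      rw [germRing_sum]
      refine Finset.sum_congr rfl fun i _ => ?_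
      rw [e2 i, germRing_mul]
    exact h4.trans (by rw [h3, germRing_zero])

end Groth.Agent.Lib.Helper42.StalkFlat
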