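import Groth.Agent.Lib.Helper42.StalkFlat
import Mathlib.CategoryTheory.Sites.Point.Conservative
import Mathlib.Topology.Sheaves.Points

set_option autoImplicit false

namespace Groth.Agent.Lib.Helper42.StalkFlat

universe u
open CategoryTheory Limits Opposite ModSite

variable {C : Type u} [SmallCategory C] {J : GrothendieckTopology C}
  (p : GrothendieckTopology.Point.{u} J) {O : Sheaf J CommRingCat.{u}}

lemma rs_comp (F : Mod O) {X Y Z : C} (g : Y ⟶ X) (h : Z ⟶ Y) (s : sect F X) :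
    rs F (h ≫ g) s = rs F h (rs F g s) := by
  unfold rs
  rw [op_comp]
  exact F.val.map_comp_apply g.op h.op s

lemma rs_sum_smul' (F : Mod O) {X Y : C} (g : Y ⟶ X) {ι : Type} [Fintype ι]
    (f : ι → O.obj.obj (op X)) (s : ι → sect F X) :
    rs F g (∑ i, f i • s i) = ∑ i, (O.obj.map g.op).hom (f i) • rs F g (s i) :=
  (map_sum (F.val.map g.op).hom (fun i => f i • s i) Finset.univ).trans
    (Finset.sum_congr rfl fun i _ => F.val.map_smul g.op (f i) (s i))

lemma germ_eq_iff (F : Mod O) (X : C) (x : p.fiber.obj X) (z₁ z₂ : sect F X) :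
    germ p F X x z₁ = germ p F X x z₂ ↔
      ∃ (Y : C) (g : Y ⟶ X) (y : p.fiber.obj Y), p.fiber.map g y = x ∧ rs F g z₁ = rs F g z₂ :=
  p.toPresheafFiber_eq_iff' (P := (toAb F).obj) X x z₁ z₂

lemma germRing_eq_iff (X : C) (x : p.fiber.obj X) (z₁ z₂ : O.obj.obj (op X)) :
    germRing p X x z₁ = germRing p X x z₂ ↔
      ∃ (Y : C) (g : Y ⟶ X) (y : p.fiber.obj Y), p.fiber.map g y = x ∧
        (O.obj.map g.op).hom z₁ = (O.obj.map g.op).hom z₂ :=
  p.toPresheafFiber_eq_iff' (P := O.obj) X x z₁ z₂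

lemma exists_common_germ_eq (F : Mod O) (n : ℕ) : ∀ (X : C) (x : p.fiber.obj X)
    (z₁ z₂ : Fin n → sect F X) (_ : ∀ i, germ p F X x (z₁ i) = germ p F X x (z₂ i)),
    ∃ (Y : C) (g : Y ⟶ X) (y : p.fiber.obj Y), p.fiber.map g y = x ∧
      ∀ i, rs F g (z₁ i) = rs F g (z₂ i) := by
  induction n with
  | zero =>
    intro X x z₁ z₂ _
    exact ⟨X, 𝟙 X, x, by simp, fun i => i.elim0⟩
  | succ n ih =>
    intro X x z₁ z₂ h
    obtain ⟨Y, g, y, hy, hY⟩ := ih X x (fun i => z₁ i.castSucc) (fun i => z₂ i.castSucc)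
      (fun i => h i.castSucc)
    have hl : germ p F Y y (rs F g (z₁ (Fin.last n))) = germ p F Y y (rs F g (z₂ (Fin.last n))) := by
      have e1 := germ_w' p F g y x hy (z₁ (Fin.last n))
      have e2 := germ_w' p F g y x hy (z₂ (Fin.last n))
      exact e1.trans ((h (Fin.last n)).trans e2.symm)
    obtain ⟨Y', g', y', hy', hY'⟩ := (germ_eq_iff p F Y y _ _).mp hl
    refine ⟨Y', g' ≫ g, y', ?_, ?_⟩
    · rw [Functor.map_comp]
      change p.fiber.map g (p.fiber.map g' y') = x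
      rw [hy', hy]
    · intro i
      rw [rs_comp, rs_comp]
      induction i using Fin.lastCases with
      | last => exact hY'
      | cast i => rw [hY i]

lemma exists_common_germRing_eq (n : ℕ) : ∀ (X : C) (x : p.fiber.obj X)
    (z₁ z₂ : Fin n → O.obj.obj (op X)) (_ : ∀ i, germRing p X x (z₁ i) = germRing p X x (z₂ i)),
    ∃ (Y : C) (g : Y ⟶ X) (y : p.fiber.obj Y), p.fiber.map g y = x ∧
      ∀ i, (O.obj.map g.op).hom (z₁ i) = (O.obj.map g.op).hom (z₂ i) := by
  induction n with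
  | zero =>
    intro X x z₁ z₂ _
    exact ⟨X, 𝟙 X, x, by simp, fun i => i.elim0⟩
  | succ n ih =>
    intro X x z₁ z₂ h
    obtain ⟨Y, g, y, hy, hY⟩ := ih X x (fun i => z₁ i.castSucc) (fun i => z₂ i.castSucc)
      (fun i => h i.castSucc)
    have hl : germRing p Y y ((O.obj.map g.op).hom (z₁ (Fin.last n))) =
        germRing p Y y ((O.obj.map g.op).hom (z₂ (Fin.last n))) := by
      have e1 := germRing_w' p g y x hy (z₁ (Fin.last n))
      have e2 := germRing_w' p g y x hy (z₂ (Fin.last n))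
      exact e1.trans ((h (Fin.last n)).trans e2.symm)
    obtain ⟨Y', g', y', hy', hY'⟩ := (germRing_eq_iff p Y y _ _).mp hl
    refine ⟨Y', g' ≫ g, y', ?_, ?_⟩
    · rw [Functor.map_comp]
      change p.fiber.map g (p.fiber.map g' y') = x
      rw [hy', hy]
    · intro i
      have hc : ∀ z : O.obj.obj (op X), (O.obj.map (g' ≫ g).op).hom z =
          (O.obj.map g'.op).hom ((O.obj.map g.op).hom z) := by
        intro z
        rw [op_comp, Functor.map_comp]
        rfl
      rw [hc, hc]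
      induction i using Fin.lastCases with
      | last => exact hY'
      | cast i => rw [hY i]

lemma exists_reps' (F : Mod O) {ι₁ ι₂ : Type} [Fintype ι₁] [Fintype ι₂] (U : C)
    (x : p.fiber.obj U) (r : ι₁ → stalkRing p O) (m : ι₂ → stalkAb p F) :
    ∃ (V : C) (g : V ⟶ U) (y : p.fiber.obj V), p.fiber.map g y = x ∧
      ∃ (a : ι₁ → O.obj.obj (op V)) (t : ι₂ → sect F V),
      (∀ i, germRing p V y (a i) = r i) ∧ (∀ i, germ p F V y (t i) = m i) := by
  classical
  have hr : ∀ i, ∃ (X : C) (x : p.fiber.obj X) (z : O.obj.obj (op X)), germRing p X x z = r i :=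
    fun i => p.toPresheafFiber_jointly_surjective (P := O.obj) (r i)
  have hm : ∀ i, ∃ (X : C) (x : p.fiber.obj X) (z : sect F X), germ p F X x z = m i :=
    fun i => p.toPresheafFiber_jointly_surjective (P := (toAb F).obj) (m i)
  choose Xr xr fr hfr using hr
  choose Xm xm sm hsm using hm
  let E : Finset p.fiber.Elements :=
    insert (Functor.elementsMk p.fiber U x)
    (Finset.image (fun i => Functor.elementsMk p.fiber (Xr i) (xr i)) Finset.univ ∪
      Finset.image (fun i => Functor.elementsMk p.fiber (Xm i) (xm i)) Finset.univ)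
  obtain ⟨W, hW⟩ := IsCofiltered.inf_objs_exists E
  have h0 : Nonempty (W ⟶ Functor.elementsMk p.fiber U x) := hW (Finset.mem_insert_self _ _)
  have h1 : ∀ i, Nonempty (W ⟶ Functor.elementsMk p.fiber (Xr i) (xr i)) := fun i =>
    hW (Finset.mem_insert_of_mem
      (Finset.mem_union_left _ (Finset.mem_image_of_mem _ (Finset.mem_univ i))))
  have h2 : ∀ i, Nonempty (W ⟶ Functor.elementsMk p.fiber (Xm i) (xm i)) := fun i =>
    hW (Finset.mem_insert_of_mem
      (Finset.mem_union_right _ (Finset.mem_image_of_mem _ (Finset.mem_univ i))))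
  let g0 := h0.some
  let gr := fun i => (h1 i).some
  let gm := fun i => (h2 i).some
  refine ⟨W.1, g0.1, W.2, g0.2, fun i => (O.obj.map (gr i).1.op).hom (fr i),
    fun i => (F.val.map (gm i).1.op).hom (sm i), ?_, ?_⟩
  · intro i
    rw [← hfr i]
    exact germRing_w' p (gr i).1 W.2 (xr i) (gr i).2 (fr i)
  · intro i
    rw [← hsm i]
    exact germ_w' p F (gm i).1 W.2 (xm i) (gm i).2 (sm i)

lemma Omap_comp {X Y Z : C} (g : Y ⟶ X) (h : Z ⟶ Y) (z : O.obj.obj (op X)) :
    (O.obj.map (h ≫ g).op).hom z = (O.obj.map h.op).hom ((O.obj.map g.op).hom z) := by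
  rw [op_comp, Functor.map_comp]
  rfl

lemma rs_sum_smul_fin (F : Mod O) {X Y : C} (g : Y ⟶ X) {l : ℕ}
    (f : Fin l → O.obj.obj (op X)) (s : Fin l → sect F X) :
    rs F g (∑ i, f i • s i) = ∑ i, (O.obj.map g.op).hom (f i) • rs F g (s i) :=
  rs_sum_smul F g f s

def trivSieve (F : Mod O) {U : C} {n : ℕ} (f : Fin n → O.obj.obj (op U))
    (s : Fin n → sect F U) : Sieve U where
  arrows V g := ∃ (l : ℕ) (t : Fin l → sect F V) (a : Fin n → Fin l → O.obj.obj (op V)),
    (∀ j, rs F g (s j) = ∑ k, a j k • t k) ∧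
    (∀ k, ∑ j, a j k * (O.obj.map g.op).hom (f j) = 0)
  downward_closed := by
    rintro V W g ⟨l, t, a, h1, h2⟩ h
    refine ⟨l, fun k => rs F h (t k), fun j k => (O.obj.map h.op).hom (a j k), ?_, ?_⟩
    · intro j
      rw [rs_comp, h1 j]
      exact rs_sum_smul_fin F h (a j) t
    · intro k
      have := congrArg (O.obj.map h.op).hom (h2 k)
      rw [map_sum, map_zero] at this
      rw [← this]
      refine Finset.sum_congr rfl fun j _ => ?_
      rw [map_mul, Omap_comp]

open Groth.Agent.Lib.Helper42.EqCrit in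
theorem isFlat_of_stalks (PP : ObjectProperty (GrothendieckTopology.Point.{u} J))
    (hcov : ∀ (U : C) (S : Sieve U),
      (∀ Φ : GrothendieckTopology.Point.{u} J, PP Φ → ∀ x : Φ.fiber.obj U,
        ∃ (V : C) (g : V ⟶ U), S g ∧ ∃ y : Φ.fiber.obj V, Φ.fiber.map g y = x) → S ∈ J U)
    (F : Mod O) (hst : ∀ Φ, PP Φ → Module.Flat (stalkRing Φ O) (stalkMod Φ F)) : IsFlat F := by
  rw [isFlat_iff_crit]
  intro U n f s hrel
  refine ⟨trivSieve F f s, hcov U _ ?_, fun V g hg => hg⟩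
  intro Φ hΦ x
  have hflat := hst Φ hΦ
  have hrelΦ : ∑ j, germRing Φ U x (f j) • (germ Φ F U x (s j) : stalkMod Φ F) = 0 :=
    (germ_sum_smul Φ F U x f s).symm.trans
      ((congrArg (germ Φ F U x) hrel).trans (germ_zero Φ F U x))
  obtain ⟨k, A, Y, hA1, hA2⟩ := Module.Flat.isTrivialRelation_of_sum_smul_eq_zero hrelΦ
  obtain ⟨V, g, y, hy, a', t, ha', ht⟩ := exists_reps' Φ F (ι₁ := Fin n × Fin k) (ι₂ := Fin k)
    U x (fun i => A i.1 i.2) Y
  let a : Fin n → Fin k → O.obj.obj (op V) := fun j k' => a' (j, k')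
  have e1 : ∀ j, germ Φ F V y (rs F g (s j)) = germ Φ F V y (∑ k', a j k' • t k') := by
    intro j
    refine (germ_w' Φ F g y x hy (s j)).trans ?_
    refine (hA1 j).trans ?_
    refine Eq.trans ?_ (germ_sum_smul Φ F V y (a j) t).symm
    refine Finset.sum_congr rfl fun k' _ => ?_
    rw [ha' (j, k'), ht k']
  have e2 : ∀ k', germRing Φ V y (∑ j, a j k' * (O.obj.map g.op).hom (f j)) =
      germRing Φ V y 0 := by
    intro k'
    rw [germRing_zero, germRing_sum]
    rw [← hA2 k']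
    refine Finset.sum_congr rfl fun j _ => ?_
    rw [germRing_mul, ha' (j, k'), germRing_w' Φ g y x hy (f j), mul_comm]
  obtain ⟨W1, h1, w1, hw1, hW1⟩ := exists_common_germ_eq Φ F n V y _ _ e1
  have e2' : ∀ k', germRing Φ W1 w1
      ((O.obj.map h1.op).hom (∑ j, a j k' * (O.obj.map g.op).hom (f j))) =
      germRing Φ W1 w1 ((O.obj.map h1.op).hom 0) := by
    intro k'
    rw [germRing_w' Φ h1 w1 y hw1, germRing_w' Φ h1 w1 y hw1]
    exact e2 k'
  obtain ⟨W2, h2, w2, hw2, hW2⟩ := exists_common_germRing_eq Φ k W1 w1 _ _ e2'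
  refine ⟨W2, (h2 ≫ h1) ≫ g, ⟨k, fun k' => rs F (h2 ≫ h1) (t k'),
    fun j k' => (O.obj.map (h2 ≫ h1).op).hom (a j k'), ?_, ?_⟩, w2, ?_⟩
  · intro j
    rw [rs_comp, rs_comp, hW1 j, ← rs_comp]
    exact rs_sum_smul_fin F (h2 ≫ h1) (a j) t
  · intro k'
    have := hW2 k'
    rw [map_zero, map_zero, ← Omap_comp] at this
    rw [← this, map_sum]
    refine Finset.sum_congr rfl fun j _ => ?_
    rw [map_mul, ← Omap_comp]
  · rw [Functor.map_comp, Functor.map_comp]
    change Φ.fiber.map g (Φ.fiber.map h1 (Φ.fiber.map h2 w2)) = x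
    rw [hw2, hw1, hy]

lemma sieve_mem_of_points (PP : ObjectProperty (GrothendieckTopology.Point.{u} J))
    (hP : PP.IsConservativeFamilyOfPoints) (U : C) (S : Sieve U)
    (h : ∀ Φ : GrothendieckTopology.Point.{u} J, PP Φ → ∀ x : Φ.fiber.obj U,
        ∃ (V : C) (g : V ⟶ U), S g ∧ ∃ y : Φ.fiber.obj V, Φ.fiber.map g y = x) : S ∈ J U := by
  let ι : Type u := Σ V : C, {g : V ⟶ U // S g}
  let fam : ∀ i : ι, i.1 ⟶ U := fun i => i.2.1
  have h1 : Sieve.ofArrows (fun i : ι => i.1) fam ∈ J U := by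
    rw [hP.jointly_reflect_ofArrows_mem]
    intro Φ x
    obtain ⟨V, g, hg, y, hy⟩ := h Φ.obj Φ.property x
    exact ⟨⟨V, g, hg⟩, y, hy⟩
  refine J.superset_covering ?_ h1
  rw [Sieve.generate_le_iff]
  rintro V g ⟨i⟩
  exact i.2.2

theorem flat_iff_stalks (PP : ObjectProperty (GrothendieckTopology.Point.{u} J))
    (hP : PP.IsConservativeFamilyOfPoints) (F : Mod O) :
    IsFlat F ↔ ∀ p : GrothendieckTopology.Point.{u} J, PP p →
      Module.Flat (stalkRing p O) (stalkMod p F) := by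
  constructor
  · intro hF p _
    exact stalk_flat p F hF
  · intro h
    exact isFlat_of_stalks PP (fun U S hS => sieve_mem_of_points PP hP U S hS) F h

end Groth.Agent.Lib.Helper42.StalkFlat
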