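import Groth.Prelude.Def_ModSite2
import Groth.Agent.Lib.Helper42.ExtZero
import Groth.Agent.Lib.Helper42.RestrExact
import Groth.Agent.Lib.Helper42.KerDer
import Groth.Agent.Lib.Helper42.RDerComm

/-! Subterminal objects of a ringed site: the counit `j_! j^* A ⟶ A` is a monomorphism, the unit
`I ⟶ j_* j^* I` is a split epimorphism for injective `I`, and the resulting description of the
local cohomology sheaves. -/

set_option autoImplicit false

namespace Groth.Agent.Lib.Helper42.SubTerm

universe u
open CategoryTheory Limits Opposite ModSite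
open Groth.Agent.Lib.Helper42.TensorSheaf Groth.Agent.Lib.Helper42.RestrTensor
open Groth.Agent.Lib.Helper42.ExtPre Groth.Agent.Lib.Helper42.ExtZero

variable {C : Type u} [SmallCategory C] {J : GrothendieckTopology C} (O : Sheaf J CommRingCat.{u})
  (U : C) (hU : ∀ V : C, Subsingleton (V ⟶ U))

include hU in
lemma counitApp_injective (Q : PMod O) (V : C) :
    Function.Injective ((counitApp (U := U) Q).app (op V)) := by
  intro m m' h
  by_cases hne : Nonempty (V ⟶ U)
  · obtain ⟨φ₀⟩ := hne
    have key : ∀ m : (extObj ((pushPre O U).obj Q)).obj (op V),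
        ∃ x, m = ι ((pushPre O U).obj Q) φ₀ x := by
      intro m
      induction m using ext_induction with
      | h0 => exact ⟨0, (map_zero _).symm⟩
      | h1 φ x =>
        have := (hU V).elim φ φ₀
        subst this
        exact ⟨x, rfl⟩
      | h2 a b ha hb =>
        obtain ⟨x, rfl⟩ := ha
        obtain ⟨y, rfl⟩ := hb
        exact ⟨x + y, (map_add _ _ _).symm⟩
    obtain ⟨x, rfl⟩ := key m
    obtain ⟨y, rfl⟩ := key m'
    rw [counitApp_app_ι, counitApp_app_ι] at h
    rw [h]
  · have key : ∀ m : (extObj ((pushPre O U).obj Q)).obj (op V), m = 0 := by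
      intro m
      induction m using ext_induction with
      | h0 => rfl
      | h1 φ x => exact absurd ⟨φ⟩ hne
      | h2 a b ha hb => rw [ha, hb, add_zero]
    rw [key m, key m']

include hU in
lemma mono_counitApp (Q : PMod O) : Mono (counitApp (U := U) Q) :=
  PresheafOfModules.mono_of_injective (fun X => counitApp_injective O U hU Q X.unop)

include hU in
lemma mono_adjL_counit (A : Mod O) : Mono ((adjL O U).counit.app A) := by
  have h := Adjunction.map_restrictFullyFaithful_counit_app (L := L O U) (R := restr O U)
    (adj' O U) (fgtFF O U)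
    (Functor.FullyFaithful.id _)
    (show fgt (O.over U) ⋙ (extPre O U ⋙ shf O) ≅ L O U ⋙ 𝟭 _ from Iso.refl _)
    (Functor.leftUnitor _ ≪≫ comm2 O U) A
  have h' : (adjL O U).counit.app A = _ := h
  rw [h']
  have h3 : PreservesFiniteLimits (shf O) :=
    inferInstanceAs (PreservesFiniteLimits
      (PresheafOfModules.sheafification (𝟙 (ringSh O).obj)))
  have hc : (adj' O U).counit.app A =
      (shf O).map (counitApp (U := U) ((fgt O).obj A)) ≫ (adjS O).counit.app A := rfl
  have : Mono (counitApp (U := U) ((fgt O).obj A)) := mono_counitApp O U hU _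
  have : (fgt O).Full := (SheafOfModules.fullyFaithfulForget (ringSh O)).full
  have : (fgt O).Faithful := (SheafOfModules.fullyFaithfulForget (ringSh O)).faithful
  have : IsIso ((adjS O).counit.app A) := inferInstance
  have hm : (shf O).PreservesMonomorphisms := inferInstance
  have h5 : Mono ((shf O).map (counitApp (U := U) ((fgt O).obj A))) := hm.preserves _
  have h6 : Mono ((shf O).map (counitApp (U := U) ((fgt O).obj A)) ≫ (adjS O).counit.app A) :=
    mono_comp _ _
  have : Mono ((adj' O U).counit.app ((𝟭 (Mod O)).obj A)) := by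
    change Mono ((adj' O U).counit.app A)
    rw [hc]
    exact h6
  infer_instance

variable [HasPushOver O U]

include hU in
lemma epi_unit_of_injective (I : Mod O) [Injective I] :
    Epi ((restrPushOverAdj O U).unit.app I) := by
  let adj1 := adjL O U
  let adj2 := restrPushOverAdj O U
  let N := (restr O U).obj I
  let A := (pushOver O U).obj N
  let g : (restr O U).obj A ⟶ N := adj2.counit.app N
  let gb : (L O U).obj ((restr O U).obj A) ⟶ I := (adj1.homEquiv _ _).symm g
  have : Mono (adj1.counit.app A) := mono_adjL_counit O U hU A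
  let s : A ⟶ I := Injective.factorThru gb (adj1.counit.app A)
  have hs : adj1.counit.app A ≫ s = gb := Injective.comp_factorThru _ _
  have h1 : (restr O U).map s = g := by
    apply (adj1.homEquiv _ _).symm.injective
    rw [Adjunction.homEquiv_counit]
    have := adj1.counit_naturality s
    change (L O U).map ((restr O U).map s) ≫ adj1.counit.app I = _ at this
    rw [this]
    exact hs
  have h2 : s ≫ adj2.unit.app I = 𝟙 A := by
    have := adj2.unit_naturality s
    rw [← this]
    change adj2.unit.app A ≫ (pushOver O U).map ((restr O U).map s) = _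
    rw [h1]
    exact adj2.right_triangle_components N
  exact (IsSplitEpi.mk' ⟨s, h2⟩).epi

open FunctorSESR

instance comp_preservesFiniteLimits : PreservesFiniteLimits (restr O U ⋙ pushOver O U) :=
  have : PreservesLimitsOfSize.{0, 0} (pushOver O U) :=
    (restrPushOverAdj O U).rightAdjoint_preservesLimits
  inferInstance

include hU in
lemma exactOnInj : ExactOnInj (sectOnι O U) (restrPushOverAdj O U).unit where
  zero := by
    ext F : 2
    exact kernel.condition _
  shortExact I _ :=
    { exact := ShortComplex.exact_of_f_is_kernel _ (kernelIsKernel _)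
      mono_f := (inferInstance : Mono (kernel.ι ((restrPushOverAdj O U).unit.app I)))
      epi_g := epi_unit_of_injective O U hU I }

variable [(pushOver O U).Additive] [HasInjectiveResolutions (Mod O)]

/-- `ℋ¹_Z ≅ coker (𝟭 ⟶ j_* j^*)` -/
noncomputable def HZshOneIso : HZsh O U 1 ≅ cokernel (restrPushOverAdj O U).unit :=
  (KerDer.cokerIso (exactOnInj O U hU)).symm

variable [HasInjectiveResolutions (Mod (O.over U))]

/-- `ℋ^{q+2}_Z ≅ j^* ⋙ R^{q+1} j_*` -/
noncomputable def HZshSuccIso (q : ℕ) :
    HZsh O U (q + 2) ≅ restr O U ⋙ (pushOver O U).rightDerived (q + 1) :=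
  (KerDer.shiftIso (exactOnInj O U hU) q).symm ≪≫
    RDerComm.preCompIso (restr O U) (pushOver O U) (q + 1)

end Groth.Agent.Lib.Helper42.SubTerm
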