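import Mathlib.CategoryTheory.Abelian.Basic
import Mathlib.Algebra.Homology.ShortComplex.ShortExact
import Mathlib.CategoryTheory.Abelian.Exact

/-! Third isomorphism theorem in an abelian category: for monomorphisms `A ⟶ B ⟶ C`,
`0 ⟶ B/A ⟶ C/A ⟶ C/B ⟶ 0` is short exact. -/

set_option autoImplicit false
universe v u

open CategoryTheory Category Limits

namespace Groth.Agent.Lib.Helper42.ThirdIso

variable {C : Type u} [Category.{v} C] [Abelian C] {A B D : C}

theorem shortExact (f : A ⟶ B) (g : B ⟶ D) (k : A ⟶ D) (e : f ≫ g = k) [Mono f] [Mono g] :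
    ∃ w : cokernel.map f k (𝟙 A) g (by rw [id_comp, e]) ≫
        cokernel.map k g f (𝟙 D) (by rw [comp_id, e]) = 0,
      (ShortComplex.mk _ _ w).ShortExact := by
  subst e
  have w : cokernel.map f (f ≫ g) (𝟙 A) g (by rw [id_comp]) ≫
      cokernel.map (f ≫ g) g f (𝟙 D) (by rw [comp_id]) = 0 := by
    apply coequalizer.hom_ext
    simp
  refine ⟨w, ?_⟩
  have hepi : Epi (cokernel.map (f ≫ g) g f (𝟙 D) (by rw [comp_id])) := by
    have h1 : cokernel.π (f ≫ g) ≫ cokernel.map (f ≫ g) g f (𝟙 D) (by rw [comp_id]) =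
        cokernel.π g := by simp
    exact epi_of_epi_fac h1
  have hmono : Mono (cokernel.map f (f ≫ g) (𝟙 A) g (by rw [id_comp])) := by
    apply Preadditive.mono_of_cancel_zero
    intro K k hk
    have hp : pullback.snd k (cokernel.π f) ≫ g ≫ cokernel.π (f ≫ g) = 0 := by
      have h2 : cokernel.π f ≫ cokernel.map f (f ≫ g) (𝟙 A) g (by rw [id_comp]) =
          g ≫ cokernel.π (f ≫ g) := by simp
      rw [← h2, ← pullback.condition_assoc, hk, comp_zero]
    have hker : IsLimit (KernelFork.ofι (f ≫ g) (cokernel.condition (f ≫ g))) :=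
      Abelian.monoIsKernelOfCokernel _ (colimit.isColimit _)
    obtain ⟨q, hq⟩ := KernelFork.IsLimit.lift' hker (pullback.snd k (cokernel.π f) ≫ g)
      (by rw [assoc]; exact hp)
    have hq' : q ≫ f = pullback.snd k (cokernel.π f) := by
      rw [← cancel_mono g, assoc]
      exact hq
    have h3 : pullback.fst k (cokernel.π f) ≫ k = 0 := by
      rw [pullback.condition, ← hq', assoc, cokernel.condition, comp_zero]
    exact (cancel_epi (pullback.fst k (cokernel.π f))).1 (by rw [h3, comp_zero])
  refine ShortComplex.ShortExact.mk' ?_ hmono hepi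
  apply ShortComplex.exact_of_g_is_cokernel
  refine CokernelCofork.IsColimit.ofπ _ _
    (fun {T} t ht => cokernel.desc g (cokernel.π (f ≫ g) ≫ t) ?_) ?_ ?_
  · have h2 : cokernel.π f ≫ cokernel.map f (f ≫ g) (𝟙 A) g (by rw [id_comp]) =
        g ≫ cokernel.π (f ≫ g) := by simp
    rw [← assoc, ← h2, assoc, ht, comp_zero]
  · intro T t ht
    apply coequalizer.hom_ext
    simp
  · intro T t ht s hs
    apply coequalizer.hom_ext
    rw [cokernel.π_desc, ← hs]
    simp

end Groth.Agent.Lib.Helper42.ThirdIso
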